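import Mathlib
import Cfsg.Statements.S3133
import Cfsg.Agent.SF6.Phi
import Cfsg.Agent.GT.PPrimeCore

/-! A simple group `X` with an involutory outer automorphism whose centraliser is `Sp₆(2)`. -/

set_option autoImplicit false
set_option linter.unusedSectionVars false
set_option maxRecDepth 100000
set_option synthInstance.maxSize 100000
set_option synthInstance.maxHeartbeats 1000000

namespace Cfsg.Agent.S33

open Cfsg Cfsg.Agent.Rec Cfsg.Agent.Spor Cfsg.Agent.Loc.Mss Cfsg.Agent.SF6 Subgroup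
open scoped commutatorElement

variable {G : Type*} [Group G] [Finite G]

/-- The simple groups of the conclusion. -/
def Concl (F : Type*) [Field F] (X : Type*) [Group X] : Prop :=
  Nonempty (X ≃* Cfsg.POmega F (Cfsg.quadFormPlus 4 F)) ∨
    (∃ a b : F, (∀ z₁ z₂ : F, z₁ ^ 2 + a * z₁ * z₂ + b * z₂ ^ 2 = 0 → z₁ = 0 ∧ z₂ = 0) ∧
      Nonempty (X ≃* Cfsg.POmega F (Cfsg.quadFormMinus 3 F a b))) ∨
    (∃ (K : Type) (_ : Field K) (_ : Fintype K), Fintype.card K = 4 ∧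
      (Nonempty (X ≃* Cfsg.PSU 6 K 2) ∨ Nonempty (X ≃* Cfsg.PSU 7 K 2) ∨ Nonempty (X ≃* Cfsg.PSp 3 K))) ∨
    Nonempty (X ≃* Matrix.ProjectiveSpecialLinearGroup (Fin 6) F) ∨
    Nonempty (X ≃* Matrix.ProjectiveSpecialLinearGroup (Fin 7) F)

/-- `G = X⟨t⟩` with `X` simple of index two, `C_X(t) = L ≠ X`, and trivial cores of the 2-local subgroups of `X`. -/
structure Co (G : Type*) [Group G] extends Cfg G where
  X : Subgroup G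
  idx : X.index = 2
  tX : t ∉ X
  simple : IsSimpleGroup X
  ne : toPre.L ≠ X
  bal : ∀ Y ≤ X, IsPGroup 2 Y → ∀ O ≤ X ⊓ 𝐍[Y], Odd (Nat.card O) → X ⊓ 𝐍[Y] ≤ 𝐍[O] → O = ⊥

namespace Co

variable (s : Co G)

instance normal : s.X.Normal := normal_of_index_eq_two s.idx

theorem mul_X {a b : G} : a * b ∈ s.X ↔ (a ∈ s.X ↔ b ∈ s.X) := mul_mem_iff_of_index_two s.idx

theorem memX (g : G) : g ∈ s.X ∨ s.t * g ∈ s.X := by
  have := s.tX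
  rw [s.mul_X]; tauto

theorem memX' (g : G) : g ∈ s.X ∨ g * s.t ∈ s.X := by
  have := s.tX
  rw [s.mul_X]; tauto

theorem comm_X (a b : G) : a * b * a⁻¹ * b⁻¹ ∈ s.X := by
  simp only [s.mul_X, inv_mem_iff]; tauto

theorem sq_X (a : G) : a * a ∈ s.X := s.mul_X.2 Iff.rfl

theorem conj_X {a g : G} : g * a * g⁻¹ ∈ s.X ↔ a ∈ s.X := by
  simp only [s.mul_X, inv_mem_iff]; tauto

theorem D_nX {d : G} (hd : d ∈ s.D) : d ∉ s.X := by
  obtain ⟨g, rfl⟩ := isConj_iff.1 hd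
  exact fun h => s.tX (s.conj_X.1 h)

theorem L_le : s.L ≤ s.X := by
  have k : s.x3 = s.x2 * s.m * s.x2⁻¹ * s.m⁻¹ * (s.a * s.n * s.a⁻¹ * s.n⁻¹) ∧
      s.w3 = s.x3 * s.w3 * s.x3 * (s.x3 * s.w3)⁻¹ ∧ s.r = s.c * s.m * s.c⁻¹ * s.m⁻¹ ∧
      s.n = s.c * s.m * s.c⁻¹ * s.m⁻¹ * (s.n * s.r * s.n⁻¹ * s.r⁻¹) ∧ s.d = s.c * s.n * s.c⁻¹ * s.n⁻¹ ∧
      s.m = s.c * s.n * s.c⁻¹ * s.n⁻¹ * (s.m * s.d * s.m⁻¹ * s.d⁻¹) := s.hL.decide s.rep (by decide +kernel)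
  obtain ⟨k1, k2, k3, k4, k5, k6⟩ := k
  have h1 : s.x3 ∈ s.X := k1 ▸ mul_mem (s.comm_X _ _) (s.comm_X _ _)
  refine clos_le.2 ?_
  simp only [List.forall_mem_cons, List.not_mem_nil, false_imp_iff, implies_true, and_true]
  exact ⟨h1, k2 ▸ s.conj_X.2 h1, k3 ▸ s.comm_X _ _, k4 ▸ mul_mem (s.comm_X _ _) (s.comm_X _ _), k5 ▸ s.comm_X _ _,
    k6 ▸ mul_mem (s.comm_X _ _) (s.comm_X _ _)⟩

/-- `C_X(t) = L`. -/
theorem cent_X {g : G} (hg : g ∈ s.X) (h : g * s.t = s.t * g) : g ∈ s.L :=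
  (s.cent g h).resolve_right fun k => s.tX ((mul_mem_cancel_right hg).1 (s.L_le k))

/-- A conjugate of `t` commuting with `t` lies in `t L`. -/
theorem D_cent {d : G} (hd : d ∈ s.D) (h : d * s.t = s.t * d) : s.t * d ∈ s.L :=
  (s.cent d h).resolve_left fun k => s.D_nX hd (s.L_le k)

theorem D_X {d : G} (hd : d ∈ s.D) : ∃ g ∈ s.X, g * s.t * g⁻¹ = d := by
  obtain ⟨g, rfl⟩ := isConj_iff.1 hd
  rcases s.memX' g with h | h
  · exact ⟨g, h, rfl⟩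
  · exact ⟨g * s.t, h, by group⟩

/-- General form of `bal`: `M` is normal in `N_X(Y)`. -/
theorem balM {Y M : Subgroup G} (hY : Y ≤ s.X) (h2 : IsPGroup 2 Y) (hM : M ≤ s.X ⊓ 𝐍[Y]) (hn : s.X ⊓ 𝐍[Y] ≤ 𝐍[M])
    {O : Subgroup G} (hO : O ≤ M) (ho : Odd (Nat.card O)) (hn' : M ≤ 𝐍[O]) : O = ⊥ :=
  le_bot_iff.1 ((GT.le_pPrimeCoreOf hO hn' (Nat.coprime_two_right.2 ho)).trans (s.bal Y hY h2 _
    ((GT.pPrimeCoreOf_le M).trans hM) (Nat.coprime_two_right.1 (GT.coprime_card_pPrimeCoreOf 2 M))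
    (hn.trans (GT.normalizer_le_normalizer_pPrimeCoreOf M))).le)

/-- `O(C_X(Y)) = 1`. -/
theorem balC {Y : Subgroup G} (hY : Y ≤ s.X) (h2 : IsPGroup 2 Y) {O : Subgroup G} (hO : O ≤ s.X ⊓ 𝐂[Y])
    (ho : Odd (Nat.card O)) (hn : s.X ⊓ 𝐂[Y] ≤ 𝐍[O]) : O = ⊥ :=
  s.balM hY h2 (inf_le_inf_left _ (centralizer_le_normalizer _))
    (norm_inf (norm_normal _ _) (norm_cent inf_le_right)) hO ho hn

end Co

end Cfsg.Agent.S33
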