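import Mathlib
import Cfsg.Agent.S33.Defs
import Cfsg.Agent.UT.Cov

/-! An involution with centraliser `⟨t⟩ × Sp₆(2) × O`, `O` of odd order, and the quotient `N(O)/O`. -/

set_option autoImplicit false
set_option linter.unusedSectionVars false

namespace Cfsg.Agent.S33

open Cfsg Cfsg.Agent.Rec Cfsg.Agent.Spor Cfsg.Agent.Loc.Mss Cfsg.Agent.SF6 Subgroup

universe u

/-- `C(t) = ⟨t⟩ × L × O` with `O` of odd order. -/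
structure Cf1 (G : Type*) [Group G] extends Pre G where
  O : Subgroup G
  odd : Odd (Nat.card O)
  OL : ∀ o ∈ O, ∀ l ∈ toPre.L, o * l = l * o
  Ot : ∀ o ∈ O, o * t = t * o
  cent : ∀ g, g * t = t * g → ∃ o ∈ O, o * g ∈ toPre.L ∨ t * (o * g) ∈ toPre.L

/-- The 2-local subgroups of `X` have trivial cores. -/
def Bal {G : Type*} [Group G] (X : Subgroup G) : Prop :=
  ∀ Y ≤ X, IsPGroup 2 Y → ∀ O ≤ X ⊓ 𝐍[Y], Odd (Nat.card O) → X ⊓ 𝐍[Y] ≤ 𝐍[O] → O = ⊥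

/-- A 2-subgroup `R` of `X` normalised by `t` with `1 ≠ [R, t] ≤ L`. -/
def Wit {G : Type*} [Group G] (X L : Subgroup G) (t : G) : Prop :=
  ∃ R ≤ X, IsPGroup 2 R ∧ (∀ r ∈ R, t * r * t⁻¹ ∈ R ∧ r * t * r⁻¹ * t⁻¹ ∈ L) ∧ ∃ r ∈ R, r * t ≠ t * r

/-- The letters. -/
def lets {G : Type*} [Group G] (s : Pre G) : List G :=
  [s.t, s.x1, s.x2, s.x3, s.x12, s.x13, s.x23, s.x123, s.y, s.a, s.b, s.c, s.d, s.r, s.w2, s.w3, s.n, s.m]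

/-- `K = N(O)/O` with the images of the letters. -/
structure Qd {G : Type u} [Group G] (s : Cf1 G) (K : Type u) [Group K] where
  c : UT.Cov G K
  q : Cfg K
  hM : c.M = 𝐍[s.O]
  hW : c.W = s.O
  eq : lets q.toPre = (lets s.toPre).map c.f

variable {G K : Type u} [Group G] [Group K]

/-- A configuration without odd part. -/
def Cf1.of {G : Type*} [Group G] (s : Cfg G) : Cf1 G where
  toPre := s.toPre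
  O := ⊥
  odd := by simp
  OL o ho l _ := by rw [mem_bot.1 ho, one_mul, mul_one]
  Ot o ho := by rw [mem_bot.1 ho, one_mul, mul_one]
  cent g hg := ⟨1, one_mem _, by simpa using s.cent g hg⟩

namespace Qd

variable {s : Cf1 G} (Q : Qd s K) {x y g : G}

/-- The quotient map. -/
abbrev f : G → K := Q.c.f

/-- `P` is the 2-subgroup of `C(O)` over `R`. -/
structure Up (P : Subgroup G) (R : Subgroup K) : Prop where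
  pg : IsPGroup 2 P
  cen : P ≤ 𝐂[s.O]
  map : ∀ p ∈ P, Q.f p ∈ R
  onto : ∀ k ∈ R, ∃ p ∈ P, Q.f p = k
  all : ∀ x ∈ 𝐍[s.O], (∃ k : ℕ, x ^ 2 ^ k = 1) → Q.f x ∈ R → x ∈ P

theorem mem (h : x ∈ 𝐍[s.O]) : x ∈ Q.c.M := Q.hM ▸ h
theorem mem' (h : x ∈ Q.c.M) : x ∈ 𝐍[s.O] := Q.hM ▸ h
theorem one : Q.f 1 = 1 := Q.c.one
theorem mul (hx : x ∈ 𝐍[s.O]) (hy : y ∈ 𝐍[s.O]) : Q.f (x * y) = Q.f x * Q.f y := Q.c.mul (Q.mem hx) (Q.mem hy)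
theorem inv (hx : x ∈ 𝐍[s.O]) : Q.f x⁻¹ = (Q.f x)⁻¹ := Q.c.inv (Q.mem hx)
theorem pow (hx : x ∈ 𝐍[s.O]) (n : ℕ) : Q.f (x ^ n) = Q.f x ^ n := Q.c.pow (Q.mem hx) n
theorem conj (hg : g ∈ 𝐍[s.O]) (hx : x ∈ 𝐍[s.O]) : Q.f (g * x * g⁻¹) = Q.f g * Q.f x * (Q.f g)⁻¹ :=
  Q.c.conj (Q.mem hg) (Q.mem hx)
theorem ker (hx : x ∈ 𝐍[s.O]) : Q.f x = 1 ↔ x ∈ s.O := Q.hW ▸ Q.c.ker (Q.mem hx)
theorem eq_iff (hx : x ∈ 𝐍[s.O]) (hy : y ∈ 𝐍[s.O]) : Q.f x = Q.f y ↔ x⁻¹ * y ∈ s.O :=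
  Q.hW ▸ Q.c.eq_iff (Q.mem hx) (Q.mem hy)
theorem surj (k : K) : ∃ x ∈ 𝐍[s.O], Q.f x = k := Q.hM ▸ Q.c.surj k
theorem sq (hx : x ∈ 𝐍[s.O]) (h : x * x = 1) : Q.f x * Q.f x = 1 := Q.c.sq (Q.mem hx) h
theorem comm (hx : x ∈ 𝐍[s.O]) (hy : y ∈ 𝐍[s.O]) (h : x * y = y * x) : Q.f x * Q.f y = Q.f y * Q.f x :=
  Q.c.comm (Q.mem hx) (Q.mem hy) h
theorem inj [Finite G] {P : Subgroup G} (hP : IsPGroup 2 P) (h : P ≤ 𝐍[s.O]) (hx : x ∈ P) (hy : y ∈ P)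
    (e : Q.f x = Q.f y) : x = y := Q.c.inj hP (Q.hM ▸ h) hx hy e
theorem lift1 [Finite G] (hx : x ∈ 𝐍[s.O]) (hy : y ∈ 𝐍[s.O]) (x2 : x * x = 1) (y2 : y * y = 1) {k : K}
    (e : k * Q.f x * k⁻¹ = Q.f y) : ∃ n ∈ 𝐍[s.O], Q.f n = k ∧ n * x * n⁻¹ = y :=
  Q.hM ▸ Q.c.lift1 (Q.mem hx) (Q.mem hy) x2 y2 e

/-- The letters of the quotient. -/
theorem letters : Q.q.t = Q.f s.t ∧ Q.q.x1 = Q.f s.x1 ∧ Q.q.x2 = Q.f s.x2 ∧ Q.q.x3 = Q.f s.x3 ∧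
    Q.q.x12 = Q.f s.x12 ∧ Q.q.x13 = Q.f s.x13 ∧ Q.q.x23 = Q.f s.x23 ∧ Q.q.x123 = Q.f s.x123 ∧ Q.q.y = Q.f s.y ∧
    Q.q.a = Q.f s.a ∧ Q.q.b = Q.f s.b ∧ Q.q.c = Q.f s.c ∧ Q.q.d = Q.f s.d ∧ Q.q.r = Q.f s.r ∧ Q.q.w2 = Q.f s.w2 ∧
    Q.q.w3 = Q.f s.w3 ∧ Q.q.n = Q.f s.n ∧ Q.q.m = Q.f s.m := by
  simpa only [lets, List.map_cons, List.map_nil, List.cons.injEq, and_true] using Q.eq

theorem et : Q.q.t = Q.f s.t := Q.letters.1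

end Qd

end Cfsg.Agent.S33
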