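import Mathlib
import Cfsg.Agent.S33.P1Defs
import Cfsg.Agent.S2091
import Cfsg.Agent.S0279
import Cfsg.Agent.Ch.UniversalCover
import Cfsg.Agent.Ch.Multiplier
import Cfsg.Agent.Cl.UGen

set_option autoImplicit false
set_option linter.unusedSectionVars false

namespace Cfsg.Agent.S33

open Cfsg Cfsg.Agent.Rec Cfsg.Agent.Spor Cfsg.Agent.Loc.Mss Cfsg.Agent.SF6 Subgroup
open scoped commutatorElement

universe u

variable {G : Type*} [Group G] [Finite G]

theorem P1SU_card {Γ Q : Type*} [Group Γ] [Group Q] {σ : Γ →* Q} (h : Function.Surjective σ) :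
    Nat.card Γ = Nat.card σ.ker * Nat.card Q := by
  rw [← σ.ker.card_mul_index, index_ker, MonoidHom.range_eq_top.2 h, card_top]

theorem P1SU_lift [Group.IsPerfect G] {Γ Q : Type*} [Group Γ] [Finite Γ] [Group Q] {σ : Γ →* Q}
    (hσ : Function.Surjective σ) (h12 : Nat.card σ.ker = 12) {ξ : G →* Q} (hs : Function.Surjective ξ)
    (hc : ξ.ker ≤ center G) (h3 : Nat.card ξ.ker = 3) {η : Γ →* G} (hη : ξ.comp η = σ) :
    Function.Surjective η ∧ ∀ g, g ∈ η.ker ↔ g ∈ σ.ker ∧ g ^ 4 = 1 := by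
  have hη' : ∀ g, ξ (η g) = σ g := DFunLike.congr_fun hη
  have key : ∀ x : G, ∃ g, ∃ z ∈ center G, x = η g * z := fun x => by
    obtain ⟨g, hg⟩ := hσ (ξ x)
    exact ⟨g, (η g)⁻¹ * x, hc (by rw [MonoidHom.mem_ker, map_mul, map_inv, hη', hg, inv_mul_cancel]), by group⟩
  have h1 : Function.Surjective η := by
    rw [← MonoidHom.range_eq_top, eq_top_iff, ← Group.isPerfect_def.1 inferInstance, commutator_def]
    refine commutator_le.2 fun x _ y _ => ?_
    obtain ⟨g, z, hz, rfl⟩ := key x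
    obtain ⟨g', z', hz', rfl⟩ := key y
    refine ⟨⁅g, g'⁆, ?_⟩
    have a1 := mem_center_iff.1 hz
    have a2 := mem_center_iff.1 hz'
    rw [map_commutatorElement, commutatorElement_def, commutatorElement_def]
    calc _ = η g * (η g' * z' * z'⁻¹) * (z * z⁻¹) * (η g)⁻¹ * (η g')⁻¹ := by group
      _ = η g * (η g' * z' * z) * z⁻¹ * (z'⁻¹ * (η g)⁻¹) * (η g')⁻¹ := by
        have b : z'⁻¹ * (z * z⁻¹) = z * z⁻¹ * z'⁻¹ := by group
        simp only [mul_assoc, mul_inv_cancel_left, mul_inv_cancel, one_mul]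
      _ = η g * (z * (η g' * z')) * z⁻¹ * ((η g)⁻¹ * z'⁻¹) * (η g')⁻¹ := by
        rw [a1, mem_center_iff.1 (inv_mem hz') (η g)⁻¹]
      _ = _ := by group
  have : Finite Q := Finite.of_surjective σ hσ
  have h4 : Nat.card η.ker = 4 := by
    have e1 := P1SU_card hσ
    rw [P1SU_card h1, P1SU_card hs, h12, h3, ← mul_assoc] at e1
    have := Nat.eq_of_mul_eq_mul_right Nat.card_pos e1
    omega
  refine ⟨h1, fun g => ⟨fun hg => ⟨by rw [MonoidHom.mem_ker, ← hη', hg, map_one], ?_⟩, fun ⟨k1, k2⟩ => ?_⟩⟩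
  · exact congrArg Subtype.val (h4 ▸ pow_card_eq_one' (x := (⟨g, hg⟩ : η.ker)))
  · have k3 : η g ^ 3 = 1 :=
      congrArg Subtype.val (h3 ▸ pow_card_eq_one' (x := (⟨η g, (hη' g).trans k1⟩ : ξ.ker)))
    have k4 : η g ^ 4 = 1 := by rw [← map_pow, k2, map_one]
    rwa [pow_succ, k3, one_mul] at k4

/-- Perfect central extensions of `PSU₆(2)` with kernel of odd order. -/
theorem su6 [Group.IsPerfect G] {K : Type} [Field K] [Fintype K] (hK : Fintype.card K = 4) (ξ : G →* PSU 6 K 2)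
    (hs : Function.Surjective ξ) (hc : ξ.ker ≤ center G) (ho : Odd (Nat.card ξ.ker)) :
    Nonempty (G ≃* PSU 6 K 2) ∨ Nonempty (G ≃* SU 6 K 2) := by
  have hM := S2091.result hK
  have cA : Nat.card (Multiplicative (ZMod 3 × ZMod 2 × ZMod 2)) = 12 := by simp
  have h1 := hM.card_ker_dvd ξ (Ch.isStemExtension_of_isPerfect hs hc)
  rw [cA] at h1
  have h2 : Nat.card ξ.ker ∣ 3 :=
    (Nat.Coprime.pow_right 2 (Nat.coprime_two_right.2 ho)).dvd_of_dvd_mul_right h1
  rcases (Nat.dvd_prime Nat.prime_three).1 h2 with h3 | h3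
  · exact .inl ⟨MulEquiv.ofBijective ξ ⟨(MonoidHom.ker_eq_bot_iff ξ).1 (card_eq_one.1 h3), hs⟩⟩
  right
  have hK' : Fintype.card K = 2 ^ 2 := hK
  obtain ⟨τ, hq⟩ := Cl.exists_uField hK'
  have : Group.IsPerfect (SU 6 K 2) := Group.isPerfect_def.2 (hq.commutator_SU (by norm_num) (by norm_num))
  have : Group.IsPerfect (PSU 6 K 2) := inferInstance
  obtain ⟨Γ, _, _, σ, hσ, ⟨e⟩⟩ := hM.1
  have h12 : Nat.card σ.ker = Nat.card (Multiplicative (ZMod 3 × ZMod 2 × ZMod 2)) := Nat.card_congr e.toEquiv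
  obtain ⟨η, hη⟩ := Ch.exists_lift_of_cover hM hσ h12 hs hc
  have hs' := QuotientGroup.mk'_surjective (center (SU 6 K 2))
  have hc' := (QuotientGroup.ker_mk' (center (SU 6 K 2))).le
  obtain ⟨η', hη'⟩ := Ch.exists_lift_of_cover hM hσ h12 hs' hc'
  obtain ⟨a1, a2⟩ := P1SU_lift hσ.1 (h12.trans cA) hs hc h3 hη
  obtain ⟨b1, b2⟩ := P1SU_lift hσ.1 (h12.trans cA) hs' hc' (by
    rw [QuotientGroup.ker_mk', S0279.result hK' 6 (by norm_num)]; norm_num) hη'
  exact ⟨(QuotientGroup.quotientKerEquivOfSurjective η a1).symm.trans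
    ((QuotientGroup.quotientMulEquivOfEq (Subgroup.ext fun g => (a2 g).trans (b2 g).symm)).trans
      (QuotientGroup.quotientKerEquivOfSurjective η' b1))⟩

end Cfsg.Agent.S33
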