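import Mathlib
import Cfsg.Agent.S33.P1SU
import Cfsg.Agent.Ch.BiExt
import Cfsg.Agent.Ch.UniversalCover
import Cfsg.Agent.S2086
import Cfsg.Agent.S2089
import Cfsg.Agent.S2092
import Cfsg.Agent.S2093
import Cfsg.Agent.S2098
import Cfsg.Agent.S2099

set_option autoImplicit false
set_option linter.unusedSectionVars false
set_option maxRecDepth 100000
set_option synthInstance.maxSize 100000
set_option synthInstance.maxHeartbeats 1000000

namespace Cfsg.Agent.S33

open Cfsg Cfsg.Agent.Rec Cfsg.Agent.Spor Cfsg.Agent.Loc.Mss Cfsg.Agent.SF6 Subgroup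
open scoped commutatorElement

universe u

variable {G : Type*} [Group G] [Finite G]

theorem p1mul_ker [Group.IsPerfect G] {Q A : Type*} [Group Q] [CommGroup A] (m : HasSchurMultiplier Q A)
    (hA : Nat.card A ∣ 4) (ξ : G →* Q) (hs : Function.Surjective ξ) (hc : ξ.ker ≤ center G)
    (ho : Odd (Nat.card ξ.ker)) : ξ.ker = ⊥ :=
  card_eq_one.1 (Nat.Coprime.eq_one_of_dvd ((Nat.coprime_two_right.2 ho).pow_right 2)
    ((m.card_ker_dvd ξ (Ch.isStemExtension_of_isPerfect hs hc)).trans hA))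

theorem p1mul_iso [Group.IsPerfect G] {X Q A : Type*} [Group X] [Group Q] [CommGroup A] (m : HasSchurMultiplier Q A)
    (hA : Nat.card A ∣ 4) (e : X ≃* Q) (ξ : G →* X) (hs : Function.Surjective ξ) (hc : ξ.ker ≤ center G)
    (ho : Odd (Nat.card ξ.ker)) : Nonempty (G ≃* Q) := by
  have hk : (e.toMonoidHom.comp ξ).ker = ξ.ker := MonoidHom.ker_comp_of_injective _ _ e.injective
  have hs' : Function.Surjective (e.toMonoidHom.comp ξ) := e.surjective.comp hs
  exact ⟨MulEquiv.ofBijective _ ⟨(MonoidHom.ker_eq_bot_iff _).1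
    (p1mul_ker m hA _ hs' (hk ▸ hc) (hk ▸ ho)), hs'⟩⟩

/-- Perfect central extensions with kernel of odd order of the groups in the conclusion. -/
theorem concl_lift [Group.IsPerfect G] {F : Type*} [Field F] [Fintype F] (hF : Fintype.card F = 2) {X : Type*}
    [Group X] (h : Concl F X) (ξ : G →* X) (hs : Function.Surjective ξ) (hc : ξ.ker ≤ center G)
    (ho : Odd (Nat.card ξ.ker)) :
    Concl F G ∨ ∃ (K : Type) (_ : Field K) (_ : Fintype K), Fintype.card K = 4 ∧ Nonempty (G ≃* SU 6 K 2) := by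
  have c : ∀ n, n = 1 → Nat.card (Multiplicative (ZMod n)) ∣ 4 := by
    rintro _ rfl
    simp
  rcases h with ⟨⟨e⟩⟩ | ⟨a, b, hab, ⟨e⟩⟩ | ⟨K, _, _, hK, ⟨⟨e⟩⟩ | ⟨⟨e⟩⟩ | ⟨⟨e⟩⟩⟩ | ⟨⟨e⟩⟩ | ⟨⟨e⟩⟩
  · exact .inl (.inl (p1mul_iso (S2098.result hF) (by simp) e ξ hs hc ho))
  · exact .inl (.inr (.inl ⟨a, b, hab,
      p1mul_iso (S2099.result hF 4 le_rfl a b hab) (c _ (by norm_num)) e ξ hs hc ho⟩))
  · have hk : (e.toMonoidHom.comp ξ).ker = ξ.ker := MonoidHom.ker_comp_of_injective _ _ e.injective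
    rcases su6 hK (e.toMonoidHom.comp ξ) (e.surjective.comp hs) (hk ▸ hc) (hk ▸ ho) with h | h
    · exact .inl (.inr (.inr (.inl ⟨K, _, _, hK, .inl h⟩)))
    · exact .inr ⟨K, _, _, hK, h⟩
  · exact .inl (.inr (.inr (.inl ⟨K, _, _, hK, .inr (.inl (p1mul_iso
      (S2089.result 7 2 hK (by norm_num) (by norm_num) (by simp)) (c _ (by norm_num)) e ξ hs hc ho))⟩)))
  · exact .inl (.inr (.inr (.inl ⟨K, _, _, hK, .inr (.inr (p1mul_iso
      (S2092.result hK 3 (by norm_num) (by norm_num) (by norm_num)) (c _ (by norm_num)) e ξ hs hc ho))⟩)))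
  · exact .inl (.inr (.inr (.inr (.inl (p1mul_iso
      (S2086.result hF 6 (by norm_num) (by norm_num) (by simp)) (c _ (by norm_num)) e ξ hs hc ho)))))
  · exact .inl (.inr (.inr (.inr (.inr (p1mul_iso
      (S2086.result hF 7 (by norm_num) (by norm_num) (by simp)) (c _ (by norm_num)) e ξ hs hc ho)))))

theorem prod_lift [Group.IsPerfect G] {F : Type*} [Field F] [Fintype F] (hF : Fintype.card F = 2)
    (ξ : G →* PSp 3 F × PSp 3 F) (hc : ξ.ker ≤ center G) (hs : Function.Surjective ξ) (ho : Odd (Nat.card ξ.ker)) :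
    ξ.ker = ⊥ := by
  have hp : Group.IsPerfect (PSp 3 F) :=
    Group.IsPerfect.ofSurjective (f := (MonoidHom.fst _ _).comp ξ) (Prod.fst_surjective.comp hs)
  have hab : Nat.card (Abelianization (PSp 3 F)) = 1 := by
    rw [Abelianization, ← index_eq_card, index_eq_one]
    exact Group.IsPerfect.commutator_eq_top
  exact p1mul_ker (HasSchurMultiplier.prod_of_coprime (S2093.result hF) (S2093.result hF)
    (by rw [hab]; exact Nat.coprime_one_left _)) (by simp) ξ hs hc ho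

end Cfsg.Agent.S33
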