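import Mathlib
import Cfsg.Agent.S33.LChk2

/-! Facts on `L₄(2).2`. -/

set_option autoImplicit false
set_option linter.unusedSectionVars false
set_option maxRecDepth 100000
set_option synthInstance.maxSize 100000
set_option synthInstance.maxHeartbeats 1000000
set_option exponentiation.threshold 100000

namespace Cfsg.Agent.S33

open Cfsg Cfsg.Agent.Rec Cfsg.Agent.Spor Cfsg.Agent.Loc.Mss Cfsg.Agent.SF6 Subgroup Matrix

noncomputable def l40_D : ST :=
(.node (nat_lit 0x80c02030080c0203) (.node (nat_lit 0x80482032080c0201) (.node (nat_lit 0x8040a05008040a05) (.node (nat_lit 0x8040601008040601) (.node (nat_lit 0x8040285408040a01) (.node (nat_lit 0x8040209008040209) (.leaf (nat_lit 0x8040201008040201) (nat_lit 0))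
 (.leaf (nat_lit 0x8040209008040209) (nat_lit 2050))
) (.node (nat_lit 0x804028d408040a09) (.leaf (nat_lit 0x8040285408040a01) (nat_lit 1538))
 (.leaf (nat_lit 0x804028d408040a09) (nat_lit 1026))
)) (.node (nat_lit 0x8040685408040e01) (.node (nat_lit 0x8040609008040609) (.leaf (nat_lit 0x8040601008040601) (nat_lit 769))
 (.leaf (nat_lit 0x8040609008040609) (nat_lit 1794))
) (.node (nat_lit 0x804068d408040e09) (.leaf (nat_lit 0x8040685408040e01) (nat_lit 1282))
 (.leaf (nat_lit 0x804068d408040e09) (nat_lit 1794))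
))) (.node (nat_lit 0x8040e05008040e05) (.node (nat_lit 0x8040a81408040205) (.node (nat_lit 0x8040a0d008040a0d) (.leaf (nat_lit 0x8040a05008040a05) (nat_lit 1538))
 (.leaf (nat_lit 0x8040a0d008040a0d) (nat_lit 1025))
) (.node (nat_lit 0x8040a8940804020d) (.leaf (nat_lit 0x8040a81408040205) (nat_lit 1538))
 (.leaf (nat_lit 0x8040a8940804020d) (nat_lit 1538))
)) (.node (nat_lit 0x8040e81408040605) (.node (nat_lit 0x8040e0d008040e0d) (.leaf (nat_lit 0x8040e05008040e05) (nat_lit 1794))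
 (.leaf (nat_lit 0x8040e0d008040e0d) (nat_lit 256))
) (.node (nat_lit 0x8040e8940804060d) (.leaf (nat_lit 0x8040e81408040605) (nat_lit 770))
 (.leaf (nat_lit 0x8040e8940804060d) (nat_lit 1794))
)))) (.node (nat_lit 0x8048a07a080c0a0d) (.node (nat_lit 0x80486076080c0601) (.node (nat_lit 0x80482876080c0a01) (.node (nat_lit 0x804820b2080c0209) (.leaf (nat_lit 0x80482032080c0201) (nat_lit 1281))
 (.leaf (nat_lit 0x804820b2080c0209) (nat_lit 768))
) (.node (nat_lit 0x804828f6080c0a09) (.leaf (nat_lit 0x80482876080c0a01) (nat_lit 258))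
 (.leaf (nat_lit 0x804828f6080c0a09) (nat_lit 1792))
)) (.node (nat_lit 0x80486832080c0e01) (.node (nat_lit 0x804860f6080c0609) (.leaf (nat_lit 0x80486076080c0601) (nat_lit 1025))
 (.leaf (nat_lit 0x804860f6080c0609) (nat_lit 1536))
) (.node (nat_lit 0x804868b2080c0e09) (.leaf (nat_lit 0x80486832080c0e01) (nat_lit 1026))
 (.leaf (nat_lit 0x804868b2080c0e09) (nat_lit 1536))
))) (.node (nat_lit 0x8048e03e080c0e0d) (.node (nat_lit 0x8048a83e080c020d) (.node (nat_lit 0x8048a0fa080c0a05) (.leaf (nat_lit 0x8048a07a080c0a0d) (nat_lit 1281))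
 (.leaf (nat_lit 0x8048a0fa080c0a05) (nat_lit 1280))
) (.node (nat_lit 0x8048a8be080c0205) (.leaf (nat_lit 0x8048a83e080c020d) (nat_lit 1282))
 (.leaf (nat_lit 0x8048a8be080c0205) (nat_lit 1280))
)) (.node (nat_lit 0x8048e87a080c060d) (.node (nat_lit 0x8048e0be080c0e05) (.leaf (nat_lit 0x8048e03e080c0e0d) (nat_lit 1537))
 (.leaf (nat_lit 0x8048e0be080c0e05) (nat_lit 512))
) (.node (nat_lit 0x8048e8fa080c0605) (.leaf (nat_lit 0x8048e87a080c060d) (nat_lit 514))
 (.leaf (nat_lit 0x8048e8fa080c0605) (nat_lit 1536))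
))))) (.node (nat_lit 0x80c8201208040203) (.node (nat_lit 0x80c0a070080c0a07) (.node (nat_lit 0x80c06070080c0607) (.node (nat_lit 0x80c0287c080c0a0b) (.node (nat_lit 0x80c020b0080c020b) (.leaf (nat_lit 0x80c02030080c0203) (nat_lit 1282))
 (.leaf (nat_lit 0x80c020b0080c020b) (nat_lit 768))
) (.node (nat_lit 0x80c028fc080c0a03) (.leaf (nat_lit 0x80c0287c080c0a0b) (nat_lit 1280))
 (.leaf (nat_lit 0x80c028fc080c0a03) (nat_lit 1282))
)) (.node (nat_lit 0x80c0683c080c0e0f) (.node (nat_lit 0x80c060f0080c060f) (.leaf (nat_lit 0x80c06070080c0607) (nat_lit 1536))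
 (.leaf (nat_lit 0x80c060f0080c060f) (nat_lit 513))
) (.node (nat_lit 0x80c068bc080c0e07) (.leaf (nat_lit 0x80c0683c080c0e0f) (nat_lit 1026))
 (.leaf (nat_lit 0x80c068bc080c0e07) (nat_lit 1538))
))) (.node (nat_lit 0x80c0e030080c0e03) (.node (nat_lit 0x80c0a83c080c020f) (.node (nat_lit 0x80c0a0f0080c0a0f) (.leaf (nat_lit 0x80c0a070080c0a07) (nat_lit 1792))
 (.leaf (nat_lit 0x80c0a0f0080c0a0f) (nat_lit 257))
) (.node (nat_lit 0x80c0a8bc080c0207) (.leaf (nat_lit 0x80c0a83c080c020f) (nat_lit 1282))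
 (.leaf (nat_lit 0x80c0a8bc080c0207) (nat_lit 1282))
)) (.node (nat_lit 0x80c0e87c080c060b) (.node (nat_lit 0x80c0e0b0080c0e0b) (.leaf (nat_lit 0x80c0e030080c0e03) (nat_lit 1538))
 (.leaf (nat_lit 0x80c0e0b0080c0e0b) (nat_lit 512))
) (.node (nat_lit 0x80c0e8fc080c0603) (.leaf (nat_lit 0x80c0e87c080c060b) (nat_lit 1536))
 (.leaf (nat_lit 0x80c0e8fc080c0603) (nat_lit 1026))
)))) (.node (nat_lit 0x80c8a05a08040a0f) (.node (nat_lit 0x80c8601608040607) (.node (nat_lit 0x80c8285e08040a0b) (.node (nat_lit 0x80c820920804020b) (.leaf (nat_lit 0x80c8201208040203) (nat_lit 1024))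
 (.leaf (nat_lit 0x80c820920804020b) (nat_lit 1537))
) (.node (nat_lit 0x80c828de08040a03) (.leaf (nat_lit 0x80c8285e08040a0b) (nat_lit 1026))
 (.leaf (nat_lit 0x80c828de08040a03) (nat_lit 1024))
)) (.node (nat_lit 0x80c8685a08040e0f) (.node (nat_lit 0x80c860960804060f) (.leaf (nat_lit 0x80c8601608040607) (nat_lit 1280))
 (.leaf (nat_lit 0x80c860960804060f) (nat_lit 769))
) (.node (nat_lit 0x80c868da08040e07) (.leaf (nat_lit 0x80c8685a08040e0f) (nat_lit 770))
 (.leaf (nat_lit 0x80c868da08040e07) (nat_lit 1792))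
))) (.node (nat_lit 0x80c8e05e08040e0b) (.node (nat_lit 0x80c8a81608040207) (.node (nat_lit 0x80c8a0da08040a07) (.leaf (nat_lit 0x80c8a05a08040a0f) (nat_lit 1025))
 (.leaf (nat_lit 0x80c8a0da08040a07) (nat_lit 1024))
) (.node (nat_lit 0x80c8a8960804020f) (.leaf (nat_lit 0x80c8a81608040207) (nat_lit 2048))
 (.leaf (nat_lit 0x80c8a8960804020f) (nat_lit 514))
)) (.node (nat_lit 0x80c8e81208040603) (.node (nat_lit 0x80c8e0de08040e03) (.leaf (nat_lit 0x80c8e05e08040e0b) (nat_lit 1793))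
 (.leaf (nat_lit 0x80c8e0de08040e03) (nat_lit 768))
) (.node (nat_lit 0x80c8e8920804060b) (.leaf (nat_lit 0x80c8e81208040603) (nat_lit 1280))
 (.leaf (nat_lit 0x80c8e8920804060b) (nat_lit 770))
))))))

noncomputable def l40_E : ST :=
(.node (nat_lit 0x80c0203088cc2233) (.node (nat_lit 0x8040a0508844aa55) (.leaf (nat_lit 0x8040201088442211) (nat_lit 0))
 (.leaf (nat_lit 0x8040a0508844aa55) (nat_lit 770))
) (.node (nat_lit 0x80c0a07088ccaa77) (.leaf (nat_lit 0x80c0203088cc2233) (nat_lit 512))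
 (.leaf (nat_lit 0x80c0a07088ccaa77) (nat_lit 258))
))

/-- The table of the form. -/
def l40_Q : ℕ := (nat_lit 0x6996969699666666a55a5a5a55aaaaaac33c3c3c33cccccc0ff0f0f0ff000000)

theorem l40_tab : Tab q8 l40_Q := by unfold Tab; decide +kernel

theorem l40_om : Act 8 (nat_lit 0x8040201080402010) (Ω8 0) := act_md (a := (nat_lit 0x8844221100000000)) (by decide +kernel) (by decide +kernel)

theorem l40_gen : genOK B8.A [(nat_lit 0x8040e0d008040e0d), (nat_lit 0x80c0a0f0080c0a0f), (nat_lit 0x80482876080c0a01)] l40_D (2 ^ 6) = true := by decide +kernel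

theorem l40_orb : orbOK B8.A [(nat_lit 0x8040e0d008040e0d), (nat_lit 0x80c0a0f0080c0a0f), (nat_lit 0x80482876080c0a01)] (nat_lit 0x8040201088442211) l40_E 4 = true := by decide +kernel

theorem l40_lf : lfOK B8.A 8 l40_Q (nat_lit 0x8040201080402010) 1 (nat_lit 0x8040201088442211) (nat_lit 0x8844221108040201) [(nat_lit 0x805020102a140201), (nat_lit 0x9040201009040201), (nat_lit 0x8060201008060201), (nat_lit 0xb07020100b070201), (nat_lit 0x8040209008040209), (nat_lit 0x8040601008040601)] [(nat_lit 0xb07020100b070201), (nat_lit 0xf05030100f050301), (nat_lit 0x805030106e141201)] [(nat_lit 0x8040e0d008040e0d), (nat_lit 0x80c0a0f0080c0a0f), (nat_lit 0x80482876080c0a01)] l40_D = true := by decide +kernel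

theorem l40_out : outOK B8.A 8 l40_Q (nat_lit 0x8040201088442211) (nat_lit 0x8844221108040201) l40_D.dom l40_E.dom = true := by decide +kernel

theorem l40_k : lsOK 8 l40_Q (nat_lit 0x8040201080402010) 1 6 [(nat_lit 0x805020102a140201), (nat_lit 0x9040201009040201), (nat_lit 0x8060201008060201), (nat_lit 0xb07020100b070201), (nat_lit 0x8040209008040209), (nat_lit 0x8040601008040601)] [(nat_lit 0xb07020100b070201), (nat_lit 0xf05030100f050301), (nat_lit 0x805030106e141201)] = true := by decide +kernel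

variable {T X2 X3 X23 W2 W3 Z : Gl 8}

theorem lf40 (he : B8.C.RepL (z8 0 :: c8) [Z, T, X2, X3, X23, W2, W3]) :
    ∃ S0, LF q8 T (clos [Z, X2, X3, X23, W2, W3]) S0 (Ω8 0) (Pi.single 0 1) 6 := by
  have hx : B8.C.RepL [(nat_lit 0x8040285408040a01), (nat_lit 0x8040209008040209), (nat_lit 0x8040601008040601), (nat_lit 0x8040e0d008040e0d), (nat_lit 0x9040201009040201), (nat_lit 0x8060201008060201)] [Z, X2, X3, X23, W2, W3] := he.pick [0, 2, 3, 4, 5, 6]
  have ha : B8.C.Rep (nat_lit 0x8040201088442211) T := he.nth 1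
  have hz := hx.words [[3], [5, 3, 2, 5], [5, 0, 5]] (c' := [(nat_lit 0x8040e0d008040e0d), (nat_lit 0x80c0a0f0080c0a0f), (nat_lit 0x80482876080c0a01)]) (by decide +kernel)
  have tx := bits8.actL (ts := [(nat_lit 0x805020102a140201), (nat_lit 0x9040201009040201), (nat_lit 0x8060201008060201), (nat_lit 0xb07020100b070201), (nat_lit 0x8040209008040209), (nat_lit 0x8040601008040601)]) hx (by decide +kernel)
  have tz := bits8.actL (ts := [(nat_lit 0xb07020100b070201), (nat_lit 0xf05030100f050301), (nat_lit 0x805030106e141201)]) hz (by decide +kernel)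
  have tt : Act 8 (nat_lit 0x8844221108040201) T := act_md (bits8 _ _ ha) (by decide +kernel)
  rw [← show vd 8 1 = Pi.single 0 1 from vd_pow (0 : Fin 8)]
  exact ⟨_, lf_of bits8 isQ8 l40_tab l40_om ha tt tx tz hz (by norm_num) (clos_words_le _ _) l40_gen l40_orb l40_lf l40_out
    fun _ h1 h2 => .inl (ls_of l40_tab l40_om tx tz (by norm_num) h1 h2 l40_k)⟩

end Cfsg.Agent.S33
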