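import Mathlib
import Cfsg.Agent.S33.LChk2

/-! Facts on `U₄(2).2`. -/

set_option autoImplicit false
set_option linter.unusedSectionVars false
set_option maxRecDepth 100000
set_option synthInstance.maxSize 100000
set_option synthInstance.maxHeartbeats 1000000
set_option exponentiation.threshold 100000

namespace Cfsg.Agent.S33

open Cfsg Cfsg.Agent.Rec Cfsg.Agent.Spor Cfsg.Agent.Loc.Mss Cfsg.Agent.SF6 Subgroup Matrix

noncomputable def l41_D : ST :=
(.node (nat_lit 0x80c02030080c0203) (.node (nat_lit 0x80482032088c0221) (.node (nat_lit 0x8040a05008040a05) (.node (nat_lit 0x8040601008040601) (.node (nat_lit 0x8040285408048a41) (.node (nat_lit 0x8040209008040209) (.leaf (nat_lit 0x8040201008040201) (nat_lit 0))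
 (.leaf (nat_lit 0x8040209008040209) (nat_lit 2050))
) (.node (nat_lit 0x804028d408048a49) (.leaf (nat_lit 0x8040285408048a41) (nat_lit 1026))
 (.leaf (nat_lit 0x804028d408048a49) (nat_lit 1538))
)) (.node (nat_lit 0x8040685408048e41) (.node (nat_lit 0x8040609008040609) (.leaf (nat_lit 0x8040601008040601) (nat_lit 769))
 (.leaf (nat_lit 0x8040609008040609) (nat_lit 1794))
) (.node (nat_lit 0x804068d408048e49) (.leaf (nat_lit 0x8040685408048e41) (nat_lit 1794))
 (.leaf (nat_lit 0x804068d408048e49) (nat_lit 1282))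
))) (.node (nat_lit 0x8040e05008040e05) (.node (nat_lit 0x8040a81408048245) (.node (nat_lit 0x8040a0d008040a0d) (.leaf (nat_lit 0x8040a05008040a05) (nat_lit 1538))
 (.leaf (nat_lit 0x8040a0d008040a0d) (nat_lit 1025))
) (.node (nat_lit 0x8040a8940804824d) (.leaf (nat_lit 0x8040a81408048245) (nat_lit 1538))
 (.leaf (nat_lit 0x8040a8940804824d) (nat_lit 1538))
)) (.node (nat_lit 0x8040e81408048645) (.node (nat_lit 0x8040e0d008040e0d) (.leaf (nat_lit 0x8040e05008040e05) (nat_lit 1794))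
 (.leaf (nat_lit 0x8040e0d008040e0d) (nat_lit 256))
) (.node (nat_lit 0x8040e8940804864d) (.leaf (nat_lit 0x8040e81408048645) (nat_lit 1794))
 (.leaf (nat_lit 0x8040e8940804864d) (nat_lit 770))
)))) (.node (nat_lit 0x8048a07a088c0aad) (.node (nat_lit 0x80486076088c0661) (.node (nat_lit 0x80482876088c8a61) (.node (nat_lit 0x804820b2088c0229) (.leaf (nat_lit 0x80482032088c0221) (nat_lit 1281))
 (.leaf (nat_lit 0x804820b2088c0229) (nat_lit 768))
) (.node (nat_lit 0x804828f6088c8a69) (.leaf (nat_lit 0x80482876088c8a61) (nat_lit 258))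
 (.leaf (nat_lit 0x804828f6088c8a69) (nat_lit 1792))
)) (.node (nat_lit 0x80486832088c8e21) (.node (nat_lit 0x804860f6088c0669) (.leaf (nat_lit 0x80486076088c0661) (nat_lit 1025))
 (.leaf (nat_lit 0x804860f6088c0669) (nat_lit 1536))
) (.node (nat_lit 0x804868b2088c8e29) (.leaf (nat_lit 0x80486832088c8e21) (nat_lit 1026))
 (.leaf (nat_lit 0x804868b2088c8e29) (nat_lit 1536))
))) (.node (nat_lit 0x8048e03e088c0eed) (.node (nat_lit 0x8048a83e088c82ed) (.node (nat_lit 0x8048a0fa088c0aa5) (.leaf (nat_lit 0x8048a07a088c0aad) (nat_lit 1281))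
 (.leaf (nat_lit 0x8048a0fa088c0aa5) (nat_lit 1280))
) (.node (nat_lit 0x8048a8be088c82e5) (.leaf (nat_lit 0x8048a83e088c82ed) (nat_lit 1282))
 (.leaf (nat_lit 0x8048a8be088c82e5) (nat_lit 1280))
)) (.node (nat_lit 0x8048e87a088c86ad) (.node (nat_lit 0x8048e0be088c0ee5) (.leaf (nat_lit 0x8048e03e088c0eed) (nat_lit 1537))
 (.leaf (nat_lit 0x8048e0be088c0ee5) (nat_lit 512))
) (.node (nat_lit 0x8048e8fa088c86a5) (.leaf (nat_lit 0x8048e87a088c86ad) (nat_lit 514))
 (.leaf (nat_lit 0x8048e8fa088c86a5) (nat_lit 1536))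
))))) (.node (nat_lit 0x80c8201208840223) (.node (nat_lit 0x80c0a070080c0a07) (.node (nat_lit 0x80c06070080c0607) (.node (nat_lit 0x80c0287c080c8acb) (.node (nat_lit 0x80c020b0080c020b) (.leaf (nat_lit 0x80c02030080c0203) (nat_lit 1282))
 (.leaf (nat_lit 0x80c020b0080c020b) (nat_lit 768))
) (.node (nat_lit 0x80c028fc080c8ac3) (.leaf (nat_lit 0x80c0287c080c8acb) (nat_lit 1282))
 (.leaf (nat_lit 0x80c028fc080c8ac3) (nat_lit 1280))
)) (.node (nat_lit 0x80c0683c080c8ecf) (.node (nat_lit 0x80c060f0080c060f) (.leaf (nat_lit 0x80c06070080c0607) (nat_lit 1536))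
 (.leaf (nat_lit 0x80c060f0080c060f) (nat_lit 513))
) (.node (nat_lit 0x80c068bc080c8ec7) (.leaf (nat_lit 0x80c0683c080c8ecf) (nat_lit 1538))
 (.leaf (nat_lit 0x80c068bc080c8ec7) (nat_lit 1026))
))) (.node (nat_lit 0x80c0e030080c0e03) (.node (nat_lit 0x80c0a83c080c82cf) (.node (nat_lit 0x80c0a0f0080c0a0f) (.leaf (nat_lit 0x80c0a070080c0a07) (nat_lit 1792))
 (.leaf (nat_lit 0x80c0a0f0080c0a0f) (nat_lit 257))
) (.node (nat_lit 0x80c0a8bc080c82c7) (.leaf (nat_lit 0x80c0a83c080c82cf) (nat_lit 1282))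
 (.leaf (nat_lit 0x80c0a8bc080c82c7) (nat_lit 1282))
)) (.node (nat_lit 0x80c0e87c080c86cb) (.node (nat_lit 0x80c0e0b0080c0e0b) (.leaf (nat_lit 0x80c0e030080c0e03) (nat_lit 1538))
 (.leaf (nat_lit 0x80c0e0b0080c0e0b) (nat_lit 512))
) (.node (nat_lit 0x80c0e8fc080c86c3) (.leaf (nat_lit 0x80c0e87c080c86cb) (nat_lit 1026))
 (.leaf (nat_lit 0x80c0e8fc080c86c3) (nat_lit 1536))
)))) (.node (nat_lit 0x80c8a05a08840aaf) (.node (nat_lit 0x80c8601608840667) (.node (nat_lit 0x80c8285e08848aeb) (.node (nat_lit 0x80c820920884022b) (.leaf (nat_lit 0x80c8201208840223) (nat_lit 1024))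
 (.leaf (nat_lit 0x80c820920884022b) (nat_lit 1537))
) (.node (nat_lit 0x80c828de08848ae3) (.leaf (nat_lit 0x80c8285e08848aeb) (nat_lit 1026))
 (.leaf (nat_lit 0x80c828de08848ae3) (nat_lit 1024))
)) (.node (nat_lit 0x80c8685a08848eaf) (.node (nat_lit 0x80c860960884066f) (.leaf (nat_lit 0x80c8601608840667) (nat_lit 1280))
 (.leaf (nat_lit 0x80c860960884066f) (nat_lit 769))
) (.node (nat_lit 0x80c868da08848ea7) (.leaf (nat_lit 0x80c8685a08848eaf) (nat_lit 770))
 (.leaf (nat_lit 0x80c868da08848ea7) (nat_lit 1792))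
))) (.node (nat_lit 0x80c8e05e08840eeb) (.node (nat_lit 0x80c8a81608848267) (.node (nat_lit 0x80c8a0da08840aa7) (.leaf (nat_lit 0x80c8a05a08840aaf) (nat_lit 1025))
 (.leaf (nat_lit 0x80c8a0da08840aa7) (nat_lit 1024))
) (.node (nat_lit 0x80c8a8960884826f) (.leaf (nat_lit 0x80c8a81608848267) (nat_lit 2048))
 (.leaf (nat_lit 0x80c8a8960884826f) (nat_lit 514))
)) (.node (nat_lit 0x80c8e81208848623) (.node (nat_lit 0x80c8e0de08840ee3) (.leaf (nat_lit 0x80c8e05e08840eeb) (nat_lit 1793))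
 (.leaf (nat_lit 0x80c8e0de08840ee3) (nat_lit 768))
) (.node (nat_lit 0x80c8e8920884862b) (.leaf (nat_lit 0x80c8e81208848623) (nat_lit 1280))
 (.leaf (nat_lit 0x80c8e8920884862b) (nat_lit 770))
))))))

noncomputable def l41_E : ST :=
(.node (nat_lit 0x80c0203088cc2233) (.node (nat_lit 0x8040a0508844aa55) (.leaf (nat_lit 0x8040201088442211) (nat_lit 0))
 (.leaf (nat_lit 0x8040a0508844aa55) (nat_lit 770))
) (.node (nat_lit 0x80c0a07088ccaa77) (.leaf (nat_lit 0x80c0203088cc2233) (nat_lit 512))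
 (.leaf (nat_lit 0x80c0a07088ccaa77) (nat_lit 258))
))

/-- The table of the form. -/
def l41_Q : ℕ := (nat_lit 0x6996969699666666a55a5a5a55aaaaaac33c3c3c33cccccc0ff0f0f0ff000000)

theorem l41_tab : Tab q8 l41_Q := by unfold Tab; decide +kernel

theorem l41_om : Act 8 (nat_lit 0x8844221180402010) (Ω8 1) := act_md (a := (nat_lit 0x8844221180402010)) (by decide +kernel) (by decide +kernel)

theorem l41_gen : genOK B8.A [(nat_lit 0x8040e0d008040e0d), (nat_lit 0x80c0a0f0080c0a0f), (nat_lit 0x80482876088c8a61)] l41_D (2 ^ 6) = true := by decide +kernel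

theorem l41_orb : orbOK B8.A [(nat_lit 0x8040e0d008040e0d), (nat_lit 0x80c0a0f0080c0a0f), (nat_lit 0x80482876088c8a61)] (nat_lit 0x8040201088442211) l41_E 4 = true := by decide +kernel

theorem l41_lf : lfOK B8.A 8 l41_Q (nat_lit 0x8844221180402010) 1 (nat_lit 0x8040201088442211) (nat_lit 0x8844221108040201) [(nat_lit 0x825120102a140201), (nat_lit 0x9040201009040201), (nat_lit 0x8060201008060201), (nat_lit 0xb07020100b070201), (nat_lit 0x8040209008040209), (nat_lit 0x8040601008040601)] [(nat_lit 0xb07020100b070201), (nat_lit 0xf05030100f050301), (nat_lit 0x865131106e141201)] [(nat_lit 0x8040e0d008040e0d), (nat_lit 0x80c0a0f0080c0a0f), (nat_lit 0x80482876088c8a61)] l41_D = true := by decide +kernel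

theorem l41_out : outOK B8.A 8 l41_Q (nat_lit 0x8040201088442211) (nat_lit 0x8844221108040201) l41_D.dom l41_E.dom = true := by decide +kernel

theorem l41_k : luOK 8 l41_Q (nat_lit 0x8844221180402010) 1 (nat_lit 0x8844221108040201) (nat_lit 0x3c675401cf714111) 6 32 [(nat_lit 0x825120102a140201), (nat_lit 0x9040201009040201), (nat_lit 0x8060201008060201), (nat_lit 0xb07020100b070201), (nat_lit 0x8040209008040209), (nat_lit 0x8040601008040601)] [(nat_lit 0x9040201009040201), (nat_lit 0x8060201008060201), (nat_lit 0xb07020100b070201), (nat_lit 0x8040601008040601), (nat_lit 0x825120102a140201)] [0, 1, 2, 8] [513, 769, 1026, 1538, 2050, 2562, 4098, 4610, 8194, 8706, 32770, 33282, 16385, 16641] = true := by decide +kernel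

variable {T X2 X3 X23 W2 W3 Z : Gl 8}

theorem lf41 (he : B8.C.RepL (z8 1 :: c8) [Z, T, X2, X3, X23, W2, W3]) :
    ∃ S0, LF q8 T (clos [Z, X2, X3, X23, W2, W3]) S0 (Ω8 1) (Pi.single 0 1) 6 := by
  have hx : B8.C.RepL [(nat_lit 0x8040285408048a41), (nat_lit 0x8040209008040209), (nat_lit 0x8040601008040601), (nat_lit 0x8040e0d008040e0d), (nat_lit 0x9040201009040201), (nat_lit 0x8060201008060201)] [Z, X2, X3, X23, W2, W3] := he.pick [0, 2, 3, 4, 5, 6]
  have ha : B8.C.Rep (nat_lit 0x8040201088442211) T := he.nth 1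
  have hz := hx.words [[3], [5, 3, 2, 5], [5, 0, 5]] (c' := [(nat_lit 0x8040e0d008040e0d), (nat_lit 0x80c0a0f0080c0a0f), (nat_lit 0x80482876088c8a61)]) (by decide +kernel)
  have tx := bits8.actL (ts := [(nat_lit 0x825120102a140201), (nat_lit 0x9040201009040201), (nat_lit 0x8060201008060201), (nat_lit 0xb07020100b070201), (nat_lit 0x8040209008040209), (nat_lit 0x8040601008040601)]) hx (by decide +kernel)
  have tz := bits8.actL (ts := [(nat_lit 0xb07020100b070201), (nat_lit 0xf05030100f050301), (nat_lit 0x865131106e141201)]) hz (by decide +kernel)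
  have tt : Act 8 (nat_lit 0x8844221108040201) T := act_md (bits8 _ _ ha) (by decide +kernel)
  have th := bits8.actL (ts := [(nat_lit 0x9040201009040201), (nat_lit 0x8060201008060201), (nat_lit 0xb07020100b070201), (nat_lit 0x8040601008040601), (nat_lit 0x825120102a140201)]) (hx.words' [[1], [2], [3], [5], [0]]) (by decide +kernel)
  have tg : Act 8 (nat_lit 0x3c675401cf714111) _ := act_md (bits8 _ _ (hx.word [4, 3, 5, 1, 0, 4, 3, 5, 1, 0, 4])) (by decide +kernel)
  rw [← show vd 8 1 = Pi.single 0 1 from vd_pow (0 : Fin 8)]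
  exact ⟨_, lf_of bits8 isQ8 l41_tab l41_om ha tt tx tz hz (by norm_num) (clos_words_le _ _) l41_gen l41_orb l41_lf l41_out
    fun h0 _ _ => .inr (lu_of l41_tab l41_om tt tx th (by norm_num) h0 (clos_words_le _ _)
      (evalW_mem fun i _ => nth_mem_clos _ i) tg l41_k)⟩

end Cfsg.Agent.S33
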