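import Mathlib
import Cfsg.Agent.S33.Defs
import Cfsg.Agent.Spor.ESSym
import Cfsg.Agent.Spor.ESDual
import Cfsg.Agent.Spor.ESGen
import Cfsg.Agent.Rec.B8
import Cfsg.Agent.Rec.B10

/-! The cases `L₆(2)`, `U₆(2)`, `L₇(2)`, `U₇(2)`: the extraspecial group `O₂(C_X(x1))`. Model: tools/s33/lin.py. -/

set_option autoImplicit false
set_option linter.unusedSectionVars false

namespace Cfsg.Agent.S33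

open Cfsg Cfsg.Agent.Rec Cfsg.Agent.Spor Cfsg.Agent.Loc.Mss Cfsg.Agent.SF6 Subgroup Matrix

/-! ### Linear algebra over the field with two elements -/

/-- Vectors. -/
abbrev Vec (m : ℕ) : Type := Fin m → ZMod 2
/-- Matrices. -/
abbrev Mat (m : ℕ) : Type := Matrix (Fin m) (Fin m) (ZMod 2)
/-- Invertible matrices. -/
abbrev Gl (m : ℕ) : Type := GL (Fin m) (ZMod 2)

section Lin

variable {m : ℕ}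

/-- The image of a vector. -/
abbrev ap (g : Gl m) (v : Vec m) : Vec m := (g : Mat m) *ᵥ v

/-- The polar form. -/
def pol (q : Vec m → ZMod 2) (u v : Vec m) : ZMod 2 := q (u + v) + q u + q v

/-- `q` is a quadratic form. -/
structure IsQ (q : Vec m → ZMod 2) : Prop where
  zero : q 0 = 0
  bil : ∀ u v w, pol q (u + v) w = pol q u w + pol q v w

/-- The form on eight coordinates `y a c r ŷ â ĉ r̂`. -/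
def q8 (v : Vec 8) : ZMod 2 := v 0 * v 7 + v 1 * v 6 + v 2 * v 5 + v 3 * v 4
/-- The form on ten coordinates `y a c r ŷ â ĉ r̂ k k'`. -/
def q10 (ε : ℕ) (v : Vec 10) : ZMod 2 := v 0 * v 7 + v 1 * v 6 + v 2 * v 5 + v 3 * v 4 + (v 8 + v 8 * v 9 + ε * v 9)

theorem isQ8 : IsQ q8 := ⟨by simp [q8], fun u v w => by
  have h : (2 : ZMod 2) = 0 := rfl
  simp only [pol, q8, Pi.add_apply]
  linear_combination (u 0 * v 7 + v 0 * u 7 + u 1 * v 6 + v 1 * u 6 + u 2 * v 5 + v 2 * u 5 + u 3 * v 4 + v 3 * u 4 -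
    (w 0 * w 7 + w 1 * w 6 + w 2 * w 5 + w 3 * w 4)) * h⟩

theorem isQ10 (ε : ℕ) : IsQ (q10 ε) := ⟨by simp [q10], fun u v w => by
  have h : (2 : ZMod 2) = 0 := rfl
  simp only [pol, q10, Pi.add_apply]
  linear_combination (u 0 * v 7 + v 0 * u 7 + u 1 * v 6 + v 1 * u 6 + u 2 * v 5 + v 2 * u 5 + u 3 * v 4 + v 3 * u 4 +
    u 8 * v 9 + v 8 * u 9 - (w 0 * w 7 + w 1 * w 6 + w 2 * w 5 + w 3 * w 4 + (w 8 + w 8 * w 9 + ε * w 9))) * h⟩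

/-- Multiplication by `ω`, where `ω² = ω + ε`. -/
def Ω8 (ε : ℕ) : Mat 8 :=
  !![0, 0, 0, 0, ε, 0, 0, 0; 0, 0, 0, 0, 0, ε, 0, 0; 0, 0, 0, 0, 0, 0, ε, 0; 0, 0, 0, 0, 0, 0, 0, ε;
     1, 0, 0, 0, 1, 0, 0, 0; 0, 1, 0, 0, 0, 1, 0, 0; 0, 0, 1, 0, 0, 0, 1, 0; 0, 0, 0, 1, 0, 0, 0, 1]
/-- Multiplication by `ω`, where `ω² = ω + ε`. -/
def Ω10 (ε : ℕ) : Mat 10 :=
  !![0, 0, 0, 0, ε, 0, 0, 0, 0, 0; 0, 0, 0, 0, 0, ε, 0, 0, 0, 0; 0, 0, 0, 0, 0, 0, ε, 0, 0, 0;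
     0, 0, 0, 0, 0, 0, 0, ε, 0, 0; 1, 0, 0, 0, 1, 0, 0, 0, 0, 0; 0, 1, 0, 0, 0, 1, 0, 0, 0, 0;
     0, 0, 1, 0, 0, 0, 1, 0, 0, 0; 0, 0, 0, 1, 0, 0, 0, 1, 0, 0; 0, 0, 0, 0, 0, 0, 0, 0, 0, ε;
     0, 0, 0, 0, 0, 0, 0, 0, 1, 1]

/-- Codes (`B8`) of the matrices of `t x2 x3 x23 w2 w3`. -/
def c8 : List ℕ := [9241421690741989905, 9241422238346117641, 9241492057334482433, 9241633619456560653,
  10394343193213927937, 9250428887845175809]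
/-- The code of the matrix of `b̂`. -/
def z8 (ε : ℕ) : ℕ := 9241430776741104129 + ε * 32832
/-- Codes (`B10`) of the matrices of `t x2 x3 x23 w2 w3`. -/
def c10 : List ℕ := [634753906333129210613316225041, 634134936313486661075848923145, 634134936313558577932398499841,
  634134936313702904226706896909, 634134955202952451818015164417, 634134936350380008485781768193]
/-- The code of the matrix of `k2`. -/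
def z10 (ε : ℕ) : ℕ := 792600932748572825042380916993 + ε * 128

/-- The image `N` of `N(Q)`, the image `N0` of `N_X(Q)`, the images `T` of `t` and `C` of `C_L(x1)`. -/
structure LI (q : Vec m → ZMod 2) (N N0 : Subgroup (Gl m)) (T : Gl m) (C : Subgroup (Gl m)) : Prop where
  le : N0 ≤ N
  mem : T ∈ N
  nmem : T ∉ N0
  idx : ∀ a ∈ N, ∀ b ∈ N, a * b ∈ N0 ↔ (a ∈ N0 ↔ b ∈ N0)
  iso : ∀ g ∈ N, ∀ v, q (ap g v) = q v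
  cle : C ≤ N0
  cent : ∀ g ∈ N0, g * T = T * g → g ∈ C

/-- The facts for `L₄(2)`, `L₅(2)`. -/
structure LS (q : Vec m → ZMod 2) (M S0 : Subgroup (Gl m)) (Ω : Mat m) (y : Vec m) : Prop where
  idem : Ω * Ω = Ω
  sing : ∀ x, Ω *ᵥ x = 0 ∨ Ω *ᵥ x = x → q x = 0
  orb : ∀ v, v ≠ 0 → q v = 0 → ∃ h ∈ M, ap h y = v ∨ ap h (Ω *ᵥ y) = v ∨ ap h (Ω *ᵥ y + y) = v
  cnt : ∀ w, w = Ω *ᵥ y ∨ w = Ω *ᵥ y + y → {x | ∀ s ∈ S0, ap s x = x ∨ ap s x = x + y}.ncard ≠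
    {x | ∀ s ∈ S0, ap s x = x ∨ ap s x = x + w}.ncard

/-- The facts for `U₄(2)`, `U₅(2)`. -/
structure LU (q : Vec m → ZMod 2) (T : Gl m) (M : Subgroup (Gl m)) (Ω : Mat m) (y : Vec m) : Prop where
  orb : ∀ v, v ≠ 0 → q v = 0 → ∃ h ∈ M, ap h y = v
  two : ∀ x, x ≠ 0 → x ≠ y → x ≠ Ω *ᵥ y → x ≠ Ω *ᵥ y + y → q x = 0 → pol q x y = 0 →
    (∃ h ∈ M, ap h y = y ∧ ap T (ap h x) = ap h x) ∨
      (pol q x (Ω *ᵥ y) = 0 ∧ ∃ A B : Finset (Vec m), B.card < A.card ∧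
        (∀ v ∈ A, ∀ u ∈ [y, Ω *ᵥ y], ∃ h ∈ M ⊔ zpowers T, ap h y = u ∧ ap h x = v) ∧
        ∀ w, (∀ p ∈ [y, Ω *ᵥ y, x, Ω *ᵥ x], pol q w p = 0) → w ∈ B ∨ ∃ h ∈ M, ap h y = y ∧ ap T (ap h w) = ap h w)
  link : ∀ δ : Mat m, (∀ x, q x = 0 → δ *ᵥ x = 0 ∨ δ *ᵥ x = x) → δ = 0 ∨ δ = 1

/-- Facts on the explicit group `M ⟨T⟩` and its Sylow 2-subgroup `S0 ⟨T⟩`. -/
structure LF (q : Vec m → ZMod 2) (T : Gl m) (M S0 : Subgroup (Gl m)) (Ω : Mat m) (y : Vec m) (k : ℕ) : Prop where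
  T2 : T * T = 1
  le : S0 ≤ M
  card : Nat.card S0 = 2 ^ k
  nS : T ∈ 𝐍[S0]
  cS : 16 ∣ Nat.card (S0 ⊓ centralizer {T} : Subgroup (Gl m))
  out : ∀ s ∈ S0, T * s * (T * s) = 1 → (∃ u ∈ S0, u * T * u⁻¹ = T * s) ∨
    ((∀ v, q (v + ap T v) = 0) ∧ ∃ v, q (v + ap (T * s) v) = 1)
  ΩM : ∀ g ∈ M, (g : Mat m) * Ω = Ω * g
  ΩT : (T : Mat m) * Ω = (Ω + 1) * T
  adj : ∀ u v, pol q (Ω *ᵥ u) v = pol q u (Ω *ᵥ v) + pol q u v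
  Ty : ap T y = y
  Sy : ∀ s ∈ S0, ap s y = y
  qy : q y = 0 ∧ q (Ω *ᵥ y) = 0 ∧ pol q (Ω *ᵥ y) y = 0 ∧ y ≠ 0 ∧ Ω *ᵥ y ≠ 0 ∧ Ω *ᵥ y ≠ y
  kind : LS q M S0 Ω y ∨ LU q T M Ω y

/-- The result of the linear algebra. -/
structure LO (q : Vec m → ZMod 2) (N0 : Subgroup (Gl m)) (T : Gl m) (Ω : Mat m) (y : Vec m) (k : ℕ) : Prop where
  comm : ∀ g ∈ N0, (g : Mat m) * Ω = Ω * g
  ΩT : (T : Mat m) * Ω = (Ω + 1) * T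
  adj : ∀ u v, pol q (Ω *ᵥ u) v = pol q u (Ω *ᵥ v) + pol q u v
  dvd : 2 ^ k ∣ Nat.card N0
  ndvd : ¬ 2 ^ (k + 1) ∣ Nat.card N0
  kind : Ω * Ω = Ω ∨ ∀ v, v ≠ 0 → q v = 0 → ∃ g ∈ N0, ap g y = v

end Lin

variable {G : Type*} [Group G] [Finite G]

/-- Coordinates on `Q / ⟨z⟩` and the matrices of the elements of `N(Q)`. -/
structure Crd {m : ℕ} (Q : Subgroup G) (z : G) (q : Vec m → ZMod 2) (κ : G → Vec m) (ρ : G → Gl m) : Prop where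
  add : ∀ a ∈ Q, ∀ b ∈ Q, κ (a * b) = κ a + κ b
  ker : ∀ a ∈ Q, κ a = 0 ↔ a = 1 ∨ a = z
  onto : ∀ v, ∃ a ∈ Q, κ a = v
  sq : ∀ a ∈ Q, a * a = 1 ↔ q (κ a) = 0
  cm : ∀ a ∈ Q, ∀ b ∈ Q, a * b = b * a ↔ pol q (κ a) (κ b) = 0
  mul : ∀ g ∈ 𝐍[Q], ∀ h ∈ 𝐍[Q], ρ (g * h) = ρ g * ρ h
  act : ∀ g ∈ 𝐍[Q], ∀ a ∈ Q, κ (g * a * g⁻¹) = ap (ρ g) (κ a)

namespace Co

variable (s : Co G)

/-- `C_L(x1)`, of order 23040. -/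
def P1 : Subgroup G := s.L ⊓ centralizer {s.x1}
/-- The complement `Sp₄(2)` to `V5` in `P1`, of order 720. -/
def S6 : Subgroup G := clos [s.x2, s.x3, s.x23, s.w2, s.w3]

/-- The extraspecial group `Q` of order `2^(2n+1)` with centre `⟨x1⟩`. -/
structure Xs (Q : Subgroup G) (n : ℕ) : Prop where
  le : Q ≤ s.X
  V5 : s.V5 ≤ Q
  es : ES2 Q s.x1
  card : Nat.card Q = 2 ^ (2 * n + 1)
  nP : s.P1 ≤ 𝐍[Q]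
  nt : s.t ∈ 𝐍[Q]
  ct : ∀ q ∈ Q, q * s.t = s.t * q → q ∈ s.V5
  inv : ∀ q ∈ Q, s.t * q ∈ s.D → ∃ e ∈ Q, e * s.t * e⁻¹ = s.t * q
  phi : ∀ v ∈ s.V6, s.t * v ∈ s.D → ∃ e, e ∈ s.Φ v
  nn : n = 5 ∨ (n = 4 ∧ s.t * s.x1 ∉ s.D)

/-- Multiplication by `ω` on `Q / ⟨x1⟩`. -/
structure Om (Q : Subgroup G) (ω : G → G) : Prop where
  mem : ∀ a ∈ Q, ω a ∈ Q
  wd : ∀ a ∈ Q, ∀ b ∈ Q, Eqv s.x1 a b → Eqv s.x1 (ω a) (ω b)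
  add : ∀ a ∈ Q, ∀ b ∈ Q, Eqv s.x1 (ω (a * b)) (ω a * ω b)
  nX : ∀ g ∈ s.X ⊓ 𝐍[Q], ∀ a ∈ Q, Eqv s.x1 (ω (g * a * g⁻¹)) (g * ω a * g⁻¹)
  nt : ∀ a ∈ Q, Eqv s.x1 (s.t * ω a * s.t⁻¹) (ω (s.t * a * s.t⁻¹) * (s.t * a * s.t⁻¹))
  adj : ∀ a ∈ Q, ∀ b ∈ Q, ω a * b = b * ω a ↔ (a * ω b = ω b * a ↔ a * b = b * a)

/-- The unitary case. -/
structure Un (Q : Subgroup G) (n : ℕ) : Prop where
  tr : ∀ a ∈ Q, a * a = 1 → a ≠ 1 → a ≠ s.x1 → ∃ g ∈ s.X ⊓ 𝐍[Q], Eqv s.x1 (g * s.y * g⁻¹) a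
  ord : ∃ k, ((n = 4 ∧ k = 15) ∨ (n = 5 ∧ k = 21)) ∧ 2 ^ k ∣ Nat.card (s.X ⊓ 𝐍[Q] : Subgroup G) ∧
    ¬ 2 ^ (k + 1) ∣ Nat.card (s.X ⊓ 𝐍[Q] : Subgroup G)

/-- The involutions `φ v` moving `t` to `t v` for `v` in `V5`. -/
structure Fs (φ : G → G) : Prop where
  mem : ∀ v ∈ s.V5, φ v ∈ s.X
  sq : ∀ v ∈ s.V5, φ v * φ v = 1
  cm : ∀ u ∈ s.V5, ∀ v ∈ s.V5, φ u * φ v = φ v * φ u
  z : φ s.x1 = 1
  add : ∀ u ∈ s.V5, ∀ v ∈ s.V5, Eqv s.x1 (φ (u * v)) (φ u * φ v)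
  conj : ∀ g ∈ s.P1, ∀ v ∈ s.V5, Eqv s.x1 (φ (g * v * g⁻¹)) (g * φ v * g⁻¹)
  t : ∀ v ∈ s.V5, v ∈ s.K2 → φ v * s.t * (φ v)⁻¹ = s.t * v
  t' : ∀ v ∈ s.V5, Eqv s.x1 (φ v * s.t * (φ v)⁻¹) (s.t * v)
  act : ∀ u ∈ s.V5, ∀ v ∈ s.V5, φ v * u = u * φ v ∨ φ v * u = s.x1 * (u * φ v)
  zc : ∀ v ∈ s.V5, φ v * s.x1 = s.x1 * φ v
  pair : ∀ u ∈ s.V5, ∀ v ∈ s.V5, u ∈ s.K2 → v ∈ s.K2 → (φ v * u = u * φ v ↔ u = v ∨ u * v ∈ s.K2)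

/-- The extraspecial group of order `2⁹`. -/
def Q8 (φ : G → G) : Subgroup G := clos [s.x1, s.y, s.a, s.c, s.r, φ s.y, φ s.a, φ s.c, φ s.r]
/-- The extraspecial group of order `2¹¹`. -/
def Q10 (φ : G → G) (k k' : G) : Subgroup G :=
  clos [s.x1, s.y, s.a, s.c, s.r, φ s.y, φ s.a, φ s.c, φ s.r, k, k']

/-- The element of order four moving `t` to `t x1`. -/
structure Kk (B : Subgroup G) (k : G) : Prop where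
  mem : k ∈ s.X
  phi : k ∈ s.Φ s.x1
  cB : k ∈ 𝐂[B]
  sq : k * k = s.x1
  cP : ∀ g ∈ s.P1, g * k = k * g

/-- The elements `k`, `k'`, `k2` of the case `L₇(2)` (`ε = 0`), `U₇(2)` (`ε = 1`). -/
structure Ks (φ : G → G) (k k' k2 : G) (ε : ℕ) : Prop where
  lt : ε < 2
  mem : k ∈ s.X ∧ k' ∈ s.X ∧ k2 ∈ s.X
  kP : ∀ g ∈ s.P1, g * k = k * g
  kφ : ∀ v ∈ s.V5, k * φ v = φ v * k
  kk : k * k = s.x1
  kt : k * s.t * k⁻¹ = s.t * s.x1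
  lV : ∀ v ∈ s.V5, k' * v = v * k'
  lφ : ∀ v ∈ s.V5, k' * φ v = φ v * k'
  lP : ∀ g ∈ s.P1, Eqv s.x1 (g * k' * g⁻¹) k'
  lk : k' * k = s.x1 * (k * k')
  ll : k' * k' = s.x1 ^ ε
  lt' : Eqv s.x1 (k' * s.t * k'⁻¹) (s.t * k)
  z2 : k2 * s.x1 = s.x1 * k2
  t2 : k2 * s.t * k2⁻¹ = s.t * s.x2
  fix2 : ∀ u ∈ [s.y, s.a, s.c, φ s.y, φ s.a, φ s.c], k2 * u = u * k2
  r2 : Eqv s.x1 (k2 * s.r * k2⁻¹) (s.r * φ s.y * k)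
  k2k : Eqv s.x1 (k2 * k * k2⁻¹) (k * s.y)
  φ2 : Eqv s.x1 (k2 * φ s.r * k2⁻¹) (φ s.r * φ s.y * k' * s.y ^ ε)
  l2 : Eqv s.x1 (k2 * k' * k2⁻¹) (k' * φ s.y)

end Co

end Cfsg.Agent.S33
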