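import Mathlib
import Cfsg.Agent.S33.XDefs

/-! Normal form of the matrix of `b̂`. -/

set_option autoImplicit false
set_option linter.unusedSectionVars false
set_option maxRecDepth 100000
set_option synthInstance.maxSize 100000
set_option synthInstance.maxHeartbeats 1000000
set_option exponentiation.threshold 100000

namespace Cfsg.Agent.S33

open Cfsg Cfsg.Agent.Rec Cfsg.Agent.Spor Cfsg.Agent.Loc.Mss Cfsg.Agent.SF6 Subgroup Matrix

namespace L4a

noncomputable def s6_t : ST :=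
(.node (nat_lit 0x80a04050080a0405) (.node (nat_lit 0x40c090b0040c090b) (.node (nat_lit 0x20b030c0020b030c) (.node (nat_lit 0x107040d00107040d) (.node (nat_lit 0x104070c00104070c) (.node (nat_lit 0x103050f00103050f) (.node (nat_lit 0x1020609001020609) (.node (nat_lit 0x102050a00102050a) (.node (nat_lit 0x1020409001020409) (.leaf (nat_lit 0x1020408001020408) (nat_lit 1537))
 (.leaf (nat_lit 0x1020409001020409) (nat_lit 1281))
) (.node (nat_lit 0x102050b00102050b) (.leaf (nat_lit 0x102050a00102050a) (nat_lit 1282))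
 (.node (nat_lit 0x1020608001020608) (.leaf (nat_lit 0x102050b00102050b) (nat_lit 1538))
 (.leaf (nat_lit 0x1020608001020608) (nat_lit 1284))
))) (.node (nat_lit 0x103040c00103040c) (.node (nat_lit 0x102070a00102070a) (.leaf (nat_lit 0x1020609001020609) (nat_lit 1028))
 (.node (nat_lit 0x102070b00102070b) (.leaf (nat_lit 0x102070a00102070a) (nat_lit 1538))
 (.leaf (nat_lit 0x102070b00102070b) (nat_lit 1794))
)) (.node (nat_lit 0x103040d00103040d) (.leaf (nat_lit 0x103040c00103040c) (nat_lit 1281))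
 (.node (nat_lit 0x103050e00103050e) (.leaf (nat_lit 0x103040d00103040d) (nat_lit 1537))
 (.leaf (nat_lit 0x103050e00103050e) (nat_lit 1282))
)))) (.node (nat_lit 0x1040208001040208) (.node (nat_lit 0x103060f00103060f) (.node (nat_lit 0x103060e00103060e) (.leaf (nat_lit 0x103050f00103050f) (nat_lit 1538))
 (.leaf (nat_lit 0x103060e00103060e) (nat_lit 1538))
) (.node (nat_lit 0x103070c00103070c) (.leaf (nat_lit 0x103060f00103060f) (nat_lit 1794))
 (.node (nat_lit 0x103070d00103070d) (.leaf (nat_lit 0x103070c00103070c) (nat_lit 1028))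
 (.leaf (nat_lit 0x103070d00103070d) (nat_lit 1284))
))) (.node (nat_lit 0x104030d00104030d) (.node (nat_lit 0x1040209001040209) (.leaf (nat_lit 0x1040208001040208) (nat_lit 768))
 (.node (nat_lit 0x104030c00104030c) (.leaf (nat_lit 0x1040209001040209) (nat_lit 515))
 (.leaf (nat_lit 0x104030c00104030c) (nat_lit 1026))
)) (.node (nat_lit 0x1040608001040608) (.leaf (nat_lit 0x104030d00104030d) (nat_lit 1282))
 (.node (nat_lit 0x1040609001040609) (.leaf (nat_lit 0x1040608001040608) (nat_lit 1024))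
 (.leaf (nat_lit 0x1040609001040609) (nat_lit 771))
))))) (.node (nat_lit 0x1060209001060209) (.node (nat_lit 0x105030f00105030f) (.node (nat_lit 0x105020a00105020a) (.node (nat_lit 0x104070d00104070d) (.leaf (nat_lit 0x104070c00104070c) (nat_lit 770))
 (.leaf (nat_lit 0x104070d00104070d) (nat_lit 1026))
) (.node (nat_lit 0x105020b00105020b) (.leaf (nat_lit 0x105020a00105020a) (nat_lit 2052))
 (.node (nat_lit 0x105030e00105030e) (.leaf (nat_lit 0x105020b00105020b) (nat_lit 2308))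
 (.leaf (nat_lit 0x105030e00105030e) (nat_lit 1540))
))) (.node (nat_lit 0x105070a00105070a) (.node (nat_lit 0x105060e00105060e) (.leaf (nat_lit 0x105030f00105030f) (nat_lit 1796))
 (.node (nat_lit 0x105060f00105060f) (.leaf (nat_lit 0x105060e00105060e) (nat_lit 1796))
 (.leaf (nat_lit 0x105060f00105060f) (nat_lit 2052))
)) (.node (nat_lit 0x105070b00105070b) (.leaf (nat_lit 0x105070a00105070a) (nat_lit 1796))
 (.node (nat_lit 0x1060208001060208) (.leaf (nat_lit 0x105070b00105070b) (nat_lit 2052))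
 (.leaf (nat_lit 0x1060208001060208) (nat_lit 1028))
)))) (.node (nat_lit 0x106050f00106050f) (.node (nat_lit 0x1060408001060408) (.node (nat_lit 0x106030e00106030e) (.leaf (nat_lit 0x1060209001060209) (nat_lit 772))
 (.node (nat_lit 0x106030f00106030f) (.leaf (nat_lit 0x106030e00106030e) (nat_lit 1282))
 (.leaf (nat_lit 0x106030f00106030f) (nat_lit 1538))
)) (.node (nat_lit 0x1060409001060409) (.leaf (nat_lit 0x1060408001060408) (nat_lit 1281))
 (.node (nat_lit 0x106050e00106050e) (.leaf (nat_lit 0x1060409001060409) (nat_lit 1025))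
 (.leaf (nat_lit 0x106050e00106050e) (nat_lit 1026))
))) (.node (nat_lit 0x107030c00107030c) (.node (nat_lit 0x107020a00107020a) (.leaf (nat_lit 0x106050f00106050f) (nat_lit 1282))
 (.node (nat_lit 0x107020b00107020b) (.leaf (nat_lit 0x107020a00107020a) (nat_lit 1794))
 (.leaf (nat_lit 0x107020b00107020b) (nat_lit 2050))
)) (.node (nat_lit 0x107030d00107030d) (.leaf (nat_lit 0x107030c00107030c) (nat_lit 1284))
 (.node (nat_lit 0x107040c00107040c) (.leaf (nat_lit 0x107030d00107030d) (nat_lit 1540))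
 (.leaf (nat_lit 0x107040c00107040c) (nat_lit 1537))
)))))) (.node (nat_lit 0x208030e00208030e) (.node (nat_lit 0x203080c00203080c) (.node (nat_lit 0x2010904002010904) (.node (nat_lit 0x107050b00107050b) (.node (nat_lit 0x107050a00107050a) (.leaf (nat_lit 0x107040d00107040d) (nat_lit 1793))
 (.leaf (nat_lit 0x107050a00107050a) (nat_lit 1538))
) (.node (nat_lit 0x2010804002010804) (.leaf (nat_lit 0x107050b00107050b) (nat_lit 1794))
 (.node (nat_lit 0x2010806002010806) (.leaf (nat_lit 0x2010804002010804) (nat_lit 2306))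
 (.leaf (nat_lit 0x2010806002010806) (nat_lit 2562))
))) (.node (nat_lit 0x2010a07002010a07) (.node (nat_lit 0x2010906002010906) (.leaf (nat_lit 0x2010904002010904) (nat_lit 2562))
 (.node (nat_lit 0x2010a05002010a05) (.leaf (nat_lit 0x2010906002010906) (nat_lit 2818))
 (.leaf (nat_lit 0x2010a05002010a05) (nat_lit 2564))
)) (.node (nat_lit 0x2010b05002010b05) (.leaf (nat_lit 0x2010a07002010a07) (nat_lit 2308))
 (.node (nat_lit 0x2010b07002010b07) (.leaf (nat_lit 0x2010b05002010b05) (nat_lit 2308))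
 (.leaf (nat_lit 0x2010b07002010b07) (nat_lit 2052))
)))) (.node (nat_lit 0x2030a0f002030a0f) (.node (nat_lit 0x203090d00203090d) (.node (nat_lit 0x203080e00203080e) (.leaf (nat_lit 0x203080c00203080c) (nat_lit 2560))
 (.leaf (nat_lit 0x203080e00203080e) (nat_lit 2307))
) (.node (nat_lit 0x203090f00203090f) (.leaf (nat_lit 0x203090d00203090d) (nat_lit 2304))
 (.node (nat_lit 0x2030a0d002030a0d) (.leaf (nat_lit 0x203090f00203090f) (nat_lit 2051))
 (.leaf (nat_lit 0x2030a0d002030a0d) (nat_lit 2560))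
))) (.node (nat_lit 0x2080104002080104) (.node (nat_lit 0x2030b0c002030b0c) (.leaf (nat_lit 0x2030a0f002030a0f) (nat_lit 2307))
 (.node (nat_lit 0x2030b0e002030b0e) (.leaf (nat_lit 0x2030b0c002030b0c) (nat_lit 2816))
 (.leaf (nat_lit 0x2030b0e002030b0e) (nat_lit 2563))
)) (.node (nat_lit 0x2080106002080106) (.leaf (nat_lit 0x2080104002080104) (nat_lit 3074))
 (.node (nat_lit 0x208030c00208030c) (.leaf (nat_lit 0x2080106002080106) (nat_lit 3330))
 (.leaf (nat_lit 0x208030c00208030c) (nat_lit 2820))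
))))) (.node (nat_lit 0x2090a0d002090a0d) (.node (nat_lit 0x2090104002090104) (.node (nat_lit 0x2080906002080906) (.node (nat_lit 0x2080904002080904) (.leaf (nat_lit 0x208030e00208030e) (nat_lit 2564))
 (.leaf (nat_lit 0x2080904002080904) (nat_lit 2818))
) (.node (nat_lit 0x2080b0c002080b0c) (.leaf (nat_lit 0x2080906002080906) (nat_lit 3074))
 (.node (nat_lit 0x2080b0e002080b0e) (.leaf (nat_lit 0x2080b0c002080b0c) (nat_lit 3076))
 (.leaf (nat_lit 0x2080b0e002080b0e) (nat_lit 2820))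
))) (.node (nat_lit 0x209030f00209030f) (.node (nat_lit 0x2090106002090106) (.leaf (nat_lit 0x2090104002090104) (nat_lit 2818))
 (.node (nat_lit 0x209030d00209030d) (.leaf (nat_lit 0x2090106002090106) (nat_lit 3074))
 (.leaf (nat_lit 0x209030d00209030d) (nat_lit 2564))
)) (.node (nat_lit 0x2090804002090804) (.leaf (nat_lit 0x209030f00209030f) (nat_lit 2308))
 (.node (nat_lit 0x2090806002090806) (.leaf (nat_lit 0x2090804002090804) (nat_lit 2562))
 (.leaf (nat_lit 0x2090806002090806) (nat_lit 2818))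
)))) (.node (nat_lit 0x20a090d0020a090d) (.node (nat_lit 0x20a01070020a0107) (.node (nat_lit 0x2090a0f002090a0f) (.leaf (nat_lit 0x2090a0d002090a0d) (nat_lit 2820))
 (.node (nat_lit 0x20a01050020a0105) (.leaf (nat_lit 0x2090a0f002090a0f) (nat_lit 2564))
 (.leaf (nat_lit 0x20a01050020a0105) (nat_lit 1792))
)) (.node (nat_lit 0x20a030d0020a030d) (.leaf (nat_lit 0x20a01070020a0107) (nat_lit 1539))
 (.node (nat_lit 0x20a030f0020a030f) (.leaf (nat_lit 0x20a030d0020a030d) (nat_lit 2304))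
 (.leaf (nat_lit 0x20a030f0020a030f) (nat_lit 2051))
))) (.node (nat_lit 0x20a0b070020a0b07) (.node (nat_lit 0x20a090f0020a090f) (.leaf (nat_lit 0x20a090d0020a090d) (nat_lit 2048))
 (.node (nat_lit 0x20a0b050020a0b05) (.leaf (nat_lit 0x20a090f0020a090f) (nat_lit 1795))
 (.leaf (nat_lit 0x20a0b050020a0b05) (nat_lit 2048))
)) (.node (nat_lit 0x20b01050020b0105) (.leaf (nat_lit 0x20a0b070020a0b07) (nat_lit 1795))
 (.node (nat_lit 0x20b01070020b0107) (.leaf (nat_lit 0x20b01050020b0105) (nat_lit 2048))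
 (.leaf (nat_lit 0x20b01070020b0107) (nat_lit 1795))
))))))) (.node (nat_lit 0x30e0f060030e0f06) (.node (nat_lit 0x30c01040030c0104) (.node (nat_lit 0x3010e06003010e06) (.node (nat_lit 0x20b0a070020b0a07) (.node (nat_lit 0x20b080c0020b080c) (.node (nat_lit 0x20b030e0020b030e) (.leaf (nat_lit 0x20b030c0020b030c) (nat_lit 2560))
 (.leaf (nat_lit 0x20b030e0020b030e) (nat_lit 2307))
) (.node (nat_lit 0x20b080e0020b080e) (.leaf (nat_lit 0x20b080c0020b080c) (nat_lit 2304))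
 (.node (nat_lit 0x20b0a050020b0a05) (.leaf (nat_lit 0x20b080e0020b080e) (nat_lit 2051))
 (.leaf (nat_lit 0x20b0a050020b0a05) (nat_lit 2304))
))) (.node (nat_lit 0x3010d04003010d04) (.node (nat_lit 0x3010c04003010c04) (.leaf (nat_lit 0x20b0a070020b0a07) (nat_lit 2051))
 (.node (nat_lit 0x3010c07003010c07) (.leaf (nat_lit 0x3010c04003010c04) (nat_lit 2562))
 (.leaf (nat_lit 0x3010c07003010c07) (nat_lit 2818))
)) (.node (nat_lit 0x3010d07003010d07) (.leaf (nat_lit 0x3010d04003010d04) (nat_lit 2306))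
 (.node (nat_lit 0x3010e05003010e05) (.leaf (nat_lit 0x3010d07003010d07) (nat_lit 2562))
 (.leaf (nat_lit 0x3010e05003010e05) (nat_lit 2564))
)))) (.node (nat_lit 0x3020d09003020d09) (.node (nat_lit 0x3010f06003010f06) (.node (nat_lit 0x3010f05003010f05) (.leaf (nat_lit 0x3010e06003010e06) (nat_lit 2308))
 (.leaf (nat_lit 0x3010f05003010f05) (nat_lit 2308))
) (.node (nat_lit 0x3020c08003020c08) (.leaf (nat_lit 0x3010f06003010f06) (nat_lit 2052))
 (.node (nat_lit 0x3020c0b003020c0b) (.leaf (nat_lit 0x3020c08003020c08) (nat_lit 1280))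
 (.leaf (nat_lit 0x3020c0b003020c0b) (nat_lit 1027))
))) (.node (nat_lit 0x3020e0b003020e0b) (.node (nat_lit 0x3020d0a003020d0a) (.leaf (nat_lit 0x3020d09003020d09) (nat_lit 1536))
 (.node (nat_lit 0x3020e08003020e08) (.leaf (nat_lit 0x3020d0a003020d0a) (nat_lit 1283))
 (.leaf (nat_lit 0x3020e08003020e08) (nat_lit 1536))
)) (.node (nat_lit 0x3020f09003020f09) (.leaf (nat_lit 0x3020e0b003020e0b) (nat_lit 1283))
 (.node (nat_lit 0x3020f0a003020f0a) (.leaf (nat_lit 0x3020f09003020f09) (nat_lit 1792))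
 (.leaf (nat_lit 0x3020f0a003020f0a) (nat_lit 1539))
))))) (.node (nat_lit 0x30d020a0030d020a) (.node (nat_lit 0x30c0d070030c0d07) (.node (nat_lit 0x30c02080030c0208) (.node (nat_lit 0x30c01070030c0107) (.leaf (nat_lit 0x30c01040030c0104) (nat_lit 1794))
 (.leaf (nat_lit 0x30c01070030c0107) (nat_lit 2050))
) (.node (nat_lit 0x30c020b0030c020b) (.leaf (nat_lit 0x30c02080030c0208) (nat_lit 2052))
 (.node (nat_lit 0x30c0d040030c0d04) (.leaf (nat_lit 0x30c020b0030c020b) (nat_lit 1796))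
 (.leaf (nat_lit 0x30c0d040030c0d04) (nat_lit 2050))
))) (.node (nat_lit 0x30d01040030d0104) (.node (nat_lit 0x30c0e080030c0e08) (.leaf (nat_lit 0x30c0d070030c0d07) (nat_lit 2306))
 (.node (nat_lit 0x30c0e0b0030c0e0b) (.leaf (nat_lit 0x30c0e080030c0e08) (nat_lit 1796))
 (.leaf (nat_lit 0x30c0e0b0030c0e0b) (nat_lit 1540))
)) (.node (nat_lit 0x30d01070030d0107) (.leaf (nat_lit 0x30d01040030d0104) (nat_lit 2050))
 (.node (nat_lit 0x30d02090030d0209) (.leaf (nat_lit 0x30d01070030d0107) (nat_lit 2306))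
 (.leaf (nat_lit 0x30d02090030d0209) (nat_lit 2308))
)))) (.node (nat_lit 0x30e01060030e0106) (.node (nat_lit 0x30d0f090030d0f09) (.node (nat_lit 0x30d0c040030d0c04) (.leaf (nat_lit 0x30d020a0030d020a) (nat_lit 2052))
 (.node (nat_lit 0x30d0c070030d0c07) (.leaf (nat_lit 0x30d0c040030d0c04) (nat_lit 2306))
 (.leaf (nat_lit 0x30d0c070030d0c07) (nat_lit 2562))
)) (.node (nat_lit 0x30d0f0a0030d0f0a) (.leaf (nat_lit 0x30d0f090030d0f09) (nat_lit 2052))
 (.node (nat_lit 0x30e01050030e0105) (.leaf (nat_lit 0x30d0f0a0030d0f0a) (nat_lit 1796))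
 (.leaf (nat_lit 0x30e01050030e0105) (nat_lit 1792))
))) (.node (nat_lit 0x30e0c080030e0c08) (.node (nat_lit 0x30e02080030e0208) (.leaf (nat_lit 0x30e01060030e0106) (nat_lit 1539))
 (.node (nat_lit 0x30e020b0030e020b) (.leaf (nat_lit 0x30e02080030e0208) (nat_lit 1792))
 (.leaf (nat_lit 0x30e020b0030e020b) (nat_lit 1539))
)) (.node (nat_lit 0x30e0c0b0030e0c0b) (.leaf (nat_lit 0x30e0c080030e0c08) (nat_lit 1536))
 (.node (nat_lit 0x30e0f050030e0f05) (.leaf (nat_lit 0x30e0c0b0030e0c0b) (nat_lit 1283))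
 (.leaf (nat_lit 0x30e0f050030e0f05) (nat_lit 2048))
)))))) (.node (nat_lit 0x4050c0f004050c0f) (.node (nat_lit 0x4010902004010902) (.node (nat_lit 0x30f0d090030f0d09) (.node (nat_lit 0x30f01060030f0106) (.node (nat_lit 0x30f01050030f0105) (.leaf (nat_lit 0x30e0f060030e0f06) (nat_lit 1795))
 (.leaf (nat_lit 0x30f01050030f0105) (nat_lit 2048))
) (.node (nat_lit 0x30f02090030f0209) (.leaf (nat_lit 0x30f01060030f0106) (nat_lit 1795))
 (.node (nat_lit 0x30f020a0030f020a) (.leaf (nat_lit 0x30f02090030f0209) (nat_lit 2048))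
 (.leaf (nat_lit 0x30f020a0030f020a) (nat_lit 1795))
))) (.node (nat_lit 0x30f0e060030f0e06) (.node (nat_lit 0x30f0d0a0030f0d0a) (.leaf (nat_lit 0x30f0d090030f0d09) (nat_lit 1792))
 (.node (nat_lit 0x30f0e050030f0e05) (.leaf (nat_lit 0x30f0d0a0030f0d0a) (nat_lit 1539))
 (.leaf (nat_lit 0x30f0e050030f0e05) (nat_lit 2304))
)) (.node (nat_lit 0x4010802004010802) (.leaf (nat_lit 0x30f0e060030f0e06) (nat_lit 2051))
 (.node (nat_lit 0x4010806004010806) (.leaf (nat_lit 0x4010802004010802) (nat_lit 3075))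
 (.leaf (nat_lit 0x4010806004010806) (nat_lit 2819))
)))) (.node (nat_lit 0x4010d07004010d07) (.node (nat_lit 0x4010c03004010c03) (.node (nat_lit 0x4010906004010906) (.leaf (nat_lit 0x4010902004010902) (nat_lit 3331))
 (.leaf (nat_lit 0x4010906004010906) (nat_lit 3075))
) (.node (nat_lit 0x4010c07004010c07) (.leaf (nat_lit 0x4010c03004010c03) (nat_lit 2819))
 (.node (nat_lit 0x4010d03004010d03) (.leaf (nat_lit 0x4010c07004010c07) (nat_lit 3075))
 (.leaf (nat_lit 0x4010d03004010d03) (nat_lit 2563))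
))) (.node (nat_lit 0x405090b00405090b) (.node (nat_lit 0x405080a00405080a) (.leaf (nat_lit 0x4010d07004010d07) (nat_lit 2819))
 (.node (nat_lit 0x405080e00405080e) (.leaf (nat_lit 0x405080a00405080a) (nat_lit 2819))
 (.leaf (nat_lit 0x405080e00405080e) (nat_lit 3075))
)) (.node (nat_lit 0x405090f00405090f) (.leaf (nat_lit 0x405090b00405090b) (nat_lit 2563))
 (.node (nat_lit 0x4050c0b004050c0b) (.leaf (nat_lit 0x405090f00405090f) (nat_lit 2819))
 (.leaf (nat_lit 0x4050c0b004050c0b) (nat_lit 2819))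
))))) (.node (nat_lit 0x4090102004090102) (.node (nat_lit 0x408050a00408050a) (.node (nat_lit 0x4050d0e004050d0e) (.node (nat_lit 0x4050d0a004050d0a) (.leaf (nat_lit 0x4050c0f004050c0f) (nat_lit 3075))
 (.leaf (nat_lit 0x4050d0a004050d0a) (nat_lit 3075))
) (.node (nat_lit 0x4080102004080102) (.leaf (nat_lit 0x4050d0e004050d0e) (nat_lit 3331))
 (.node (nat_lit 0x4080106004080106) (.leaf (nat_lit 0x4080102004080102) (nat_lit 3843))
 (.leaf (nat_lit 0x4080106004080106) (nat_lit 3587))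
))) (.node (nat_lit 0x4080906004080906) (.node (nat_lit 0x408050e00408050e) (.leaf (nat_lit 0x408050a00408050a) (nat_lit 3075))
 (.node (nat_lit 0x4080902004080902) (.leaf (nat_lit 0x408050e00408050e) (nat_lit 3331))
 (.leaf (nat_lit 0x4080902004080902) (nat_lit 3587))
)) (.node (nat_lit 0x4080d0a004080d0a) (.leaf (nat_lit 0x4080906004080906) (nat_lit 3331))
 (.node (nat_lit 0x4080d0e004080d0e) (.leaf (nat_lit 0x4080d0a004080d0a) (nat_lit 3331))
 (.leaf (nat_lit 0x4080d0e004080d0e) (nat_lit 3587))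
)))) (.node (nat_lit 0x4090c0b004090c0b) (.node (nat_lit 0x409050f00409050f) (.node (nat_lit 0x4090106004090106) (.leaf (nat_lit 0x4090102004090102) (nat_lit 3587))
 (.node (nat_lit 0x409050b00409050b) (.leaf (nat_lit 0x4090106004090106) (nat_lit 3331))
 (.leaf (nat_lit 0x409050b00409050b) (nat_lit 2819))
)) (.node (nat_lit 0x4090802004090802) (.leaf (nat_lit 0x409050f00409050f) (nat_lit 3075))
 (.node (nat_lit 0x4090806004090806) (.leaf (nat_lit 0x4090802004090802) (nat_lit 3331))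
 (.leaf (nat_lit 0x4090806004090806) (nat_lit 3075))
))) (.node (nat_lit 0x40c01070040c0107) (.node (nat_lit 0x4090c0f004090c0f) (.leaf (nat_lit 0x4090c0b004090c0b) (nat_lit 3075))
 (.node (nat_lit 0x40c01030040c0103) (.leaf (nat_lit 0x4090c0f004090c0f) (nat_lit 3331))
 (.leaf (nat_lit 0x40c01030040c0103) (nat_lit 2051))
)) (.node (nat_lit 0x40c050b0040c050b) (.leaf (nat_lit 0x40c01070040c0107) (nat_lit 2307))
 (.node (nat_lit 0x40c050f0040c050f) (.leaf (nat_lit 0x40c050b0040c050b) (nat_lit 2563))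
 (.leaf (nat_lit 0x40c050f0040c050f) (nat_lit 2819))
)))))))) (.node (nat_lit 0x6090e0b006090e0b) (.node (nat_lit 0x50e01060050e0106) (.node (nat_lit 0x5040b09005040b09) (.node (nat_lit 0x40d0c070040d0c07) (.node (nat_lit 0x40d01070040d0107) (.node (nat_lit 0x40c0d030040c0d03) (.node (nat_lit 0x40c090f0040c090f) (.leaf (nat_lit 0x40c090b0040c090b) (nat_lit 2307))
 (.leaf (nat_lit 0x40c090f0040c090f) (nat_lit 2563))
) (.node (nat_lit 0x40c0d070040c0d07) (.leaf (nat_lit 0x40c0d030040c0d03) (nat_lit 2307))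
 (.node (nat_lit 0x40d01030040d0103) (.leaf (nat_lit 0x40c0d070040c0d07) (nat_lit 2563))
 (.leaf (nat_lit 0x40d01030040d0103) (nat_lit 2307))
))) (.node (nat_lit 0x40d080a0040d080a) (.node (nat_lit 0x40d050a0040d050a) (.leaf (nat_lit 0x40d01070040d0107) (nat_lit 2563))
 (.node (nat_lit 0x40d050e0040d050e) (.leaf (nat_lit 0x40d050a0040d050a) (nat_lit 2819))
 (.leaf (nat_lit 0x40d050e0040d050e) (nat_lit 3075))
)) (.node (nat_lit 0x40d080e0040d080e) (.leaf (nat_lit 0x40d080a0040d080a) (nat_lit 2563))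
 (.node (nat_lit 0x40d0c030040d0c03) (.leaf (nat_lit 0x40d080e0040d080e) (nat_lit 2819))
 (.leaf (nat_lit 0x40d0c030040d0c03) (nat_lit 2563))
)))) (.node (nat_lit 0x5010e03005010e03) (.node (nat_lit 0x5010a07005010a07) (.node (nat_lit 0x5010a02005010a02) (.leaf (nat_lit 0x40d0c070040d0c07) (nat_lit 2819))
 (.leaf (nat_lit 0x5010a02005010a02) (nat_lit 1796))
) (.node (nat_lit 0x5010b02005010b02) (.leaf (nat_lit 0x5010a07005010a07) (nat_lit 2052))
 (.node (nat_lit 0x5010b07005010b07) (.leaf (nat_lit 0x5010b02005010b02) (nat_lit 1540))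
 (.leaf (nat_lit 0x5010b07005010b07) (nat_lit 1796))
))) (.node (nat_lit 0x5010f06005010f06) (.node (nat_lit 0x5010e06005010e06) (.leaf (nat_lit 0x5010e03005010e03) (nat_lit 2308))
 (.node (nat_lit 0x5010f03005010f03) (.leaf (nat_lit 0x5010e06005010e06) (nat_lit 2052))
 (.leaf (nat_lit 0x5010f03005010f03) (nat_lit 2052))
)) (.node (nat_lit 0x5040a08005040a08) (.leaf (nat_lit 0x5010f06005010f06) (nat_lit 1796))
 (.node (nat_lit 0x5040a0d005040a0d) (.leaf (nat_lit 0x5040a08005040a08) (nat_lit 1024))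
 (.leaf (nat_lit 0x5040a0d005040a0d) (nat_lit 771))
))))) (.node (nat_lit 0x50a0b070050a0b07) (.node (nat_lit 0x5040f0c005040f0c) (.node (nat_lit 0x5040e08005040e08) (.node (nat_lit 0x5040b0c005040b0c) (.leaf (nat_lit 0x5040b09005040b09) (nat_lit 1282))
 (.leaf (nat_lit 0x5040b0c005040b0c) (nat_lit 1026))
) (.node (nat_lit 0x5040e0d005040e0d) (.leaf (nat_lit 0x5040e08005040e08) (nat_lit 768))
 (.node (nat_lit 0x5040f09005040f09) (.leaf (nat_lit 0x5040e0d005040e0d) (nat_lit 515))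
 (.leaf (nat_lit 0x5040f09005040f09) (nat_lit 1026))
))) (.node (nat_lit 0x50a04080050a0408) (.node (nat_lit 0x50a01020050a0102) (.leaf (nat_lit 0x5040f0c005040f0c) (nat_lit 770))
 (.node (nat_lit 0x50a01070050a0107) (.leaf (nat_lit 0x50a01020050a0102) (nat_lit 1026))
 (.leaf (nat_lit 0x50a01070050a0107) (nat_lit 1282))
)) (.node (nat_lit 0x50a040d0050a040d) (.leaf (nat_lit 0x50a04080050a0408) (nat_lit 1281))
 (.node (nat_lit 0x50a0b020050a0b02) (.leaf (nat_lit 0x50a040d0050a040d) (nat_lit 1025))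
 (.leaf (nat_lit 0x50a0b020050a0b02) (nat_lit 1282))
)))) (.node (nat_lit 0x50b040c0050b040c) (.node (nat_lit 0x50b01020050b0102) (.node (nat_lit 0x50a0e080050a0e08) (.leaf (nat_lit 0x50a0b070050a0b07) (nat_lit 1538))
 (.node (nat_lit 0x50a0e0d0050a0e0d) (.leaf (nat_lit 0x50a0e080050a0e08) (nat_lit 1028))
 (.leaf (nat_lit 0x50a0e0d0050a0e0d) (nat_lit 772))
)) (.node (nat_lit 0x50b01070050b0107) (.leaf (nat_lit 0x50b01020050b0102) (nat_lit 1282))
 (.node (nat_lit 0x50b04090050b0409) (.leaf (nat_lit 0x50b01070050b0107) (nat_lit 1538))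
 (.leaf (nat_lit 0x50b04090050b0409) (nat_lit 1537))
))) (.node (nat_lit 0x50b0f090050b0f09) (.node (nat_lit 0x50b0a020050b0a02) (.leaf (nat_lit 0x50b040c0050b040c) (nat_lit 1281))
 (.node (nat_lit 0x50b0a070050b0a07) (.leaf (nat_lit 0x50b0a020050b0a02) (nat_lit 1538))
 (.leaf (nat_lit 0x50b0a070050b0a07) (nat_lit 1794))
)) (.node (nat_lit 0x50b0f0c0050b0f0c) (.leaf (nat_lit 0x50b0f090050b0f09) (nat_lit 1284))
 (.node (nat_lit 0x50e01030050e0103) (.leaf (nat_lit 0x50b0f0c0050b0f0c) (nat_lit 1028))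
 (.leaf (nat_lit 0x50e01030050e0103) (nat_lit 1538))
)))))) (.node (nat_lit 0x6010f05006010f05) (.node (nat_lit 0x50f0b090050f0b09) (.node (nat_lit 0x50e0f030050e0f03) (.node (nat_lit 0x50e040d0050e040d) (.node (nat_lit 0x50e04080050e0408) (.leaf (nat_lit 0x50e01060050e0106) (nat_lit 1282))
 (.leaf (nat_lit 0x50e04080050e0408) (nat_lit 1537))
) (.node (nat_lit 0x50e0a080050e0a08) (.leaf (nat_lit 0x50e040d0050e040d) (nat_lit 1281))
 (.node (nat_lit 0x50e0a0d0050e0a0d) (.leaf (nat_lit 0x50e0a080050e0a08) (nat_lit 1284))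
 (.leaf (nat_lit 0x50e0a0d0050e0a0d) (nat_lit 1028))
))) (.node (nat_lit 0x50f01060050f0106) (.node (nat_lit 0x50e0f060050e0f06) (.leaf (nat_lit 0x50e0f030050e0f03) (nat_lit 1794))
 (.node (nat_lit 0x50f01030050f0103) (.leaf (nat_lit 0x50e0f060050e0f06) (nat_lit 1538))
 (.leaf (nat_lit 0x50f01030050f0103) (nat_lit 1794))
)) (.node (nat_lit 0x50f04090050f0409) (.leaf (nat_lit 0x50f01060050f0106) (nat_lit 1538))
 (.node (nat_lit 0x50f040c0050f040c) (.leaf (nat_lit 0x50f04090050f0409) (nat_lit 1793))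
 (.leaf (nat_lit 0x50f040c0050f040c) (nat_lit 1537))
)))) (.node (nat_lit 0x6010804006010804) (.node (nat_lit 0x50f0e030050f0e03) (.node (nat_lit 0x50f0b0c0050f0b0c) (.leaf (nat_lit 0x50f0b090050f0b09) (nat_lit 1540))
 (.leaf (nat_lit 0x50f0b0c0050f0b0c) (nat_lit 1284))
) (.node (nat_lit 0x50f0e060050f0e06) (.leaf (nat_lit 0x50f0e030050f0e03) (nat_lit 2050))
 (.node (nat_lit 0x6010802006010802) (.leaf (nat_lit 0x50f0e060050f0e06) (nat_lit 1794))
 (.leaf (nat_lit 0x6010802006010802) (nat_lit 2818))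
))) (.node (nat_lit 0x6010e03006010e03) (.node (nat_lit 0x6010902006010902) (.leaf (nat_lit 0x6010804006010804) (nat_lit 2562))
 (.node (nat_lit 0x6010904006010904) (.leaf (nat_lit 0x6010902006010902) (nat_lit 3074))
 (.leaf (nat_lit 0x6010904006010904) (nat_lit 2818))
)) (.node (nat_lit 0x6010e05006010e05) (.leaf (nat_lit 0x6010e03006010e03) (nat_lit 2564))
 (.node (nat_lit 0x6010f03006010f03) (.leaf (nat_lit 0x6010e05006010e05) (nat_lit 2820))
 (.leaf (nat_lit 0x6010f03006010f03) (nat_lit 2308))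
))))) (.node (nat_lit 0x608070a00608070a) (.node (nat_lit 0x6070e0b006070e0b) (.node (nat_lit 0x607080c00607080c) (.node (nat_lit 0x607080a00607080a) (.leaf (nat_lit 0x6010f05006010f05) (nat_lit 2564))
 (.leaf (nat_lit 0x607080a00607080a) (nat_lit 2563))
) (.node (nat_lit 0x607090b00607090b) (.leaf (nat_lit 0x607080c00607080c) (nat_lit 2816))
 (.node (nat_lit 0x607090d00607090d) (.leaf (nat_lit 0x607090b00607090b) (nat_lit 2307))
 (.leaf (nat_lit 0x607090d00607090d) (nat_lit 2560))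
))) (.node (nat_lit 0x6070f0c006070f0c) (.node (nat_lit 0x6070e0d006070e0d) (.leaf (nat_lit 0x6070e0b006070e0b) (nat_lit 2563))
 (.node (nat_lit 0x6070f0a006070f0a) (.leaf (nat_lit 0x6070e0d006070e0d) (nat_lit 2816))
 (.leaf (nat_lit 0x6070f0a006070f0a) (nat_lit 2819))
)) (.node (nat_lit 0x6080102006080102) (.leaf (nat_lit 0x6070f0c006070f0c) (nat_lit 3072))
 (.node (nat_lit 0x6080104006080104) (.leaf (nat_lit 0x6080102006080102) (nat_lit 3586))
 (.leaf (nat_lit 0x6080104006080104) (nat_lit 3330))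
)))) (.node (nat_lit 0x6090102006090102) (.node (nat_lit 0x6080904006080904) (.node (nat_lit 0x608070c00608070c) (.leaf (nat_lit 0x608070a00608070a) (nat_lit 2820))
 (.node (nat_lit 0x6080902006080902) (.leaf (nat_lit 0x608070c00608070c) (nat_lit 3076))
 (.leaf (nat_lit 0x6080902006080902) (nat_lit 3330))
)) (.node (nat_lit 0x6080f0a006080f0a) (.leaf (nat_lit 0x6080904006080904) (nat_lit 3074))
 (.node (nat_lit 0x6080f0c006080f0c) (.leaf (nat_lit 0x6080f0a006080f0a) (nat_lit 3076))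
 (.leaf (nat_lit 0x6080f0c006080f0c) (nat_lit 3332))
))) (.node (nat_lit 0x609070d00609070d) (.node (nat_lit 0x6090104006090104) (.leaf (nat_lit 0x6090102006090102) (nat_lit 3330))
 (.node (nat_lit 0x609070b00609070b) (.leaf (nat_lit 0x6090104006090104) (nat_lit 3074))
 (.leaf (nat_lit 0x609070b00609070b) (nat_lit 2564))
)) (.node (nat_lit 0x6090802006090802) (.leaf (nat_lit 0x609070d00609070d) (nat_lit 2820))
 (.node (nat_lit 0x6090804006090804) (.leaf (nat_lit 0x6090802006090802) (nat_lit 3074))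
 (.leaf (nat_lit 0x6090804006090804) (nat_lit 2818))
))))))) (.node (nat_lit 0x70b060e0070b060e) (.node (nat_lit 0x7010c03007010c03) (.node (nat_lit 0x60f01050060f0105) (.node (nat_lit 0x60e070d0060e070d) (.node (nat_lit 0x60e01030060e0103) (.node (nat_lit 0x6090e0d006090e0d) (.leaf (nat_lit 0x6090e0b006090e0b) (nat_lit 2820))
 (.leaf (nat_lit 0x6090e0d006090e0d) (nat_lit 3076))
) (.node (nat_lit 0x60e01050060e0105) (.leaf (nat_lit 0x60e01030060e0103) (nat_lit 1795))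
 (.node (nat_lit 0x60e070b0060e070b) (.leaf (nat_lit 0x60e01050060e0105) (nat_lit 2048))
 (.leaf (nat_lit 0x60e070b0060e070b) (nat_lit 2307))
))) (.node (nat_lit 0x60e0f030060e0f03) (.node (nat_lit 0x60e090b0060e090b) (.leaf (nat_lit 0x60e070d0060e070d) (nat_lit 2560))
 (.node (nat_lit 0x60e090d0060e090d) (.leaf (nat_lit 0x60e090b0060e090b) (nat_lit 2051))
 (.leaf (nat_lit 0x60e090d0060e090d) (nat_lit 2304))
)) (.node (nat_lit 0x60e0f050060e0f05) (.leaf (nat_lit 0x60e0f030060e0f03) (nat_lit 2051))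
 (.node (nat_lit 0x60f01030060f0103) (.leaf (nat_lit 0x60e0f050060e0f05) (nat_lit 2304))
 (.leaf (nat_lit 0x60f01030060f0103) (nat_lit 2051))
)))) (.node (nat_lit 0x60f0e030060f0e03) (.node (nat_lit 0x60f070c0060f070c) (.node (nat_lit 0x60f070a0060f070a) (.leaf (nat_lit 0x60f01050060f0105) (nat_lit 2304))
 (.leaf (nat_lit 0x60f070a0060f070a) (nat_lit 2563))
) (.node (nat_lit 0x60f080a0060f080a) (.leaf (nat_lit 0x60f070c0060f070c) (nat_lit 2816))
 (.node (nat_lit 0x60f080c0060f080c) (.leaf (nat_lit 0x60f080a0060f080a) (nat_lit 2307))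
 (.leaf (nat_lit 0x60f080c0060f080c) (nat_lit 2560))
))) (.node (nat_lit 0x7010a05007010a05) (.node (nat_lit 0x60f0e050060f0e05) (.leaf (nat_lit 0x60f0e030060f0e03) (nat_lit 2307))
 (.node (nat_lit 0x7010a02007010a02) (.leaf (nat_lit 0x60f0e050060f0e05) (nat_lit 2560))
 (.leaf (nat_lit 0x7010a02007010a02) (nat_lit 2052))
)) (.node (nat_lit 0x7010b02007010b02) (.leaf (nat_lit 0x7010a05007010a05) (nat_lit 2308))
 (.node (nat_lit 0x7010b05007010b05) (.leaf (nat_lit 0x7010b02007010b02) (nat_lit 1796))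
 (.leaf (nat_lit 0x7010b05007010b05) (nat_lit 2052))
))))) (.node (nat_lit 0x7060d0e007060d0e) (.node (nat_lit 0x7060a0f007060a0f) (.node (nat_lit 0x7010d03007010d03) (.node (nat_lit 0x7010c04007010c04) (.leaf (nat_lit 0x7010c03007010c03) (nat_lit 2562))
 (.leaf (nat_lit 0x7010c04007010c04) (nat_lit 2306))
) (.node (nat_lit 0x7010d04007010d04) (.leaf (nat_lit 0x7010d03007010d03) (nat_lit 2306))
 (.node (nat_lit 0x7060a08007060a08) (.leaf (nat_lit 0x7010d04007010d04) (nat_lit 2050))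
 (.leaf (nat_lit 0x7060a08007060a08) (nat_lit 1280))
))) (.node (nat_lit 0x7060c08007060c08) (.node (nat_lit 0x7060b09007060b09) (.leaf (nat_lit 0x7060a0f007060a0f) (nat_lit 1027))
 (.node (nat_lit 0x7060b0e007060b0e) (.leaf (nat_lit 0x7060b09007060b09) (nat_lit 1536))
 (.leaf (nat_lit 0x7060b0e007060b0e) (nat_lit 1283))
)) (.node (nat_lit 0x7060c0f007060c0f) (.leaf (nat_lit 0x7060c08007060c08) (nat_lit 1024))
 (.node (nat_lit 0x7060d09007060d09) (.leaf (nat_lit 0x7060c0f007060c0f) (nat_lit 771))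
 (.leaf (nat_lit 0x7060d09007060d09) (nat_lit 1280))
)))) (.node (nat_lit 0x70a0b050070a0b05) (.node (nat_lit 0x70a06080070a0608) (.node (nat_lit 0x70a01020070a0102) (.leaf (nat_lit 0x7060d0e007060d0e) (nat_lit 1027))
 (.node (nat_lit 0x70a01050070a0105) (.leaf (nat_lit 0x70a01020070a0102) (nat_lit 1283))
 (.leaf (nat_lit 0x70a01050070a0105) (nat_lit 1536))
)) (.node (nat_lit 0x70a060f0070a060f) (.leaf (nat_lit 0x70a06080070a0608) (nat_lit 1536))
 (.node (nat_lit 0x70a0b020070a0b02) (.leaf (nat_lit 0x70a060f0070a060f) (nat_lit 1283))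
 (.leaf (nat_lit 0x70a0b020070a0b02) (nat_lit 1539))
))) (.node (nat_lit 0x70b01020070b0102) (.node (nat_lit 0x70a0c080070a0c08) (.leaf (nat_lit 0x70a0b050070a0b05) (nat_lit 1792))
 (.node (nat_lit 0x70a0c0f0070a0c0f) (.leaf (nat_lit 0x70a0c080070a0c08) (nat_lit 1280))
 (.leaf (nat_lit 0x70a0c0f0070a0c0f) (nat_lit 1027))
)) (.node (nat_lit 0x70b01050070b0105) (.leaf (nat_lit 0x70b01020070b0102) (nat_lit 1539))
 (.node (nat_lit 0x70b06090070b0609) (.leaf (nat_lit 0x70b01050070b0105) (nat_lit 1792))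
 (.leaf (nat_lit 0x70b06090070b0609) (nat_lit 1792))
)))))) (.node (nat_lit 0x8020409008020409) (.node (nat_lit 0x70c0d030070c0d03) (.node (nat_lit 0x70c01030070c0103) (.node (nat_lit 0x70b0a050070b0a05) (.node (nat_lit 0x70b0a020070b0a02) (.leaf (nat_lit 0x70b060e0070b060e) (nat_lit 1539))
 (.leaf (nat_lit 0x70b0a020070b0a02) (nat_lit 1795))
) (.node (nat_lit 0x70b0d090070b0d09) (.leaf (nat_lit 0x70b0a050070b0a05) (nat_lit 2048))
 (.node (nat_lit 0x70b0d0e0070b0d0e) (.leaf (nat_lit 0x70b0d090070b0d09) (nat_lit 1536))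
 (.leaf (nat_lit 0x70b0d0e0070b0d0e) (nat_lit 1283))
))) (.node (nat_lit 0x70c060f0070c060f) (.node (nat_lit 0x70c01040070c0104) (.leaf (nat_lit 0x70c01030070c0103) (nat_lit 1794))
 (.node (nat_lit 0x70c06080070c0608) (.leaf (nat_lit 0x70c01040070c0104) (nat_lit 1538))
 (.leaf (nat_lit 0x70c06080070c0608) (nat_lit 1796))
)) (.node (nat_lit 0x70c0a080070c0a08) (.leaf (nat_lit 0x70c060f0070c060f) (nat_lit 1540))
 (.node (nat_lit 0x70c0a0f0070c0a0f) (.leaf (nat_lit 0x70c0a080070c0a08) (nat_lit 1540))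
 (.leaf (nat_lit 0x70c0a0f0070c0a0f) (nat_lit 1284))
)))) (.node (nat_lit 0x70d060e0070d060e) (.node (nat_lit 0x70d01030070d0103) (.node (nat_lit 0x70c0d040070c0d04) (.leaf (nat_lit 0x70c0d030070c0d03) (nat_lit 2050))
 (.leaf (nat_lit 0x70c0d040070c0d04) (nat_lit 1794))
) (.node (nat_lit 0x70d01040070d0104) (.leaf (nat_lit 0x70d01030070d0103) (nat_lit 2050))
 (.node (nat_lit 0x70d06090070d0609) (.leaf (nat_lit 0x70d01040070d0104) (nat_lit 1794))
 (.leaf (nat_lit 0x70d06090070d0609) (nat_lit 2052))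
))) (.node (nat_lit 0x70d0c030070d0c03) (.node (nat_lit 0x70d0b090070d0b09) (.leaf (nat_lit 0x70d060e0070d060e) (nat_lit 1796))
 (.node (nat_lit 0x70d0b0e0070d0b0e) (.leaf (nat_lit 0x70d0b090070d0b09) (nat_lit 1796))
 (.leaf (nat_lit 0x70d0b0e0070d0b0e) (nat_lit 1540))
)) (.node (nat_lit 0x70d0c040070d0c04) (.leaf (nat_lit 0x70d0c030070d0c03) (nat_lit 2306))
 (.node (nat_lit 0x8020401008020401) (.leaf (nat_lit 0x70d0c040070d0c04) (nat_lit 2050))
 (.leaf (nat_lit 0x8020401008020401) (nat_lit 769))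
))))) (.node (nat_lit 0x8040a05008040a05) (.node (nat_lit 0x8020e03008020e03) (.node (nat_lit 0x8020609008020609) (.node (nat_lit 0x8020601008020601) (.leaf (nat_lit 0x8020409008020409) (nat_lit 1025))
 (.leaf (nat_lit 0x8020601008020601) (nat_lit 516))
) (.node (nat_lit 0x8020c03008020c03) (.leaf (nat_lit 0x8020609008020609) (nat_lit 772))
 (.node (nat_lit 0x8020c0b008020c0b) (.leaf (nat_lit 0x8020c03008020c03) (nat_lit 1026))
 (.leaf (nat_lit 0x8020c0b008020c0b) (nat_lit 770))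
))) (.node (nat_lit 0x8040209008040209) (.node (nat_lit 0x8020e0b008020e0b) (.leaf (nat_lit 0x8020e03008020e03) (nat_lit 1282))
 (.node (nat_lit 0x8040201008040201) (.leaf (nat_lit 0x8020e0b008020e0b) (nat_lit 1026))
 (.leaf (nat_lit 0x8040201008040201) (nat_lit 0))
)) (.node (nat_lit 0x8040601008040601) (.leaf (nat_lit 0x8040209008040209) (nat_lit 256))
 (.node (nat_lit 0x8040609008040609) (.leaf (nat_lit 0x8040601008040601) (nat_lit 257))
 (.leaf (nat_lit 0x8040609008040609) (nat_lit 513))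
)))) (.node (nat_lit 0x8060401008060401) (.node (nat_lit 0x8040e0d008040e0d) (.node (nat_lit 0x8040a0d008040a0d) (.leaf (nat_lit 0x8040a05008040a05) (nat_lit 770))
 (.node (nat_lit 0x8040e05008040e05) (.leaf (nat_lit 0x8040a0d008040a0d) (nat_lit 514))
 (.leaf (nat_lit 0x8040e05008040e05) (nat_lit 514))
)) (.node (nat_lit 0x8060201008060201) (.leaf (nat_lit 0x8040e0d008040e0d) (nat_lit 258))
 (.node (nat_lit 0x8060209008060209) (.leaf (nat_lit 0x8060201008060201) (nat_lit 260))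
 (.leaf (nat_lit 0x8060209008060209) (nat_lit 516))
))) (.node (nat_lit 0x8060a0f008060a0f) (.node (nat_lit 0x8060409008060409) (.leaf (nat_lit 0x8060401008060401) (nat_lit 513))
 (.node (nat_lit 0x8060a07008060a07) (.leaf (nat_lit 0x8060409008060409) (nat_lit 769))
 (.leaf (nat_lit 0x8060a07008060a07) (nat_lit 1026))
)) (.node (nat_lit 0x8060c07008060c07) (.leaf (nat_lit 0x8060a0f008060a0f) (nat_lit 770))
 (.node (nat_lit 0x8060c0f008060c0f) (.leaf (nat_lit 0x8060c07008060c07) (nat_lit 770))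
 (.leaf (nat_lit 0x8060c0f008060c0f) (nat_lit 514))
))))))))) (.node (nat_lit 0xc040b0500c040b05) (.node (nat_lit 0xa07050100a070501) (.node (nat_lit 0x9060b0e009060b0e) (.node (nat_lit 0x80e0c030080e0c03) (.node (nat_lit 0x80c060f0080c060f) (.node (nat_lit 0x80a0c0f0080a0c0f) (.node (nat_lit 0x80a06070080a0607) (.node (nat_lit 0x80a040d0080a040d) (.leaf (nat_lit 0x80a04050080a0405) (nat_lit 1025))
 (.leaf (nat_lit 0x80a040d0080a040d) (nat_lit 769))
) (.node (nat_lit 0x80a060f0080a060f) (.leaf (nat_lit 0x80a06070080a0607) (nat_lit 1282))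
 (.node (nat_lit 0x80a0c070080a0c07) (.leaf (nat_lit 0x80a060f0080a060f) (nat_lit 1026))
 (.leaf (nat_lit 0x80a0c070080a0c07) (nat_lit 1026))
))) (.node (nat_lit 0x80c02030080c0203) (.node (nat_lit 0x80a0e050080a0e05) (.leaf (nat_lit 0x80a0c0f0080a0c0f) (nat_lit 770))
 (.node (nat_lit 0x80a0e0d0080a0e0d) (.leaf (nat_lit 0x80a0e050080a0e05) (nat_lit 772))
 (.leaf (nat_lit 0x80a0e0d0080a0e0d) (nat_lit 516))
)) (.node (nat_lit 0x80c020b0080c020b) (.leaf (nat_lit 0x80c02030080c0203) (nat_lit 1796))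
 (.node (nat_lit 0x80c06070080c0607) (.leaf (nat_lit 0x80c020b0080c020b) (nat_lit 1540))
 (.leaf (nat_lit 0x80c06070080c0607) (nat_lit 1540))
)))) (.node (nat_lit 0x80e02030080e0203) (.node (nat_lit 0x80c0a0f0080c0a0f) (.node (nat_lit 0x80c0a070080c0a07) (.leaf (nat_lit 0x80c060f0080c060f) (nat_lit 1284))
 (.leaf (nat_lit 0x80c0a070080c0a07) (nat_lit 1284))
) (.node (nat_lit 0x80c0e030080c0e03) (.leaf (nat_lit 0x80c0a0f0080c0a0f) (nat_lit 1028))
 (.node (nat_lit 0x80c0e0b0080c0e0b) (.leaf (nat_lit 0x80c0e030080c0e03) (nat_lit 1540))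
 (.leaf (nat_lit 0x80c0e0b0080c0e0b) (nat_lit 1284))
))) (.node (nat_lit 0x80e040d0080e040d) (.node (nat_lit 0x80e020b0080e020b) (.leaf (nat_lit 0x80e02030080e0203) (nat_lit 1538))
 (.node (nat_lit 0x80e04050080e0405) (.leaf (nat_lit 0x80e020b0080e020b) (nat_lit 1282))
 (.leaf (nat_lit 0x80e04050080e0405) (nat_lit 1281))
)) (.node (nat_lit 0x80e0a050080e0a05) (.leaf (nat_lit 0x80e040d0080e040d) (nat_lit 1025))
 (.node (nat_lit 0x80e0a0d0080e0a0d) (.leaf (nat_lit 0x80e0a050080e0a05) (nat_lit 1028))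
 (.leaf (nat_lit 0x80e0a0d0080e0a0d) (nat_lit 772))
))))) (.node (nat_lit 0x9040208009040208) (.node (nat_lit 0x9020608009020608) (.node (nat_lit 0x9020401009020401) (.node (nat_lit 0x80e0c0b0080e0c0b) (.leaf (nat_lit 0x80e0c030080e0c03) (nat_lit 1282))
 (.leaf (nat_lit 0x80e0c0b0080e0c0b) (nat_lit 1026))
) (.node (nat_lit 0x9020408009020408) (.leaf (nat_lit 0x9020401009020401) (nat_lit 1025))
 (.node (nat_lit 0x9020601009020601) (.leaf (nat_lit 0x9020408009020408) (nat_lit 1281))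
 (.leaf (nat_lit 0x9020601009020601) (nat_lit 772))
))) (.node (nat_lit 0x9020f03009020f03) (.node (nat_lit 0x9020d03009020d03) (.leaf (nat_lit 0x9020608009020608) (nat_lit 1028))
 (.node (nat_lit 0x9020d0a009020d0a) (.leaf (nat_lit 0x9020d03009020d03) (nat_lit 1282))
 (.leaf (nat_lit 0x9020d0a009020d0a) (nat_lit 1026))
)) (.node (nat_lit 0x9020f0a009020f0a) (.leaf (nat_lit 0x9020f03009020f03) (nat_lit 1538))
 (.node (nat_lit 0x9040201009040201) (.leaf (nat_lit 0x9020f0a009020f0a) (nat_lit 1282))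
 (.leaf (nat_lit 0x9040201009040201) (nat_lit 259))
)))) (.node (nat_lit 0x9040f0c009040f0c) (.node (nat_lit 0x9040b05009040b05) (.node (nat_lit 0x9040601009040601) (.leaf (nat_lit 0x9040208009040208) (nat_lit 512))
 (.node (nat_lit 0x9040608009040608) (.leaf (nat_lit 0x9040601009040601) (nat_lit 515))
 (.leaf (nat_lit 0x9040608009040608) (nat_lit 768))
)) (.node (nat_lit 0x9040b0c009040b0c) (.leaf (nat_lit 0x9040b05009040b05) (nat_lit 1026))
 (.node (nat_lit 0x9040f05009040f05) (.leaf (nat_lit 0x9040b0c009040b0c) (nat_lit 770))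
 (.leaf (nat_lit 0x9040f05009040f05) (nat_lit 770))
))) (.node (nat_lit 0x9060401009060401) (.node (nat_lit 0x9060201009060201) (.leaf (nat_lit 0x9040f0c009040f0c) (nat_lit 514))
 (.node (nat_lit 0x9060208009060208) (.leaf (nat_lit 0x9060201009060201) (nat_lit 516))
 (.leaf (nat_lit 0x9060208009060208) (nat_lit 772))
)) (.node (nat_lit 0x9060408009060408) (.leaf (nat_lit 0x9060401009060401) (nat_lit 769))
 (.node (nat_lit 0x9060b07009060b07) (.leaf (nat_lit 0x9060408009060408) (nat_lit 1025))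
 (.leaf (nat_lit 0x9060b07009060b07) (nat_lit 1282))
)))))) (.node (nat_lit 0x90f040c0090f040c) (.node (nat_lit 0x90d02030090d0203) (.node (nat_lit 0x90b06070090b0607) (.node (nat_lit 0x9060d0e009060d0e) (.node (nat_lit 0x9060d07009060d07) (.leaf (nat_lit 0x9060b0e009060b0e) (nat_lit 1026))
 (.leaf (nat_lit 0x9060d07009060d07) (nat_lit 1026))
) (.node (nat_lit 0x90b04050090b0405) (.leaf (nat_lit 0x9060d0e009060d0e) (nat_lit 770))
 (.node (nat_lit 0x90b040c0090b040c) (.leaf (nat_lit 0x90b04050090b0405) (nat_lit 1281))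
 (.leaf (nat_lit 0x90b040c0090b040c) (nat_lit 1025))
))) (.node (nat_lit 0x90b0d0e0090b0d0e) (.node (nat_lit 0x90b060e0090b060e) (.leaf (nat_lit 0x90b06070090b0607) (nat_lit 1538))
 (.node (nat_lit 0x90b0d070090b0d07) (.leaf (nat_lit 0x90b060e0090b060e) (nat_lit 1282))
 (.leaf (nat_lit 0x90b0d070090b0d07) (nat_lit 1282))
)) (.node (nat_lit 0x90b0f050090b0f05) (.leaf (nat_lit 0x90b0d0e0090b0d0e) (nat_lit 1026))
 (.node (nat_lit 0x90b0f0c0090b0f0c) (.leaf (nat_lit 0x90b0f050090b0f05) (nat_lit 1028))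
 (.leaf (nat_lit 0x90b0f0c0090b0f0c) (nat_lit 772))
)))) (.node (nat_lit 0x90d0b0e0090d0b0e) (.node (nat_lit 0x90d06070090d0607) (.node (nat_lit 0x90d020a0090d020a) (.leaf (nat_lit 0x90d02030090d0203) (nat_lit 2052))
 (.leaf (nat_lit 0x90d020a0090d020a) (nat_lit 1796))
) (.node (nat_lit 0x90d060e0090d060e) (.leaf (nat_lit 0x90d06070090d0607) (nat_lit 1796))
 (.node (nat_lit 0x90d0b070090d0b07) (.leaf (nat_lit 0x90d060e0090d060e) (nat_lit 1540))
 (.leaf (nat_lit 0x90d0b070090d0b07) (nat_lit 1540))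
))) (.node (nat_lit 0x90f02030090f0203) (.node (nat_lit 0x90d0f030090d0f03) (.leaf (nat_lit 0x90d0b0e0090d0b0e) (nat_lit 1284))
 (.node (nat_lit 0x90d0f0a0090d0f0a) (.leaf (nat_lit 0x90d0f030090d0f03) (nat_lit 1796))
 (.leaf (nat_lit 0x90d0f0a0090d0f0a) (nat_lit 1540))
)) (.node (nat_lit 0x90f020a0090f020a) (.leaf (nat_lit 0x90f02030090f0203) (nat_lit 1794))
 (.node (nat_lit 0x90f04050090f0405) (.leaf (nat_lit 0x90f020a0090f020a) (nat_lit 1538))
 (.leaf (nat_lit 0x90f04050090f0405) (nat_lit 1537))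
))))) (.node (nat_lit 0xa020f0300a020f03) (.node (nat_lit 0xa02050100a020501) (.node (nat_lit 0x90f0b0c0090f0b0c) (.node (nat_lit 0x90f0b050090f0b05) (.leaf (nat_lit 0x90f040c0090f040c) (nat_lit 1281))
 (.leaf (nat_lit 0x90f0b050090f0b05) (nat_lit 1284))
) (.node (nat_lit 0x90f0d030090f0d03) (.leaf (nat_lit 0x90f0b0c0090f0b0c) (nat_lit 1028))
 (.node (nat_lit 0x90f0d0a0090f0d0a) (.leaf (nat_lit 0x90f0d030090f0d03) (nat_lit 1538))
 (.leaf (nat_lit 0x90f0d0a0090f0d0a) (nat_lit 1282))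
))) (.node (nat_lit 0xa02070b00a02070b) (.node (nat_lit 0xa02050b00a02050b) (.leaf (nat_lit 0xa02050100a020501) (nat_lit 2048))
 (.node (nat_lit 0xa02070100a020701) (.leaf (nat_lit 0xa02050b00a02050b) (nat_lit 1795))
 (.leaf (nat_lit 0xa02070100a020701) (nat_lit 2304))
)) (.node (nat_lit 0xa020d0300a020d03) (.leaf (nat_lit 0xa02070b00a02070b) (nat_lit 2051))
 (.node (nat_lit 0xa020d0900a020d09) (.leaf (nat_lit 0xa020d0300a020d03) (nat_lit 1539))
 (.leaf (nat_lit 0xa020d0900a020d09) (nat_lit 1792))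
)))) (.node (nat_lit 0xa05080400a050804) (.node (nat_lit 0xa05020b00a05020b) (.node (nat_lit 0xa020f0900a020f09) (.leaf (nat_lit 0xa020f0300a020f03) (nat_lit 1795))
 (.node (nat_lit 0xa05020100a050201) (.leaf (nat_lit 0xa020f0900a020f09) (nat_lit 2048))
 (.leaf (nat_lit 0xa05020100a050201) (nat_lit 2820))
)) (.node (nat_lit 0xa05070100a050701) (.leaf (nat_lit 0xa05020b00a05020b) (nat_lit 2564))
 (.node (nat_lit 0xa05070b00a05070b) (.leaf (nat_lit 0xa05070100a050701) (nat_lit 2564))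
 (.leaf (nat_lit 0xa05070b00a05070b) (nat_lit 2308))
))) (.node (nat_lit 0xa050d0e00a050d0e) (.node (nat_lit 0xa05080e00a05080e) (.leaf (nat_lit 0xa05080400a050804) (nat_lit 2562))
 (.node (nat_lit 0xa050d0400a050d04) (.leaf (nat_lit 0xa05080e00a05080e) (nat_lit 2818))
 (.leaf (nat_lit 0xa050d0400a050d04) (nat_lit 2818))
)) (.node (nat_lit 0xa07020100a070201) (.leaf (nat_lit 0xa050d0e00a050d0e) (nat_lit 3074))
 (.node (nat_lit 0xa07020b00a07020b) (.leaf (nat_lit 0xa07020100a070201) (nat_lit 2560))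
 (.leaf (nat_lit 0xa07020b00a07020b) (nat_lit 2307))
))))))) (.node (nat_lit 0xb050c0f00b050c0f) (.node (nat_lit 0xa0f020300a0f0203) (.node (nat_lit 0xa080d0e00a080d0e) (.node (nat_lit 0xa070f0c00a070f0c) (.node (nat_lit 0xa07080600a070806) (.node (nat_lit 0xa07050b00a07050b) (.leaf (nat_lit 0xa07050100a070501) (nat_lit 2304))
 (.leaf (nat_lit 0xa07050b00a07050b) (nat_lit 2051))
) (.node (nat_lit 0xa07080c00a07080c) (.leaf (nat_lit 0xa07080600a070806) (nat_lit 2307))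
 (.node (nat_lit 0xa070f0600a070f06) (.leaf (nat_lit 0xa07080c00a07080c) (nat_lit 2560))
 (.leaf (nat_lit 0xa070f0600a070f06) (nat_lit 2563))
))) (.node (nat_lit 0xa08070600a080706) (.node (nat_lit 0xa08050400a080504) (.leaf (nat_lit 0xa070f0c00a070f0c) (nat_lit 2816))
 (.node (nat_lit 0xa08050e00a08050e) (.leaf (nat_lit 0xa08050400a080504) (nat_lit 2818))
 (.leaf (nat_lit 0xa08050e00a08050e) (nat_lit 3074))
)) (.node (nat_lit 0xa08070c00a08070c) (.leaf (nat_lit 0xa08070600a080706) (nat_lit 2564))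
 (.node (nat_lit 0xa080d0400a080d04) (.leaf (nat_lit 0xa08070c00a08070c) (nat_lit 2820))
 (.leaf (nat_lit 0xa080d0400a080d04) (nat_lit 3074))
)))) (.node (nat_lit 0xa0d050400a0d0504) (.node (nat_lit 0xa080f0c00a080f0c) (.node (nat_lit 0xa080f0600a080f06) (.leaf (nat_lit 0xa080d0e00a080d0e) (nat_lit 3330))
 (.leaf (nat_lit 0xa080f0600a080f06) (nat_lit 2820))
) (.node (nat_lit 0xa0d020300a0d0203) (.leaf (nat_lit 0xa080f0c00a080f0c) (nat_lit 3076))
 (.node (nat_lit 0xa0d020900a0d0209) (.leaf (nat_lit 0xa0d020300a0d0203) (nat_lit 2308))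
 (.leaf (nat_lit 0xa0d020900a0d0209) (nat_lit 2564))
))) (.node (nat_lit 0xa0d080e00a0d080e) (.node (nat_lit 0xa0d050e00a0d050e) (.leaf (nat_lit 0xa0d050400a0d0504) (nat_lit 2562))
 (.node (nat_lit 0xa0d080400a0d0804) (.leaf (nat_lit 0xa0d050e00a0d050e) (nat_lit 2818))
 (.leaf (nat_lit 0xa0d080400a0d0804) (nat_lit 2306))
)) (.node (nat_lit 0xa0d0f0300a0d0f03) (.leaf (nat_lit 0xa0d080e00a0d080e) (nat_lit 2562))
 (.node (nat_lit 0xa0d0f0900a0d0f09) (.leaf (nat_lit 0xa0d0f0300a0d0f03) (nat_lit 2052))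
 (.leaf (nat_lit 0xa0d0f0900a0d0f09) (nat_lit 2308))
))))) (.node (nat_lit 0xb02070a00b02070a) (.node (nat_lit 0xa0f080c00a0f080c) (.node (nat_lit 0xa0f070600a0f0706) (.node (nat_lit 0xa0f020900a0f0209) (.leaf (nat_lit 0xa0f020300a0f0203) (nat_lit 2051))
 (.leaf (nat_lit 0xa0f020900a0f0209) (nat_lit 2304))
) (.node (nat_lit 0xa0f070c00a0f070c) (.leaf (nat_lit 0xa0f070600a0f0706) (nat_lit 2307))
 (.node (nat_lit 0xa0f080600a0f0806) (.leaf (nat_lit 0xa0f070c00a0f070c) (nat_lit 2560))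
 (.leaf (nat_lit 0xa0f080600a0f0806) (nat_lit 2051))
))) (.node (nat_lit 0xb02050100b020501) (.node (nat_lit 0xa0f0d0300a0f0d03) (.leaf (nat_lit 0xa0f080c00a0f080c) (nat_lit 2304))
 (.node (nat_lit 0xa0f0d0900a0f0d09) (.leaf (nat_lit 0xa0f0d0300a0f0d03) (nat_lit 1795))
 (.leaf (nat_lit 0xa0f0d0900a0f0d09) (nat_lit 2048))
)) (.node (nat_lit 0xb02050a00b02050a) (.leaf (nat_lit 0xb02050100b020501) (nat_lit 1792))
 (.node (nat_lit 0xb02070100b020701) (.leaf (nat_lit 0xb02050a00b02050a) (nat_lit 1539))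
 (.leaf (nat_lit 0xb02070100b020701) (nat_lit 2048))
)))) (.node (nat_lit 0xb05020a00b05020a) (.node (nat_lit 0xb020e0300b020e03) (.node (nat_lit 0xb020c0300b020c03) (.leaf (nat_lit 0xb02070a00b02070a) (nat_lit 1795))
 (.node (nat_lit 0xb020c0800b020c08) (.leaf (nat_lit 0xb020c0300b020c03) (nat_lit 1283))
 (.leaf (nat_lit 0xb020c0800b020c08) (nat_lit 1536))
)) (.node (nat_lit 0xb020e0800b020e08) (.leaf (nat_lit 0xb020e0300b020e03) (nat_lit 1539))
 (.node (nat_lit 0xb05020100b050201) (.leaf (nat_lit 0xb020e0800b020e08) (nat_lit 1792))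
 (.leaf (nat_lit 0xb05020100b050201) (nat_lit 2564))
))) (.node (nat_lit 0xb05090400b050904) (.node (nat_lit 0xb05070100b050701) (.leaf (nat_lit 0xb05020a00b05020a) (nat_lit 2308))
 (.node (nat_lit 0xb05070a00b05070a) (.leaf (nat_lit 0xb05070100b050701) (nat_lit 2308))
 (.leaf (nat_lit 0xb05070a00b05070a) (nat_lit 2052))
)) (.node (nat_lit 0xb05090f00b05090f) (.leaf (nat_lit 0xb05090400b050904) (nat_lit 2306))
 (.node (nat_lit 0xb050c0400b050c04) (.leaf (nat_lit 0xb05090f00b05090f) (nat_lit 2562))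
 (.leaf (nat_lit 0xb050c0400b050c04) (nat_lit 2562))
)))))) (.node (nat_lit 0xb0c090f00b0c090f) (.node (nat_lit 0xb09070600b090706) (.node (nat_lit 0xb07090600b070906) (.node (nat_lit 0xb07020a00b07020a) (.node (nat_lit 0xb07020100b070201) (.leaf (nat_lit 0xb050c0f00b050c0f) (nat_lit 2818))
 (.leaf (nat_lit 0xb07020100b070201) (nat_lit 2304))
) (.node (nat_lit 0xb07050100b070501) (.leaf (nat_lit 0xb07020a00b07020a) (nat_lit 2051))
 (.node (nat_lit 0xb07050a00b07050a) (.leaf (nat_lit 0xb07050100b070501) (nat_lit 2048))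
 (.leaf (nat_lit 0xb07050a00b07050a) (nat_lit 1795))
))) (.node (nat_lit 0xb070e0d00b070e0d) (.node (nat_lit 0xb07090d00b07090d) (.leaf (nat_lit 0xb07090600b070906) (nat_lit 2051))
 (.node (nat_lit 0xb070e0600b070e06) (.leaf (nat_lit 0xb07090d00b07090d) (nat_lit 2304))
 (.leaf (nat_lit 0xb070e0600b070e06) (nat_lit 2307))
)) (.node (nat_lit 0xb09050400b090504) (.leaf (nat_lit 0xb070e0d00b070e0d) (nat_lit 2560))
 (.node (nat_lit 0xb09050f00b09050f) (.leaf (nat_lit 0xb09050400b090504) (nat_lit 2562))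
 (.leaf (nat_lit 0xb09050f00b09050f) (nat_lit 2818))
)))) (.node (nat_lit 0xb090e0d00b090e0d) (.node (nat_lit 0xb090c0400b090c04) (.node (nat_lit 0xb09070d00b09070d) (.leaf (nat_lit 0xb09070600b090706) (nat_lit 2308))
 (.leaf (nat_lit 0xb09070d00b09070d) (nat_lit 2564))
) (.node (nat_lit 0xb090c0f00b090c0f) (.leaf (nat_lit 0xb090c0400b090c04) (nat_lit 2818))
 (.node (nat_lit 0xb090e0600b090e06) (.leaf (nat_lit 0xb090c0f00b090c0f) (nat_lit 3074))
 (.leaf (nat_lit 0xb090e0600b090e06) (nat_lit 2564))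
))) (.node (nat_lit 0xb0c050400b0c0504) (.node (nat_lit 0xb0c020300b0c0203) (.leaf (nat_lit 0xb090e0d00b090e0d) (nat_lit 2820))
 (.node (nat_lit 0xb0c020800b0c0208) (.leaf (nat_lit 0xb0c020300b0c0203) (nat_lit 2052))
 (.leaf (nat_lit 0xb0c020800b0c0208) (nat_lit 2308))
)) (.node (nat_lit 0xb0c050f00b0c050f) (.leaf (nat_lit 0xb0c050400b0c0504) (nat_lit 2306))
 (.node (nat_lit 0xb0c090400b0c0904) (.leaf (nat_lit 0xb0c050f00b0c050f) (nat_lit 2562))
 (.leaf (nat_lit 0xb0c090400b0c0904) (nat_lit 2050))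
))))) (.node (nat_lit 0xc03040100c030401) (.node (nat_lit 0xb0e070600b0e0706) (.node (nat_lit 0xb0c0e0800b0c0e08) (.node (nat_lit 0xb0c0e0300b0c0e03) (.leaf (nat_lit 0xb0c090f00b0c090f) (nat_lit 2306))
 (.leaf (nat_lit 0xb0c0e0300b0c0e03) (nat_lit 1796))
) (.node (nat_lit 0xb0e020300b0e0203) (.leaf (nat_lit 0xb0c0e0800b0c0e08) (nat_lit 2052))
 (.node (nat_lit 0xb0e020800b0e0208) (.leaf (nat_lit 0xb0e020300b0e0203) (nat_lit 1795))
 (.leaf (nat_lit 0xb0e020800b0e0208) (nat_lit 2048))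
))) (.node (nat_lit 0xb0e090d00b0e090d) (.node (nat_lit 0xb0e070d00b0e070d) (.leaf (nat_lit 0xb0e070600b0e0706) (nat_lit 2051))
 (.node (nat_lit 0xb0e090600b0e0906) (.leaf (nat_lit 0xb0e070d00b0e070d) (nat_lit 2304))
 (.leaf (nat_lit 0xb0e090600b0e0906) (nat_lit 1795))
)) (.node (nat_lit 0xb0e0c0300b0e0c03) (.leaf (nat_lit 0xb0e090d00b0e090d) (nat_lit 2048))
 (.node (nat_lit 0xb0e0c0800b0e0c08) (.leaf (nat_lit 0xb0e0c0300b0e0c03) (nat_lit 1539))
 (.leaf (nat_lit 0xb0e0c0800b0e0c08) (nat_lit 1792))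
)))) (.node (nat_lit 0xc030b0200c030b02) (.node (nat_lit 0xc03070d00c03070d) (.node (nat_lit 0xc03040d00c03040d) (.leaf (nat_lit 0xc03040100c030401) (nat_lit 2049))
 (.node (nat_lit 0xc03070100c030701) (.leaf (nat_lit 0xc03040d00c03040d) (nat_lit 1793))
 (.leaf (nat_lit 0xc03070100c030701) (nat_lit 1796))
)) (.node (nat_lit 0xc03080200c030802) (.leaf (nat_lit 0xc03070d00c03070d) (nat_lit 1540))
 (.node (nat_lit 0xc03080e00c03080e) (.leaf (nat_lit 0xc03080200c030802) (nat_lit 1794))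
 (.leaf (nat_lit 0xc03080e00c03080e) (nat_lit 2050))
))) (.node (nat_lit 0xc04030d00c04030d) (.node (nat_lit 0xc030b0e00c030b0e) (.leaf (nat_lit 0xc030b0200c030b02) (nat_lit 2050))
 (.node (nat_lit 0xc04030100c040301) (.leaf (nat_lit 0xc030b0e00c030b0e) (nat_lit 2306))
 (.leaf (nat_lit 0xc04030100c040301) (nat_lit 1795))
)) (.node (nat_lit 0xc04070100c040701) (.leaf (nat_lit 0xc04030d00c04030d) (nat_lit 1539))
 (.node (nat_lit 0xc04070d00c04070d) (.leaf (nat_lit 0xc04070100c040701) (nat_lit 1539))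
 (.leaf (nat_lit 0xc04070d00c04070d) (nat_lit 1283))
)))))))) (.node (nat_lit 0xe030b0200e030b02) (.node (nat_lit 0xd04030c00d04030c) (.node (nat_lit 0xc0b040500c0b0405) (.node (nat_lit 0xc070f0a00c070f0a) (.node (nat_lit 0xc07030d00c07030d) (.node (nat_lit 0xc040f0500c040f05) (.node (nat_lit 0xc040b0900c040b09) (.leaf (nat_lit 0xc040b0500c040b05) (nat_lit 1283))
 (.leaf (nat_lit 0xc040b0900c040b09) (nat_lit 1539))
) (.node (nat_lit 0xc040f0900c040f09) (.leaf (nat_lit 0xc040f0500c040f05) (nat_lit 1027))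
 (.node (nat_lit 0xc07030100c070301) (.leaf (nat_lit 0xc040f0900c040f09) (nat_lit 1283))
 (.leaf (nat_lit 0xc07030100c070301) (nat_lit 2052))
))) (.node (nat_lit 0xc07080600c070806) (.node (nat_lit 0xc07040100c070401) (.leaf (nat_lit 0xc07030d00c07030d) (nat_lit 1796))
 (.node (nat_lit 0xc07040d00c07040d) (.leaf (nat_lit 0xc07040100c070401) (nat_lit 2305))
 (.leaf (nat_lit 0xc07040d00c07040d) (nat_lit 2049))
)) (.node (nat_lit 0xc07080a00c07080a) (.leaf (nat_lit 0xc07080600c070806) (nat_lit 2050))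
 (.node (nat_lit 0xc070f0600c070f06) (.leaf (nat_lit 0xc07080a00c07080a) (nat_lit 2306))
 (.leaf (nat_lit 0xc070f0600c070f06) (nat_lit 2306))
)))) (.node (nat_lit 0xc080b0200c080b02) (.node (nat_lit 0xc08030e00c08030e) (.node (nat_lit 0xc08030200c080302) (.leaf (nat_lit 0xc070f0a00c070f0a) (nat_lit 2562))
 (.leaf (nat_lit 0xc08030200c080302) (nat_lit 2052))
) (.node (nat_lit 0xc08070600c080706) (.leaf (nat_lit 0xc08030e00c08030e) (nat_lit 2308))
 (.node (nat_lit 0xc08070a00c08070a) (.leaf (nat_lit 0xc08070600c080706) (nat_lit 2308))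
 (.leaf (nat_lit 0xc08070a00c08070a) (nat_lit 2564))
))) (.node (nat_lit 0xc080f0a00c080f0a) (.node (nat_lit 0xc080b0e00c080b0e) (.leaf (nat_lit 0xc080b0200c080b02) (nat_lit 2308))
 (.node (nat_lit 0xc080f0600c080f06) (.leaf (nat_lit 0xc080b0e00c080b0e) (nat_lit 2564))
 (.leaf (nat_lit 0xc080f0600c080f06) (nat_lit 2564))
)) (.node (nat_lit 0xc0b030200c0b0302) (.leaf (nat_lit 0xc080f0a00c080f0a) (nat_lit 2820))
 (.node (nat_lit 0xc0b030e00c0b030e) (.leaf (nat_lit 0xc0b030200c0b0302) (nat_lit 1794))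
 (.leaf (nat_lit 0xc0b030e00c0b030e) (nat_lit 2050))
))))) (.node (nat_lit 0xc0f080a00c0f080a) (.node (nat_lit 0xc0b0f0900c0b0f09) (.node (nat_lit 0xc0b080200c0b0802) (.node (nat_lit 0xc0b040900c0b0409) (.leaf (nat_lit 0xc0b040500c0b0405) (nat_lit 1537))
 (.leaf (nat_lit 0xc0b040900c0b0409) (nat_lit 1793))
) (.node (nat_lit 0xc0b080e00c0b080e) (.leaf (nat_lit 0xc0b080200c0b0802) (nat_lit 1538))
 (.node (nat_lit 0xc0b0f0500c0b0f05) (.leaf (nat_lit 0xc0b080e00c0b080e) (nat_lit 1794))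
 (.leaf (nat_lit 0xc0b0f0500c0b0f05) (nat_lit 1284))
))) (.node (nat_lit 0xc0f070600c0f0706) (.node (nat_lit 0xc0f040500c0f0405) (.leaf (nat_lit 0xc0b0f0900c0b0f09) (nat_lit 1540))
 (.node (nat_lit 0xc0f040900c0f0409) (.leaf (nat_lit 0xc0f040500c0f0405) (nat_lit 1793))
 (.leaf (nat_lit 0xc0f040900c0f0409) (nat_lit 2049))
)) (.node (nat_lit 0xc0f070a00c0f070a) (.leaf (nat_lit 0xc0f070600c0f0706) (nat_lit 2050))
 (.node (nat_lit 0xc0f080600c0f0806) (.leaf (nat_lit 0xc0f070a00c0f070a) (nat_lit 2306))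
 (.leaf (nat_lit 0xc0f080600c0f0806) (nat_lit 1794))
)))) (.node (nat_lit 0xd03070c00d03070c) (.node (nat_lit 0xd03040100d030401) (.node (nat_lit 0xc0f0b0500c0f0b05) (.leaf (nat_lit 0xc0f080a00c0f080a) (nat_lit 2050))
 (.node (nat_lit 0xc0f0b0900c0f0b09) (.leaf (nat_lit 0xc0f0b0500c0f0b05) (nat_lit 1540))
 (.leaf (nat_lit 0xc0f0b0900c0f0b09) (nat_lit 1796))
)) (.node (nat_lit 0xd03040c00d03040c) (.leaf (nat_lit 0xd03040100d030401) (nat_lit 1793))
 (.node (nat_lit 0xd03070100d030701) (.leaf (nat_lit 0xd03040c00d03040c) (nat_lit 1537))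
 (.leaf (nat_lit 0xd03070100d030701) (nat_lit 1540))
))) (.node (nat_lit 0xd030a0200d030a02) (.node (nat_lit 0xd03090200d030902) (.leaf (nat_lit 0xd03070c00d03070c) (nat_lit 1284))
 (.node (nat_lit 0xd03090f00d03090f) (.leaf (nat_lit 0xd03090200d030902) (nat_lit 1538))
 (.leaf (nat_lit 0xd03090f00d03090f) (nat_lit 1794))
)) (.node (nat_lit 0xd030a0f00d030a0f) (.leaf (nat_lit 0xd030a0200d030a02) (nat_lit 1794))
 (.node (nat_lit 0xd04030100d040301) (.leaf (nat_lit 0xd030a0f00d030a0f) (nat_lit 2050))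
 (.leaf (nat_lit 0xd04030100d040301) (nat_lit 1538))
)))))) (.node (nat_lit 0xd090e0b00d090e0b) (.node (nat_lit 0xd07090600d070906) (.node (nat_lit 0xd040e0500d040e05) (.node (nat_lit 0xd04070c00d04070c) (.node (nat_lit 0xd04070100d040701) (.leaf (nat_lit 0xd04030c00d04030c) (nat_lit 1282))
 (.leaf (nat_lit 0xd04070100d040701) (nat_lit 1282))
) (.node (nat_lit 0xd040a0500d040a05) (.leaf (nat_lit 0xd04070c00d04070c) (nat_lit 1026))
 (.node (nat_lit 0xd040a0800d040a08) (.leaf (nat_lit 0xd040a0500d040a05) (nat_lit 1027))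
 (.leaf (nat_lit 0xd040a0800d040a08) (nat_lit 1280))
))) (.node (nat_lit 0xd07030c00d07030c) (.node (nat_lit 0xd040e0800d040e08) (.leaf (nat_lit 0xd040e0500d040e05) (nat_lit 771))
 (.node (nat_lit 0xd07030100d070301) (.leaf (nat_lit 0xd040e0800d040e08) (nat_lit 1024))
 (.leaf (nat_lit 0xd07030100d070301) (nat_lit 1796))
)) (.node (nat_lit 0xd07040100d070401) (.leaf (nat_lit 0xd07030c00d07030c) (nat_lit 1540))
 (.node (nat_lit 0xd07040c00d07040c) (.leaf (nat_lit 0xd07040100d070401) (nat_lit 2049))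
 (.leaf (nat_lit 0xd07040c00d07040c) (nat_lit 1793))
)))) (.node (nat_lit 0xd09030f00d09030f) (.node (nat_lit 0xd070e0600d070e06) (.node (nat_lit 0xd07090b00d07090b) (.leaf (nat_lit 0xd07090600d070906) (nat_lit 1794))
 (.leaf (nat_lit 0xd07090b00d07090b) (nat_lit 2050))
) (.node (nat_lit 0xd070e0b00d070e0b) (.leaf (nat_lit 0xd070e0600d070e06) (nat_lit 2050))
 (.node (nat_lit 0xd09030200d090302) (.leaf (nat_lit 0xd070e0b00d070e0b) (nat_lit 2306))
 (.leaf (nat_lit 0xd09030200d090302) (nat_lit 1796))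
))) (.node (nat_lit 0xd090a0200d090a02) (.node (nat_lit 0xd09070600d090706) (.leaf (nat_lit 0xd09030f00d09030f) (nat_lit 2052))
 (.node (nat_lit 0xd09070b00d09070b) (.leaf (nat_lit 0xd09070600d090706) (nat_lit 2052))
 (.leaf (nat_lit 0xd09070b00d09070b) (nat_lit 2308))
)) (.node (nat_lit 0xd090a0f00d090a0f) (.leaf (nat_lit 0xd090a0200d090a02) (nat_lit 2052))
 (.node (nat_lit 0xd090e0600d090e06) (.leaf (nat_lit 0xd090a0f00d090a0f) (nat_lit 2308))
 (.leaf (nat_lit 0xd090e0600d090e06) (nat_lit 2308))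
))))) (.node (nat_lit 0xd0e070600d0e0706) (.node (nat_lit 0xd0a090200d0a0902) (.node (nat_lit 0xd0a030f00d0a030f) (.node (nat_lit 0xd0a030200d0a0302) (.leaf (nat_lit 0xd090e0b00d090e0b) (nat_lit 2564))
 (.leaf (nat_lit 0xd0a030200d0a0302) (nat_lit 1538))
) (.node (nat_lit 0xd0a040500d0a0405) (.leaf (nat_lit 0xd0a030f00d0a030f) (nat_lit 1794))
 (.node (nat_lit 0xd0a040800d0a0408) (.leaf (nat_lit 0xd0a040500d0a0405) (nat_lit 1281))
 (.leaf (nat_lit 0xd0a040800d0a0408) (nat_lit 1537))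
))) (.node (nat_lit 0xd0a0e0800d0a0e08) (.node (nat_lit 0xd0a090f00d0a090f) (.leaf (nat_lit 0xd0a090200d0a0902) (nat_lit 1282))
 (.node (nat_lit 0xd0a0e0500d0a0e05) (.leaf (nat_lit 0xd0a090f00d0a090f) (nat_lit 1538))
 (.leaf (nat_lit 0xd0a0e0500d0a0e05) (nat_lit 1028))
)) (.node (nat_lit 0xd0e040500d0e0405) (.leaf (nat_lit 0xd0a0e0800d0a0e08) (nat_lit 1284))
 (.node (nat_lit 0xd0e040800d0e0408) (.leaf (nat_lit 0xd0e040500d0e0405) (nat_lit 1537))
 (.leaf (nat_lit 0xd0e040800d0e0408) (nat_lit 1793))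
)))) (.node (nat_lit 0xe03050100e030501) (.node (nat_lit 0xd0e090b00d0e090b) (.node (nat_lit 0xd0e070b00d0e070b) (.leaf (nat_lit 0xd0e070600d0e0706) (nat_lit 1794))
 (.node (nat_lit 0xd0e090600d0e0906) (.leaf (nat_lit 0xd0e070b00d0e070b) (nat_lit 2050))
 (.leaf (nat_lit 0xd0e090600d0e0906) (nat_lit 1538))
)) (.node (nat_lit 0xd0e0a0500d0e0a05) (.leaf (nat_lit 0xd0e090b00d0e090b) (nat_lit 1794))
 (.node (nat_lit 0xd0e0a0800d0e0a08) (.leaf (nat_lit 0xd0e0a0500d0e0a05) (nat_lit 1284))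
 (.leaf (nat_lit 0xd0e0a0800d0e0a08) (nat_lit 1540))
))) (.node (nat_lit 0xe03060f00e03060f) (.node (nat_lit 0xe03050f00e03050f) (.leaf (nat_lit 0xe03050100e030501) (nat_lit 2048))
 (.node (nat_lit 0xe03060100e030601) (.leaf (nat_lit 0xe03050f00e03050f) (nat_lit 1795))
 (.leaf (nat_lit 0xe03060100e030601) (nat_lit 2304))
)) (.node (nat_lit 0xe03080200e030802) (.leaf (nat_lit 0xe03060f00e03060f) (nat_lit 2051))
 (.node (nat_lit 0xe03080c00e03080c) (.leaf (nat_lit 0xe03080200e030802) (nat_lit 2051))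
 (.leaf (nat_lit 0xe03080c00e03080c) (nat_lit 2304))
))))))) (.node (nat_lit 0xf03060e00f03060e) (.node (nat_lit 0xe080b0200e080b02) (.node (nat_lit 0xe06030f00e06030f) (.node (nat_lit 0xe05060f00e05060f) (.node (nat_lit 0xe05030100e050301) (.node (nat_lit 0xe030b0c00e030b0c) (.leaf (nat_lit 0xe030b0200e030b02) (nat_lit 2307))
 (.leaf (nat_lit 0xe030b0c00e030b0c) (nat_lit 2560))
) (.node (nat_lit 0xe05030f00e05030f) (.leaf (nat_lit 0xe05030100e050301) (nat_lit 2308))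
 (.node (nat_lit 0xe05060100e050601) (.leaf (nat_lit 0xe05030f00e05030f) (nat_lit 2052))
 (.leaf (nat_lit 0xe05060100e050601) (nat_lit 2564))
))) (.node (nat_lit 0xe050d0400e050d04) (.node (nat_lit 0xe05080400e050804) (.leaf (nat_lit 0xe05060f00e05060f) (nat_lit 2308))
 (.node (nat_lit 0xe05080a00e05080a) (.leaf (nat_lit 0xe05080400e050804) (nat_lit 2306))
 (.leaf (nat_lit 0xe05080a00e05080a) (nat_lit 2562))
)) (.node (nat_lit 0xe050d0a00e050d0a) (.leaf (nat_lit 0xe050d0400e050d04) (nat_lit 2562))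
 (.node (nat_lit 0xe06030100e060301) (.leaf (nat_lit 0xe050d0a00e050d0a) (nat_lit 2818))
 (.leaf (nat_lit 0xe06030100e060301) (nat_lit 2048))
)))) (.node (nat_lit 0xe060d0700e060d07) (.node (nat_lit 0xe06050f00e06050f) (.node (nat_lit 0xe06050100e060501) (.leaf (nat_lit 0xe06030f00e06030f) (nat_lit 1795))
 (.leaf (nat_lit 0xe06050100e060501) (nat_lit 1792))
) (.node (nat_lit 0xe060b0700e060b07) (.leaf (nat_lit 0xe06050f00e06050f) (nat_lit 1539))
 (.node (nat_lit 0xe060b0900e060b09) (.leaf (nat_lit 0xe060b0700e060b07) (nat_lit 1539))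
 (.leaf (nat_lit 0xe060b0900e060b09) (nat_lit 1792))
))) (.node (nat_lit 0xe08030c00e08030c) (.node (nat_lit 0xe060d0900e060d09) (.leaf (nat_lit 0xe060d0700e060d07) (nat_lit 1283))
 (.node (nat_lit 0xe08030200e080302) (.leaf (nat_lit 0xe060d0900e060d09) (nat_lit 1536))
 (.leaf (nat_lit 0xe08030200e080302) (nat_lit 2308))
)) (.node (nat_lit 0xe08050400e080504) (.leaf (nat_lit 0xe08030c00e08030c) (nat_lit 2564))
 (.node (nat_lit 0xe08050a00e08050a) (.leaf (nat_lit 0xe08050400e080504) (nat_lit 2562))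
 (.leaf (nat_lit 0xe08050a00e08050a) (nat_lit 2818))
))))) (.node (nat_lit 0xe0b0d0900e0b0d09) (.node (nat_lit 0xe0b030c00e0b030c) (.node (nat_lit 0xe080d0400e080d04) (.node (nat_lit 0xe080b0c00e080b0c) (.leaf (nat_lit 0xe080b0200e080b02) (nat_lit 2564))
 (.leaf (nat_lit 0xe080b0c00e080b0c) (nat_lit 2820))
) (.node (nat_lit 0xe080d0a00e080d0a) (.leaf (nat_lit 0xe080d0400e080d04) (nat_lit 2818))
 (.node (nat_lit 0xe0b030200e0b0302) (.leaf (nat_lit 0xe080d0a00e080d0a) (nat_lit 3074))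
 (.leaf (nat_lit 0xe0b030200e0b0302) (nat_lit 2051))
))) (.node (nat_lit 0xe0b080200e0b0802) (.node (nat_lit 0xe0b060700e0b0607) (.leaf (nat_lit 0xe0b030c00e0b030c) (nat_lit 2304))
 (.node (nat_lit 0xe0b060900e0b0609) (.leaf (nat_lit 0xe0b060700e0b0607) (nat_lit 1795))
 (.leaf (nat_lit 0xe0b060900e0b0609) (nat_lit 2048))
)) (.node (nat_lit 0xe0b080c00e0b080c) (.leaf (nat_lit 0xe0b080200e0b0802) (nat_lit 1795))
 (.node (nat_lit 0xe0b0d0700e0b0d07) (.leaf (nat_lit 0xe0b080c00e0b080c) (nat_lit 2048))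
 (.leaf (nat_lit 0xe0b0d0700e0b0d07) (nat_lit 1539))
)))) (.node (nat_lit 0xe0d080a00e0d080a) (.node (nat_lit 0xe0d060700e0d0607) (.node (nat_lit 0xe0d050400e0d0504) (.leaf (nat_lit 0xe0b0d0900e0b0d09) (nat_lit 1792))
 (.node (nat_lit 0xe0d050a00e0d050a) (.leaf (nat_lit 0xe0d050400e0d0504) (nat_lit 2306))
 (.leaf (nat_lit 0xe0d050a00e0d050a) (nat_lit 2562))
)) (.node (nat_lit 0xe0d060900e0d0609) (.leaf (nat_lit 0xe0d060700e0d0607) (nat_lit 2052))
 (.node (nat_lit 0xe0d080400e0d0804) (.leaf (nat_lit 0xe0d060900e0d0609) (nat_lit 2308))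
 (.leaf (nat_lit 0xe0d080400e0d0804) (nat_lit 2050))
))) (.node (nat_lit 0xf03050100f030501) (.node (nat_lit 0xe0d0b0700e0d0b07) (.leaf (nat_lit 0xe0d080a00e0d080a) (nat_lit 2306))
 (.node (nat_lit 0xe0d0b0900e0d0b09) (.leaf (nat_lit 0xe0d0b0700e0d0b07) (nat_lit 1796))
 (.leaf (nat_lit 0xe0d0b0900e0d0b09) (nat_lit 2052))
)) (.node (nat_lit 0xf03050e00f03050e) (.leaf (nat_lit 0xf03050100f030501) (nat_lit 1792))
 (.node (nat_lit 0xf03060100f030601) (.leaf (nat_lit 0xf03050e00f03050e) (nat_lit 1539))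
 (.leaf (nat_lit 0xf03060100f030601) (nat_lit 2048))
)))))) (.node (nat_lit 0xf09030d00f09030d) (.node (nat_lit 0xf050c0400f050c04) (.node (nat_lit 0xf05030100f050301) (.node (nat_lit 0xf03090d00f03090d) (.node (nat_lit 0xf03090200f030902) (.leaf (nat_lit 0xf03060e00f03060e) (nat_lit 1795))
 (.leaf (nat_lit 0xf03090200f030902) (nat_lit 1795))
) (.node (nat_lit 0xf030a0200f030a02) (.leaf (nat_lit 0xf03090d00f03090d) (nat_lit 2048))
 (.node (nat_lit 0xf030a0d00f030a0d) (.leaf (nat_lit 0xf030a0200f030a02) (nat_lit 2051))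
 (.leaf (nat_lit 0xf030a0d00f030a0d) (nat_lit 2304))
))) (.node (nat_lit 0xf05060e00f05060e) (.node (nat_lit 0xf05030e00f05030e) (.leaf (nat_lit 0xf05030100f050301) (nat_lit 2052))
 (.node (nat_lit 0xf05060100f050601) (.leaf (nat_lit 0xf05030e00f05030e) (nat_lit 1796))
 (.leaf (nat_lit 0xf05060100f050601) (nat_lit 2308))
)) (.node (nat_lit 0xf05090400f050904) (.leaf (nat_lit 0xf05060e00f05060e) (nat_lit 2052))
 (.node (nat_lit 0xf05090b00f05090b) (.leaf (nat_lit 0xf05090400f050904) (nat_lit 2050))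
 (.leaf (nat_lit 0xf05090b00f05090b) (nat_lit 2306))
)))) (.node (nat_lit 0xf06050e00f06050e) (.node (nat_lit 0xf06030100f060301) (.node (nat_lit 0xf050c0b00f050c0b) (.leaf (nat_lit 0xf050c0400f050c04) (nat_lit 2306))
 (.leaf (nat_lit 0xf050c0b00f050c0b) (nat_lit 2562))
) (.node (nat_lit 0xf06030e00f06030e) (.leaf (nat_lit 0xf06030100f060301) (nat_lit 1792))
 (.node (nat_lit 0xf06050100f060501) (.leaf (nat_lit 0xf06030e00f06030e) (nat_lit 1539))
 (.leaf (nat_lit 0xf06050100f060501) (nat_lit 1536))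
))) (.node (nat_lit 0xf060c0700f060c07) (.node (nat_lit 0xf060a0700f060a07) (.leaf (nat_lit 0xf06050e00f06050e) (nat_lit 1283))
 (.node (nat_lit 0xf060a0800f060a08) (.leaf (nat_lit 0xf060a0700f060a07) (nat_lit 1283))
 (.leaf (nat_lit 0xf060a0800f060a08) (nat_lit 1536))
)) (.node (nat_lit 0xf060c0800f060c08) (.leaf (nat_lit 0xf060c0700f060c07) (nat_lit 1027))
 (.node (nat_lit 0xf09030200f090302) (.leaf (nat_lit 0xf060c0800f060c08) (nat_lit 1280))
 (.leaf (nat_lit 0xf09030200f090302) (nat_lit 2052))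
))))) (.node (nat_lit 0xf0a090200f0a0902) (.node (nat_lit 0xf090c0400f090c04) (.node (nat_lit 0xf09050b00f09050b) (.node (nat_lit 0xf09050400f090504) (.leaf (nat_lit 0xf09030d00f09030d) (nat_lit 2308))
 (.leaf (nat_lit 0xf09050400f090504) (nat_lit 2306))
) (.node (nat_lit 0xf090a0200f090a02) (.leaf (nat_lit 0xf09050b00f09050b) (nat_lit 2562))
 (.node (nat_lit 0xf090a0d00f090a0d) (.leaf (nat_lit 0xf090a0200f090a02) (nat_lit 2308))
 (.leaf (nat_lit 0xf090a0d00f090a0d) (nat_lit 2564))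
))) (.node (nat_lit 0xf0a030d00f0a030d) (.node (nat_lit 0xf090c0b00f090c0b) (.leaf (nat_lit 0xf090c0400f090c04) (nat_lit 2562))
 (.node (nat_lit 0xf0a030200f0a0302) (.leaf (nat_lit 0xf090c0b00f090c0b) (nat_lit 2818))
 (.leaf (nat_lit 0xf0a030200f0a0302) (nat_lit 1795))
)) (.node (nat_lit 0xf0a060700f0a0607) (.leaf (nat_lit 0xf0a030d00f0a030d) (nat_lit 2048))
 (.node (nat_lit 0xf0a060800f0a0608) (.leaf (nat_lit 0xf0a060700f0a0607) (nat_lit 1539))
 (.leaf (nat_lit 0xf0a060800f0a0608) (nat_lit 1792))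
)))) (.node (nat_lit 0xf0c060700f0c0607) (.node (nat_lit 0xf0a0c0800f0a0c08) (.node (nat_lit 0xf0a090d00f0a090d) (.leaf (nat_lit 0xf0a090200f0a0902) (nat_lit 1539))
 (.node (nat_lit 0xf0a0c0700f0a0c07) (.leaf (nat_lit 0xf0a090d00f0a090d) (nat_lit 1792))
 (.leaf (nat_lit 0xf0a0c0700f0a0c07) (nat_lit 1283))
)) (.node (nat_lit 0xf0c050400f0c0504) (.leaf (nat_lit 0xf0a0c0800f0a0c08) (nat_lit 1536))
 (.node (nat_lit 0xf0c050b00f0c050b) (.leaf (nat_lit 0xf0c050400f0c0504) (nat_lit 2050))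
 (.leaf (nat_lit 0xf0c050b00f0c050b) (nat_lit 2306))
))) (.node (nat_lit 0xf0c090b00f0c090b) (.node (nat_lit 0xf0c060800f0c0608) (.leaf (nat_lit 0xf0c060700f0c0607) (nat_lit 1796))
 (.node (nat_lit 0xf0c090400f0c0904) (.leaf (nat_lit 0xf0c060800f0c0608) (nat_lit 2052))
 (.leaf (nat_lit 0xf0c090400f0c0904) (nat_lit 1794))
)) (.node (nat_lit 0xf0c0a0700f0c0a07) (.leaf (nat_lit 0xf0c090b00f0c090b) (nat_lit 2050))
 (.node (nat_lit 0xf0c0a0800f0c0a08) (.leaf (nat_lit 0xf0c0a0700f0c0a07) (nat_lit 1540))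
 (.leaf (nat_lit 0xf0c0a0800f0c0a08) (nat_lit 1796))
))))))))))

theorem s6_ok : genOK B8.A [(nat_lit 0x8040209008040209), (nat_lit 0x8040601008040601), (nat_lit 0x8040e0d008040e0d), (nat_lit 0x9040201009040201), (nat_lit 0x8060201008060201)] s6_t (nat_lit 720) = true := by decide +kernel


/-- The unipotent isometries fixing the subspace spanned by `e0 e1 e4 e5`. -/
def M (p0 p1 p2 p3 p4 p5 : ZMod 2) : Mat 8 :=
  !![1, 0, p2, p4, 0, 0, p5, 0; 0, 1, p1, p3, 0, 0, 0, p5; 0, 0, 1, 0, 0, 0, 0, 0;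
     0, 0, 0, 1, 0, 0, 0, 0; 0, 0, p0, 0, 1, 0, p3, p4; 0, 0, 0, p0, 0, 1, p1, p2;
     0, 0, 0, 0, 0, 0, 1, 0; 0, 0, 0, 0, 0, 0, 0, 1]

/-- Their codes. -/
def cd (p0 p1 p2 p3 p4 p5 : ZMod 2) : ℕ :=
  9241421688590303745 + p0.val * 8813272891392 + p1.val * 70368744178688 +
    p2.val * 140737488355332 + p3.val * 274877908992 + p4.val * 549755813896 + p5.val * 32832

theorem M_cd' : ∀ p0 p1 p2 p3 p4 p5 : ZMod 2, ((List.finRange 8).all fun i =>
    (List.finRange 8).all fun j => decide ((M p0 p1 p2 p3 p4 p5 i j : ZMod 2) =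
      ((NM.fld 1 (cd p0 p1 p2 p3 p4 p5) (8 * i + j) : ℕ) : ZMod 2))) = true := by
  decide +kernel

theorem M_cd (p0 p1 p2 p3 p4 p5 : ZMod 2) (i j : Fin 8) :
    M p0 p1 p2 p3 p4 p5 i j = (NM.fld 1 (cd p0 p1 p2 p3 p4 p5) (8 * i + j) : ℕ) :=
  of_decide_eq_true (List.all_eq_true.1 (List.all_eq_true.1 (M_cd' p0 p1 p2 p3 p4 p5) i
    (List.mem_finRange i)) j (List.mem_finRange j))

theorem cd_lt : ∀ p0 p1 p2 p3 p4 p5 : ZMod 2,
    blt (cd p0 p1 p2 p3 p4 p5) (nat_lit 0x10000000000000000) = true := by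
  decide +kernel

theorem pol8 (u v : Vec 8) : pol q8 u v = u 0 * v 7 + u 7 * v 0 + u 1 * v 6 + u 6 * v 1 +
    u 2 * v 5 + u 5 * v 2 + u 3 * v 4 + u 4 * v 3 := by
  have h : (2 : ZMod 2) = 0 := rfl
  simp only [pol, q8, Pi.add_apply]
  linear_combination (u 0 * u 7 + u 1 * u 6 + u 2 * u 5 + u 3 * u 4 +
    (v 0 * v 7 + v 1 * v 6 + v 2 * v 5 + v 3 * v 4)) * h

theorem eq_of_add {a b : ZMod 2} (h : a + b = 0) : a = b := by
  revert a b; decide

theorem nf {g : Gl 8} (hq : ∀ v, q8 (ap g v) = q8 v)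
    (hf : ∀ i ∈ ([0, 1, 4, 5] : List (Fin 8)), ap g (Pi.single i 1) = Pi.single i 1) :
    ∃ p0 p1 p2 p3 p4 p5 : ZMod 2, (g : Mat 8) = M p0 p1 p2 p3 p4 p5 := by
  have hc : ∀ i j, ap g (Pi.single j 1) i = (g : Mat 8) i j := fun i j => by
    simp [ap, Matrix.mulVec_single]
  have hp : ∀ u v, pol q8 (ap g u) (ap g v) = pol q8 u v := fun u v => by
    simp only [pol, ap, ← Matrix.mulVec_add]
    rw [hq, hq, hq]
  generalize hG : (g : Mat 8) = G at hc
  have c0 : ∀ i, G i 0 = (Pi.single 0 1 : Vec 8) i := fun i => by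
    rw [← hc, hf 0 (by simp)]
  have c1 : ∀ i, G i 1 = (Pi.single 1 1 : Vec 8) i := fun i => by
    rw [← hc, hf 1 (by simp)]
  have c4 : ∀ i, G i 4 = (Pi.single 4 1 : Vec 8) i := fun i => by
    rw [← hc, hf 4 (by simp)]
  have c5 : ∀ i, G i 5 = (Pi.single 5 1 : Vec 8) i := fun i => by
    rw [← hc, hf 5 (by simp)]
  have hp' : ∀ j k : Fin 8, G 0 j * G 7 k + G 7 j * G 0 k + G 1 j * G 6 k + G 6 j * G 1 k +
      G 2 j * G 5 k + G 5 j * G 2 k + G 3 j * G 4 k + G 4 j * G 3 k =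
      pol q8 (Pi.single j 1) (Pi.single k 1) := fun j k => by
    rw [← hp, pol8]; simp only [hc]
  have hq' : ∀ j : Fin 8, G 0 j * G 7 j + G 1 j * G 6 j + G 2 j * G 5 j + G 3 j * G 4 j =
      q8 (Pi.single j 1) := fun j => by
    rw [← hq]; simp only [q8, hc]
  have r7 : ∀ k, G 7 k = (Pi.single k 1 : Vec 8) 7 := fun k => by
    have := hp' 0 k
    simpa [c0, pol8] using this
  have r6 : ∀ k, G 6 k = (Pi.single k 1 : Vec 8) 6 := fun k => by
    have := hp' 1 k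
    simpa [c1, pol8] using this
  have r3 : ∀ k, G 3 k = (Pi.single k 1 : Vec 8) 3 := fun k => by
    have := hp' 4 k
    simpa [c4, pol8] using this
  have r2 : ∀ k, G 2 k = (Pi.single k 1 : Vec 8) 2 := fun k => by
    have := hp' 5 k
    simpa [c5, pol8] using this
  have d2 : G 5 2 = 0 := by simpa [r7, r6, r3, r2, q8] using hq' 2
  have d3 : G 4 3 = 0 := by simpa [r7, r6, r3, r2, q8] using hq' 3
  have d6 : G 1 6 = 0 := by simpa [r7, r6, r3, r2, q8] using hq' 6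
  have d7 : G 0 7 = 0 := by simpa [r7, r6, r3, r2, q8] using hq' 7
  have e0 : G 5 3 = G 4 2 := eq_of_add (by simpa [r7, r6, r3, r2, pol8] using hp' 2 3)
  have e1 : G 5 6 = G 1 2 := (eq_of_add (by simpa [r7, r6, r3, r2, pol8] using hp' 2 6)).symm
  have e2 : G 5 7 = G 0 2 := (eq_of_add (by simpa [r7, r6, r3, r2, pol8] using hp' 2 7)).symm
  have e3 : G 4 6 = G 1 3 := (eq_of_add (by simpa [r7, r6, r3, r2, pol8] using hp' 3 6)).symm
  have e4 : G 4 7 = G 0 3 := (eq_of_add (by simpa [r7, r6, r3, r2, pol8] using hp' 3 7)).symm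
  have e5 : G 1 7 = G 0 6 := (eq_of_add (by simpa [r7, r6, r3, r2, pol8] using hp' 6 7)).symm
  refine ⟨G 4 2, G 1 2, G 0 2, G 1 3, G 0 3, G 0 6, ?_⟩
  ext i j
  fin_cases i <;> fin_cases j <;>
    simp [M, c0, c1, c4, c5, r7, r6, r3, r2, d2, d3, d6, d7, e0, e1, e2, e3, e4, e5]

end L4a

variable {T X2 X3 X23 W2 W3 Z : Gl 8}

theorem l4_card (he : B8.C.RepL c8 [T, X2, X3, X23, W2, W3]) : Nat.card (clos [X2, X3, X23, W2, W3]) = 720 :=
  ((he.pick [1, 2, 3, 4, 5]).gen L4a.s6_ok).2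

theorem l4_nf (he : B8.C.RepL c8 [T, X2, X3, X23, W2, W3]) {g : Gl 8} (hq : ∀ v, q8 (ap g v) = q8 v)
    (hf : ∀ i ∈ ([0, 1, 4, 5] : List (Fin 8)), ap g (Pi.single i 1) = Pi.single i 1) (ht : g * T * g⁻¹ = T * (X2 * X3 * X23)) :
    ∃ ε < 2, ∃ u ∈ clos [X2, X3, X23, W2, W3], B8.C.Rep (z8 ε) (g * u) := by
  obtain ⟨p0, p1, p2, p3, p4, p5, hM⟩ := L4a.nf hq hf
  have hg : B8.C.Rep (L4a.cd p0 p1 p2 p3 p4 p5) g :=
    B8.rep (L4a.cd_lt ..) fun i j => by rw [← L4a.M_cd, ← hM]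
  have hz : B8.C.RepL [z8 0, z8 1] ([z8 0, z8 1].map B8.C.elt) := B8.repL (by decide +kernel)
  obtain ⟨Z0, Z1, h0, h1⟩ : ∃ Z0 Z1, B8.C.Rep (z8 0) Z0 ∧ B8.C.Rep (z8 1) Z1 :=
    ⟨_, _, hz.nth 0, hz.nth 1⟩
  have ht' : g * T = T * (X2 * X3 * X23) * g := by rw [← ht]; group
  have key : g * T = T * (X2 * X3 * X23) * g →
      (g * 1 = Z0 ∨ g * X2 = Z0 ∨ g * X3 = Z0 ∨ g * X23 = Z0 ∨ g * (X2 * X3) = Z0 ∨
        g * (X2 * X23) = Z0 ∨ g * (X3 * X23) = Z0 ∨ g * (X2 * X3 * X23) = Z0) ∨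
      (g * 1 = Z1 ∨ g * X2 = Z1 ∨ g * X3 = Z1 ∨ g * X23 = Z1 ∨ g * (X2 * X3) = Z1 ∨
        g * (X2 * X23) = Z1 ∨ g * (X3 * X23) = Z1 ∨ g * (X2 * X3 * X23) = Z1) :=
    Cod.listsL_nil.decide (hg.cons (h0.cons (h1.cons he))) (by
      clear hg hM
      revert p0 p1 p2 p3 p4 p5
      decide +kernel)
  have m2 : X2 ∈ clos [X2, X3, X23, W2, W3] := mem_clos (by simp)
  have m3 : X3 ∈ clos [X2, X3, X23, W2, W3] := mem_clos (by simp)
  have m23 : X23 ∈ clos [X2, X3, X23, W2, W3] := mem_clos (by simp)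
  have fin : ∀ {a : ℕ} {Y : Gl 8}, B8.C.Rep a Y →
      (g * 1 = Y ∨ g * X2 = Y ∨ g * X3 = Y ∨ g * X23 = Y ∨ g * (X2 * X3) = Y ∨
        g * (X2 * X23) = Y ∨ g * (X3 * X23) = Y ∨ g * (X2 * X3 * X23) = Y) →
      ∃ u ∈ clos [X2, X3, X23, W2, W3], B8.C.Rep a (g * u) := by
    intro a Y hY h
    rcases h with h | h | h | h | h | h | h | h
    · exact ⟨_, one_mem _, h ▸ hY⟩
    · exact ⟨_, m2, h ▸ hY⟩
    · exact ⟨_, m3, h ▸ hY⟩
    · exact ⟨_, m23, h ▸ hY⟩
    · exact ⟨_, mul_mem m2 m3, h ▸ hY⟩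
    · exact ⟨_, mul_mem m2 m23, h ▸ hY⟩
    · exact ⟨_, mul_mem m3 m23, h ▸ hY⟩
    · exact ⟨_, mul_mem (mul_mem m2 m3) m23, h ▸ hY⟩
  rcases key ht' with h | h
  · exact ⟨0, by norm_num, fin h0 h⟩
  · exact ⟨1, by norm_num, fin h1 h⟩

end Cfsg.Agent.S33
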