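import Mathlib
import Cfsg.Agent.S33.VDefs
import Cfsg.Agent.S3713
import Cfsg.Agent.Chev.MdCov
import Cfsg.Agent.Chev.StCD3

/-! The Steinberg presentation of `Sp₆(K)` in characteristic two. -/

set_option autoImplicit false
set_option linter.unusedSectionVars false
set_option maxRecDepth 100000
set_option synthInstance.maxSize 100000
set_option synthInstance.maxHeartbeats 1000000

namespace Cfsg.Agent.S33

open Cfsg Cfsg.Agent.Rec Cfsg.Agent.Spor Cfsg.Agent.Loc.Mss Cfsg.Agent.SF6 Cfsg.Agent.Ch Cfsg.Agent.Chev.CD Subgroup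
open scoped commutatorElement Matrix

variable {G : Type*} [Group G] [Finite G] {K : Type} [Field K] [Finite K] [CharP K 2]

namespace VAB

open Cfsg.Agent.Chev Cfsg.Agent.Cl Cfsg.Agent.S3713

theorem cast_sign {z : ℤ} (h : z = 1 ∨ z = -1) : (z : K) = 1 := by
  rcases h with rfl | rfl <;> simp [CharTwo.neg_eq]

theorem adm {a b : SI 3} (h : a ≠ b) : Adm true a b := by
  by_cases e : b = bar a
  exacts [Or.inr ⟨rfl, e⟩, adm_of_ne h e]

theorem hcd : IsCD (bakSp (spB_nondegenerate (m := 3) (R := K)) spB_isAlt) true := isCD_bakSp _ _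

theorem fv (a : SI 3) : (bf (frameSp 3 K)).v a = Pi.single (ix a) 1 := by
  obtain ⟨i, x⟩ := a
  cases x
  · show -(Pi.single (Sum.inr i) 1 : Fin 3 ⊕ Fin 3 → K) = Pi.single (Sum.inr i) 1
    rw [← Pi.single_neg, CharTwo.neg_eq]
  · rfl

theorem fco (a : SI 3) (w : Fin 3 ⊕ Fin 3 → K) : (bf (frameSp 3 K)).co a w = w (ix a) := by
  obtain ⟨i, x⟩ := a
  show (frameSp 3 K).co (i, x) w = _
  rw [BakForm.Frame.co_apply]
  cases x <;> simp [frameSp, bakSp_B, spB_apply, sympForm_eq_sum, Pi.single_apply, bar, BakForm.η, bakSp_ε, ix,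
    CharTwo.neg_eq]

/-- The root element. -/
noncomputable def el (r : Rt true 3) (k : K) : Sp K := (spEquivEG 3 K).symm (hcd.xE (frameSp 3 K) r k)

theorem isE {a b : SI 3} (hab : a ≠ b) (d : Rt true 3) (k : K) : IsE (el (rt d a b) k) a b k := fun w => by
  have h1 : (el (rt d a b) k).1 *ᵥ w = (bf (frameSp 3 K)).x (rt d a b) k w :=
    congrArg (fun g => g.1 w) ((spEquivEG 3 K).apply_symm_apply (hcd.xE (frameSp 3 K) (rt d a b) k))
  rw [h1, BF.x_rt _ (adm hab), BF.Z_apply _ hab, fv, fv, fco, fco, cast_sign (sg_cases a b), one_mul, kp,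
    sub_eq_add_neg, ← neg_smul, CharTwo.neg_eq]
  split_ifs with e
  · simp
  · rw [Int.cast_mul, cast_sign (et_cases a), cast_sign (et_cases b), one_mul, one_mul]

theorem uniq {A B : Sp K} {a b : SI 3} {k : K} (h : IsE A a b k) (h' : IsE B a b k) : A = B :=
  Cl.sp_ext fun w => (h w).trans (h' w).symm

variable {Y : SI 3 → SI 3 → K → G}

theorem y_rt (hY : C3Rel Y) (d : Rt true 3) {a b : SI 3} (h : Adm true a b) :
    Y (rt d a b).1.1 (rt d a b).1.2 = Y a b := by
  by_cases h' : Can true a b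
  · rw [h'.rt]
  · rw [h.rt_of_not h']
    exact hY.sym a b h.ne

theorem y_zero (hY : C3Rel Y) {a b : SI 3} (h : a ≠ b) : Y a b 0 = 1 := by
  have := hY.add a b h 0 0
  rw [add_zero] at this
  exact left_eq_mul.1 this

theorem y_inv (hY : C3Rel Y) {a b : SI 3} (h : a ≠ b) (t : K) : (Y a b t)⁻¹ = Y a b t :=
  inv_eq_of_mul_eq_one_right (by rw [← hY.add a b h, CharTwo.add_self_eq_zero, y_zero hY h])

theorem isAB (hY : C3Rel Y) : (st true 1).IsAB fun r => Y r.1.1 r.1.2 := by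
  have hrt := fun (d : Rt true 3) a b (h : Adm true a b) => y_rt hY d h
  have hl : ∀ a : SI 3, Adm true a (bar a) := fun a => Or.inr ⟨rfl, rfl⟩
  have hsg : ∀ a b : SI 3, ((sg true a b : ℤ) : K) = 1 := fun a b => cast_sign (sg_cases a b)
  have het : ∀ a : SI 3, ((et true a : ℤ) : K) = 1 := fun a => cast_sign (et_cases a)
  have fl : ∀ {a b p q : SI 3}, a ≠ b → p ≠ q → ∀ t u,
      (Y p q u)⁻¹ * (Y a b t)⁻¹ * Y p q u * Y a b t = ⁅Y p q u, Y a b t⁆ := fun h1 h2 t u => by
    rw [commutatorElement_def, y_inv hY h1, y_inv hY h2]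
  refine ⟨fun r => hY.add _ _ r.2.adm.ne, fun r s h1 h2 t u => ?_⟩
  change _ = stWord _ ((terms r s).map _)
  rcases terms_cases r s with ⟨a, b, e, k1, k2, e1, e2, ht⟩ | ⟨⟨k1, k2, k3, k4⟩, ht⟩ <;> rw [ht]
  · have k3 : e ≠ a := by
      rintro rfl
      exact h2 (by rw [e2, e1, st_ng_rt k1, ← e1])
    have f1 : Y r.1.1 r.1.2 = Y a b := by rw [e1]; exact hrt _ _ _ k1
    have f2 : Y s.1.1 s.1.2 = Y b e := by rw [e2]; exact hrt _ _ _ k2
    rw [f1, f2, tm, if_neg k3, fl k1.ne k2.ne]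
    split_ifs with l1 l2 l3 l4
    · subst l1
      rw [(hY.ort a b (k1.fst_ne k2.ne) t u).symm.commutator_eq]
      simp only [stWord, List.map_cons, List.map_nil, List.prod_cons, List.prod_nil, mul_one, hrt _ _ _ (hl a)]
      rw [Int.cast_mul, Int.cast_ofNat, CharTwo.two_eq_zero (R := K), zero_mul, zero_mul, zero_mul,
        y_zero hY (hl a).ne]
    · exact absurd rfl l2
    · subst l3
      have hab := k1.fst_ne fun e => k3 (by simp [e])
      rw [← commutatorElement_inv, hY.quad a b hab, mul_inv_rev, y_inv hY k3.symm, y_inv hY (hl a).ne,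
        ← (hY.com a (bar b) a (bar a) k3.symm (hl a).ne k3 (by rwa [bar_bar]) (bar_ne a) (ne_bar a) _ _).eq]
      simp only [stWord, List.map_cons, List.map_nil, List.prod_cons, List.prod_nil, mul_one, hrt _ _ _ (hl a),
        hrt _ _ _ (adm_of_ne k3.symm l1), Int.cast_mul, hsg, het, CharTwo.neg_eq, one_mul, pow_one, sq]
    · subst l4
      have hab : (bar e).1 ≠ a.1 := (fst_ne_iff.2 ⟨k3, l1⟩ : e.1 ≠ a.1)
      have g1 := hY.sym (bar e) a (ne_of_fst_ne hab).1
      have g2 := hY.sym a e k3.symm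
      have := hY.quad (bar e) a hab u t
      rw [bar_bar] at g1 this
      rw [g1, this, g2]
      have hl' := hrt r _ _ (hl (bar e))
      rw [bar_bar] at hl'
      simp only [stWord, List.map_cons, List.map_nil, List.prod_cons, List.prod_nil, mul_one, hl',
        hrt _ _ _ (adm_of_ne k3.symm l1), Int.cast_mul, Int.cast_neg, hsg, het, CharTwo.neg_eq, one_mul,
        pow_one, sq, mul_comm t]
    · rw [← commutatorElement_inv, hY.tri a b e (k1.fst_ne l4) (k2.fst_ne l3)
        ((adm_of_ne (c := true) k3.symm l1).fst_ne l1), y_inv hY k3.symm]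
      simp only [stWord, List.map_cons, List.map_nil, List.prod_cons, List.prod_nil, mul_one,
        hrt _ _ _ (adm_of_ne k3.symm l1), Int.cast_mul, hsg, CharTwo.neg_eq, one_mul, pow_one]
  · rw [fl r.2.adm.ne s.2.adm.ne, (hY.com _ _ _ _ r.2.adm.ne s.2.adm.ne k1 k2 k3 k4 t u).symm.commutator_eq]
    rfl

theorem isSt (hY : C3Rel Y) : (st true 1).IsSt fun r => Y r.1.1 r.1.2 := by
  have hy := isAB hY
  have h₀ := (hcd (K := K)).isModel (m := 1) (frameSp 3 K)
  let p := fun (r : Rt true 3) t => (Y r.1.1 r.1.2 t, hcd.xE (frameSp 3 K) r t)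
  let q : Rt true 3 → K → XS p Set.univ := fun r t => ⟨p r t, x_mem_XS p (Set.mem_univ r) t⟩
  have hq : (st true 1).IsAB q := ⟨fun r t u => Subtype.ext (Prod.ext (hy.add r t u) (h₀.add r t u)),
    fun r s h1 h2 t u => by
      apply (XS p Set.univ).subtype_injective
      rw [map_stWord]
      refine Prod.ext ?_ ?_
      · exact (hy.comm r s h1 h2 t u).trans (map_stWord (x := p) (MonoidHom.fst _ _) _).symm
      · exact (h₀.comm r s h1 h2 t u).trans (map_stWord (x := p) (MonoidHom.snd _ _) _).symm⟩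
  exact (hq.isSt_of_map (st_decomp (Or.inl rfl)) h₀
    ((MonoidHom.snd _ _).comp (Subgroup.subtype _)) fun _ _ => rfl).map
      ((MonoidHom.fst _ _).comp (Subgroup.subtype _))

end VAB

theorem exists_E {a b : SI 3} (hab : a ≠ b) (k : K) : ∃ A : Sp K, IsE A a b k :=
  ⟨_, VAB.isE hab (sr (m := 1) true 0) k⟩

theorem E_gen {H : Subgroup (Sp K)} (hH : ∀ A a b k, a ≠ b → IsE A a b k → A ∈ H) : H = ⊤ := by
  have hT := (VAB.hcd (K := K)).XS_xE (S3713.frameSp 3 K) (bakSp_V0 _) (sr (m := 1) true 0)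
  have h1 : ⊤ ≤ H.comap (spEquivEG 3 K).symm.toMonoidHom := hT ▸ Chev.XS_le fun r _ k => by
    have := VAB.isE r.2.adm.ne r k
    rw [rt_self] at this
    exact hH _ _ _ _ r.2.adm.ne this
  refine top_le_iff.1 fun A _ => ?_
  have := h1 (mem_top (spEquivEG 3 K A))
  rwa [mem_comap, MulEquiv.coe_toMonoidHom, MulEquiv.symm_apply_apply] at this

theorem C3Rel.exists_hom {Y : SI 3 → SI 3 → K → G} (hY : C3Rel Y) :
    ∃ f : Sp K →* G, ∀ A a b k, a ≠ b → IsE A a b k → f A = Y a b k := by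
  have hT := (VAB.hcd (K := K)).XS_xE (S3713.frameSp 3 K) (bakSp_V0 _) (sr (m := 1) true 0)
  have hI := (VAB.hcd (K := K)).tor_injective (m := 1) (S3713.frameSp 3 K)
  rcases ((VAB.hcd (K := K)).isModel (m := 1) (S3713.frameSp 3 K)).exists_hom_or hT (VAB.isSt hY) (S := ⊤)
    (fun _ _ => mem_top _) (Subgroup.subtype _) ∅
    (fun c hc i _ => congrFun (hI (hc.trans (map_one _).symm)) i) with ⟨f, hf⟩ | ⟨-, k, h1, h2, -⟩
  · refine ⟨f.comp (spEquivEG 3 K).toMonoidHom, fun A a b k hab h => ?_⟩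
    rw [VAB.uniq h (VAB.isE hab (sr (m := 1) true 0) k), VAB.el, MonoidHom.comp_apply, MulEquiv.coe_toMonoidHom,
      MulEquiv.apply_symm_apply, hf]
    exact congrFun (VAB.y_rt hY _ (VAB.adm hab)) k
  · refine absurd (mem_bot.1 (Chev.XS_le (H := ⊥) (fun r hr => ?_) h2)) h1
    obtain ⟨i, hi, -⟩ := hr
    exact hi.elim

end Cfsg.Agent.S33
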