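import Mathlib
import Cfsg.Agent.S33.VAB
import Cfsg.Agent.S33.VSt2
import Cfsg.Agent.S0246
import Cfsg.Agent.S0270

/-! The field case: the subgroup `Sp₆(4)`. -/

set_option autoImplicit false
set_option linter.unusedSectionVars false
set_option maxRecDepth 100000
set_option synthInstance.maxSize 100000
set_option synthInstance.maxHeartbeats 1000000

namespace Cfsg.Agent.S33

open Cfsg Cfsg.Agent.Rec Cfsg.Agent.Spor Cfsg.Agent.Loc.Mss Cfsg.Agent.SF6 Cfsg.Agent.Ch Cfsg.Agent.Chev.CD Subgroup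
open scoped commutatorElement Matrix

variable {G : Type*} [Group G] [Finite G]

theorem VFd0.fr_mulVec (A : Sp F4) (w : Fin 3 ⊕ Fin 3 → F4) : (fr A).1 *ᵥ w = star (A.1 *ᵥ star w) := by
  funext i
  simp only [Matrix.mulVec, dotProduct, fr_apply, Pi.star_apply, star_sum, star_mul', star_star]

theorem VFd0.star_single (i : Fin 3 ⊕ Fin 3) : star (Pi.single i 1 : Fin 3 ⊕ Fin 3 → F4) = Pi.single i 1 := by
  funext j
  rw [Pi.star_apply, Pi.single_apply]
  split_ifs
  · exact star_one _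
  · exact star_zero _

theorem VFd0.isE_fr {A : Sp F4} {a b : SI 3} {k : F4} (h : IsE A a b k) : IsE (fr A) a b (star k) := fun w => by
  rw [VFd0.fr_mulVec, h, star_add, star_add, star_star, star_smul, star_smul, VFd0.star_single, VFd0.star_single,
    star_mul', Pi.star_apply, star_star]
  split_ifs
  · rw [star_zero]
  · rw [star_mul', Pi.star_apply, star_star]

theorem VFd0.isE_Bm {A : Sp F4} {i j : Fin 3} {k : F4} (h : IsE A (i, true) (j, false) k) : A ∈ Bm F4 := fun l => by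
  rw [h]
  have h1 : ix (j, false) = .inr j := rfl
  have h2 : ix (bar (i, true)) = .inr i := rfl
  rw [h1, h2, Pi.single_eq_of_ne Sum.inr_ne_inl, Pi.single_eq_of_ne Sum.inr_ne_inl]
  simp

theorem VFd0.center : center (Sp F4) = ⊥ :=
  card_eq_one.1 (Cfsg.Agent.S0246.result card_F4 3 (by norm_num))

/-- `Sp₆(4) = PSp₆(4)`. -/
noncomputable def VFd0.eqv : PSp 3 F4 ≃* Sp F4 :=
  (QuotientGroup.quotientMulEquivOfEq VFd0.center).trans QuotientGroup.quotientBot

theorem VFd0.simple : IsSimpleGroup (Sp F4) :=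
  have := Cfsg.Agent.S0270.result (F := F4) 3 (by norm_num) (by norm_num)
  VFd0.eqv.symm.isSimpleGroup

theorem exists_fd (s : Co G) {B : Subgroup G} {Y : SI 3 → SI 3 → Lam 1 → G} (hd : Dbl s.toPre B Y) :
    Nonempty (Fd s B) := by
  obtain ⟨f, hf⟩ := hd.rel.exists_hom
  have hL : s.L ≤ f.range := hd.gen _ fun a b hab => by
    obtain ⟨A, hA⟩ := exists_E hab (1 : F4)
    exact ⟨A, hf A a b 1 hab hA⟩
  refine ⟨f, ?_, fun A => ?_, hL, ?_, hd.genB _ fun i j k => ?_⟩
  · have := VFd0.simple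
    refine (MonoidHom.ker_eq_bot_iff f).1 ((MonoidHom.normal_ker f).eq_bot_or_eq_top.resolve_right fun h => ?_)
    have k : s.x3 ≠ 1 := s.hL.decide s.rep (by decide +kernel)
    obtain ⟨A, hA⟩ := hL (mem_clos (by simp) : s.x3 ∈ s.L)
    exact k (hA.symm.trans (MonoidHom.mem_ker.1 (h ▸ mem_top A)))
  · have := E_gen (H := ((MulAut.conj s.t).toMonoidHom.comp f).eqLocus (f.comp fr.toMonoidHom)) fun A a b k hab hA =>
      show s.t * f A * s.t⁻¹ = f (fr A) by
        rw [hf A a b k hab hA, hf _ a b _ hab (VFd0.isE_fr hA), hd.tac a b hab]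
    exact (this ▸ mem_top A : A ∈ ((MulAut.conj s.t).toMonoidHom.comp f).eqLocus (f.comp fr.toMonoidHom))
  · have := E_gen (H := s.X.comap f) fun A a b k hab hA =>
      show f A ∈ s.X by rw [hf A a b k hab hA]; exact hd.mem_normal s.L_le hab k
    rintro _ ⟨A, rfl⟩
    exact (this ▸ mem_top A : A ∈ s.X.comap f)
  · have hab : ((i, true) : SI 3) ≠ (j, false) := by simp
    obtain ⟨A, hA⟩ := exists_E hab k
    exact ⟨A, VFd0.isE_Bm hA, hf A _ _ k hab hA⟩

theorem Fd.iso {s : Co G} {B : Subgroup G} (d : Fd s B) (h : s.X ≤ d.f.range) : Nonempty (s.X ≃* PSp 3 F4) :=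
  ⟨((MulEquiv.subgroupCongr (le_antisymm h d.le_X)).trans (MonoidHom.ofInjective d.inj).symm).trans VFd0.eqv.symm⟩

end Cfsg.Agent.S33
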