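import Mathlib
import Cfsg.Agent.S33.VDefs
import Cfsg.Agent.TT.B68B

/-! `B` is self-centralising in `X`. -/

set_option autoImplicit false
set_option linter.unusedSectionVars false
set_option maxRecDepth 100000
set_option synthInstance.maxSize 100000
set_option synthInstance.maxHeartbeats 1000000

namespace Cfsg.Agent.S33

open Cfsg Cfsg.Agent.Rec Cfsg.Agent.Spor Cfsg.Agent.Loc.Mss Cfsg.Agent.SF6 Cfsg.Agent.Ch Cfsg.Agent.Chev.CD Subgroup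
open scoped commutatorElement Matrix

variable {G : Type*} [Group G] [Finite G]

theorem VCB.le_X (s : Co G) {B : Subgroup G} (hB : s.Big s.V6 B) : B ≤ s.X := by
  let K : Subgroup G :=
    { carrier := {v | v ∈ s.V6 ∧ ∃ e ∈ B, e ∈ s.X ∧ e ∈ s.Φ v}
      one_mem' := ⟨one_mem _, 1, one_mem _, one_mem _, s.Φ_one.2 (one_mem _)⟩
      mul_mem' := fun ⟨h1, e, a1, a2, a3⟩ ⟨h2, e', b1, b2, b3⟩ =>
        ⟨mul_mem h1 h2, e * e', mul_mem a1 b1, mul_mem a2 b2, s.Φ_mul a3 b3 h2⟩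
      inv_mem' := fun {v} ⟨h1, e, a1, a2, a3⟩ =>
        ⟨inv_mem h1, e, a1, a2, by rwa [inv_eq_of_mul_eq_one_right (Phi.V_sq s.toCfg h1)]⟩ }
  have hc : ∀ v ∈ s.V6, ∀ l ∈ s.L3, v * (l * v * l⁻¹) ∈ K := fun v hv l hl => by
    obtain ⟨e, he, h⟩ := hB.onto v hv
    have h3 := s.les.2.2.1 hl
    have hv' := conj_mem_of_norm (s.P3_norm.1 h3) hv
    refine ⟨mul_mem hv hv', e * (l * e * l⁻¹), mul_mem he (conj_mem_of_norm (hB.norm h3) he), ?_,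
      s.Φ_mul h (s.Φ_conj h h3) hv'⟩
    rw [s.mul_X, s.conj_X]
  have k : s.a ∈ s.V6 ∧ s.b ∈ s.V6 ∧ s.x1 ∈ s.V6 ∧ s.x2 ∈ s.V6 ∧ s.d ∈ s.L3 ∧ s.r ∈ s.L3 ∧ s.n ∈ s.L3 ∧ s.m ∈ s.L3 ∧
      s.y = s.a * (s.d * s.a * s.d⁻¹) ∧ s.a = s.b * (s.r * s.b * s.r⁻¹) ∧ s.b = s.a * (s.n * s.a * s.n⁻¹) ∧
      s.x1 = s.x2 * (s.r * s.x2 * s.r⁻¹) * s.y ∧ s.x2 = s.x1 * (s.n * s.x1 * s.n⁻¹) * s.y ∧
      s.x3 = s.x2 * (s.m * s.x2 * s.m⁻¹) * s.b := s.hL.decide s.rep (by decide +kernel)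
  obtain ⟨ka, kb, k1, k2, kd, kr, kn, km, ey, ea, eb, e1, e2, e3⟩ := k
  have hy : s.y ∈ K := ey ▸ hc _ ka _ kd
  have hb : s.b ∈ K := eb ▸ hc _ ka _ kn
  have hK : s.V6 ≤ K := clos_le.2 (by
    simp only [List.forall_mem_cons, List.not_mem_nil, false_imp_iff, implies_true, and_true]
    exact ⟨e1 ▸ mul_mem (hc _ k2 _ kr) hy, e2 ▸ mul_mem (hc _ k1 _ kn) hy, e3 ▸ mul_mem (hc _ k2 _ km) hb, hy,
      ea ▸ hc _ kb _ kr, hb⟩)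
  intro e he
  obtain ⟨v, hv, h⟩ := hB.tau e he
  obtain ⟨-, e', a1, a2, a3⟩ := hK hv
  have h1 := s.Φ_mul h a3 hv
  rw [Phi.V_sq s.toCfg hv] at h1
  have h2 : e * e' ∈ s.V6 := (s.memW.1 (s.Φ_one.1 h1)).resolve_right fun k =>
    hB.tB ((mul_mem_cancel_right (mul_mem he a1)).1 (hB.le k))
  exact (mul_mem_cancel_right a2).1 (s.L_le (s.V6_le h2))

theorem VCB.syl (s : Co G) {B : Subgroup G} (hB : s.Big s.V6 B) : Syl 2 B (s.X ⊓ 𝐂[B]) := by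
  have : Fact (Nat.Prime 2) := ⟨Nat.prime_two⟩
  have hX := VCB.le_X s hB
  have tT : s.t ∈ s.T := s.les.2.2.2.2.2.2.1 s.tW
  have tn : s.t ∈ 𝐍[B] := s.big_T hB le_rfl tT
  have hBC : B ≤ s.X ⊓ 𝐂[B] := le_inf hX fun e he => mem_cent.2 fun u hu => s.big_comm hB hu he
  have tC : s.t ∈ 𝐍[s.X ⊓ 𝐂[B]] := norm_inf (norm_normal 𝐍[B] _) (norm_cent le_rfl) tn
  have m0 : ∀ g, g ∈ B ⊔ zpowers s.t ↔ g ∈ B ∨ s.t * g ∈ B := fun g =>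
    FG.ZL.mem_ext tn (by rw [s.tt]; exact one_mem _)
  have m1 : ∀ g, g ∈ (s.X ⊓ 𝐂[B]) ⊔ zpowers s.t ↔ g ∈ s.X ⊓ 𝐂[B] ∨ s.t * g ∈ s.X ⊓ 𝐂[B] := fun g =>
    FG.ZL.mem_ext tC (by rw [s.tt]; exact one_mem _)
  have pt : IsPGroup 2 (zpowers s.t) :=
    FG.ZL.isPGroup_zpowers_of_pow (x := s.t) (n := 1) (by rw [pow_one, pow_two, s.tt])
  have p0 : IsPGroup 2 (B ⊔ zpowers s.t : Subgroup G) := pg_sup' (Phi.pg_of_sq hB.sq) pt (zpowers_le.2 tn)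
  have cV : ∀ k ∈ s.X ⊓ 𝐂[B], k * s.t = s.t * k → k ∈ B := fun k hk h =>
    hB.le (s.cent_V6 (s.cent_X hk.1 h) fun u hu => (mem_cent.1 hk.2 u (hB.le hu)).symm)
  have S0 : Syl 2 (B ⊔ zpowers s.t) ((s.X ⊓ 𝐂[B]) ⊔ zpowers s.t) := by
    refine Syl.of_norm p0 (sup_le_sup_right hBC _) fun P _ _ h2 h3 g hg => ?_
    have h4 : g * s.t * g⁻¹ ∈ B ⊔ zpowers s.t := conj_mem_of_norm (h3 hg) (mem_sup_right (mem_zpowers _))
    have h5 : s.t * (g * s.t * g⁻¹) ∈ B := ((m0 _).1 h4).resolve_left fun k => s.tX (s.conj_X.1 (hX k))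
    obtain ⟨c, hc, e⟩ := s.pb_fus hB (fun _ h _ => h) h5
    have h6 : c⁻¹ * g * s.t = s.t * (c⁻¹ * g) := by
      calc c⁻¹ * g * s.t = c⁻¹ * (g * s.t * g⁻¹) * g := by group
        _ = _ := by rw [e]; group
    have h7 : c⁻¹ * g ∈ (s.X ⊓ 𝐂[B]) ⊔ zpowers s.t := mul_mem (inv_mem (mem_sup_left (hBC hc))) (h2 hg)
    refine (mul_mem_cancel_left (inv_mem (mem_sup_left hc : c ∈ B ⊔ zpowers s.t))).1 ((m0 _).2 ?_)
    exact ((m1 _).1 h7).imp (fun k => cV _ k h6) fun k => cV _ k (by rw [mul_assoc s.t, h6])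
  have S1 := S0.inf le_sup_left (sup_le (hBC.trans le_normalizer) (zpowers_le.2 tC))
  have e : (B ⊔ zpowers s.t) ⊓ (s.X ⊓ 𝐂[B]) = B := le_antisymm (fun g hg => ((m0 g).1 hg.1).resolve_right fun k =>
    s.tX ((mul_mem_cancel_right hg.2.1).1 (hX k))) (le_inf le_sup_left hBC)
  rwa [e] at S1

theorem Co.centB (s : Co G) {B : Subgroup G} (hB : s.Big s.V6 B) : B ≤ s.X ∧ s.X ⊓ 𝐂[B] ≤ B := by
  have : Fact (Nat.Prime 2) := ⟨Nat.prime_two⟩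
  have hX := VCB.le_X s hB
  have hS := VCB.syl s hB
  have p0 := Phi.pg_of_sq hB.sq
  refine ⟨hX, hS.ge_of_le (pg_iff.2 fun x hx => ?_) hS.le le_rfl⟩
  have h1 := TT.b68_burnside hS (inf_le_left.trans inf_le_right)
  have h2 := s.balC hX p0 (commutator_le_self _) (Nat.not_even_iff_odd.1 (by rwa [even_iff_two_dvd]))
    (normalizer_commutator_ge_left _ _)
  have cm : ∀ a ∈ s.X ⊓ 𝐂[B], ∀ b ∈ s.X ⊓ 𝐂[B], a * b = b * a := fun a ha b hb => by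
    have := commutator_mem_commutator ha hb
    rwa [h2, mem_bot, commutatorElement_eq_one_iff_mul_comm] at this
  obtain ⟨k, hk⟩ := exists_pow_coprime (p := 2) x
  have h3 := s.balC hX p0 (O := zpowers (x ^ 2 ^ k)) (zpowers_le.2 (pow_mem hx _))
    (by rw [Nat.card_zpowers]; exact Nat.coprime_two_right.1 hk)
    (fun g hg => cent_le_norm _ (mem_cent.2 fun u hu => cm u (zpowers_le.2 (pow_mem hx _) hu) g hg))
  exact ⟨k, zpowers_eq_bot.1 h3⟩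

end Cfsg.Agent.S33
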