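import Mathlib
import Cfsg.Agent.S33.VSt2
import Cfsg.Agent.S33.VCB

/-! The wreathed case: the two factors. -/

set_option autoImplicit false
set_option linter.unusedSectionVars false
set_option maxRecDepth 100000
set_option synthInstance.maxSize 100000
set_option synthInstance.maxHeartbeats 1000000

namespace Cfsg.Agent.S33

open Cfsg Cfsg.Agent.Rec Cfsg.Agent.Spor Cfsg.Agent.Loc.Mss Cfsg.Agent.SF6 Cfsg.Agent.Ch Cfsg.Agent.Chev.CD Subgroup
open scoped commutatorElement Matrix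

variable {G : Type*} [Group G] [Finite G]

namespace VWr0

variable {Λ : Type*} [CommRing Λ] {Y : SI 3 → SI 3 → Λ → G}

theorem zero (R : C3Rel Y) {a b : SI 3} (h : a ≠ b) : Y a b 0 = 1 := by
  have := R.add a b h 0 0
  rw [add_zero] at this
  exact mul_left_cancel (a := Y a b 0) (by rw [← this, mul_one])

theorem bb : ∀ a : SI 3, bar (bar a) = a := by decide

theorem chain (R : C3Rel Y) {k l : Λ} (h0 : k * l = 0) {a b q : SI 3} (h1 : a ≠ b) (h2 : b ≠ q) (h3 : q ≠ a) :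
    Commute (Y a b k) (Y b q l) := by
  have quad : ∀ a b : SI 3, a.1 ≠ b.1 → ∀ k l : Λ, k * l = 0 → Commute (Y a b k) (Y b (bar b) l) := by
    intro a b h k l e
    rw [← commutatorElement_eq_one_iff_commute, R.quad a b h, mul_assoc k, e, mul_zero,
      zero R ((by decide : ∀ a b : SI 3, a.1 ≠ b.1 → a ≠ bar b) a b h),
      zero R ((by decide : ∀ a : SI 3, a ≠ bar a) a), mul_one]
  rcases (by decide : ∀ a b q : SI 3, a ≠ b → b ≠ q → q ≠ a → (a.1 ≠ b.1 ∧ (q = bar a ∨ q = bar b ∨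
    (b.1 ≠ q.1 ∧ a.1 ≠ q.1))) ∨ (b = bar a ∧ (bar q).1 ≠ a.1)) a b q h1 h2 h3 with
    ⟨h, rfl | rfl | ⟨h4, h5⟩⟩ | ⟨rfl, h⟩
  · exact R.ort a b h k l
  · exact quad a b h k l h0
  · rw [← commutatorElement_eq_one_iff_commute, R.tri a b q h h4 h5, h0, zero R h3.symm]
  · rw [← R.sym _ _ h2, bb]
    exact (quad _ _ h l k (by rw [mul_comm, h0])).symm

theorem nonopp (R : C3Rel Y) {k l : Λ} (h0 : k * l = 0) {a b p q : SI 3} (h1 : a ≠ b) (h2 : p ≠ q)
    (h3 : ¬ (p = b ∧ q = a)) (h4 : ¬ (p = bar a ∧ q = bar b)) : Commute (Y a b k) (Y p q l) := by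
  have bi : ∀ a b : SI 3, a ≠ b → bar a ≠ bar b := by decide
  by_cases e1 : b = p
  · subst e1
    exact chain R h0 h1 h2 fun e => h3 ⟨rfl, e⟩
  by_cases e2 : b = bar q
  · subst e2
    rw [← R.sym p q h2]
    exact chain R h0 h1 (bi _ _ h2.symm) fun e => h4 ⟨by rw [← e, bb], (bb q).symm⟩
  by_cases e3 : bar a = p
  · subst e3
    rw [← R.sym a b h1]
    exact chain R h0 (bi _ _ h1.symm) h2 fun e => h4 ⟨rfl, e⟩
  by_cases e4 : a = q
  · subst e4
    exact (chain R (by rw [mul_comm, h0]) h2 h1 e1).symm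
  exact R.com a b p q h1 h2 e1 e2 e3 e4 k l

theorem comm_c {x y z : G} (h1 : Commute x z) (h2 : Commute y z) : Commute ⁅x, y⁆ z :=
  ((h1.mul_left h2).mul_left h1.inv_left).mul_left h2.inv_left

theorem opp (R : C3Rel Y) {k l : Λ} (h0 : k * l = 0) (hk : k * k = k) {a b : SI 3} (h1 : a ≠ b) :
    Commute (Y a b k) (Y b a l) := by
  rcases (by decide : ∀ a b : SI 3, a ≠ b →
      (∃ e : SI 3, a.1 ≠ e.1 ∧ e.1 ≠ b.1 ∧ a.1 ≠ b.1 ∧ a ≠ e ∧ e ≠ b ∧ b ≠ e ∧ b ≠ bar a ∧ b ≠ bar e) ∨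
      (b = bar a ∧ ∃ e : SI 3, a.1 ≠ e.1 ∧ a ≠ e ∧ e ≠ bar e ∧ a ≠ bar e ∧ bar a ≠ e ∧ bar a ≠ bar e)) a b h1 with
    ⟨e, c1, c2, c3, c4, c5, c6, c7, c8⟩ | ⟨rfl, e, c1, c2, c3, c4, c5, c6⟩
  · rw [← hk, ← R.tri a e b c1 c2 c3]
    exact comm_c (nonopp R h0 c4 h1.symm (fun h => c6 h.1) fun h => c7 h.1)
      (nonopp R h0 c5 h1.symm (fun h => c4 h.2) fun h => c8 h.1)
  · have := R.quad a e c1 k k
    rw [hk, hk, ← inv_mul_eq_iff_eq_mul] at this
    rw [← this]
    exact (nonopp R h0 c4 h1.symm (fun h => c6 h.1) fun h => c2 (h.2.trans (bb e))).inv_left.mul_left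
      (comm_c (nonopp R h0 c2 h1.symm (fun h => c5 h.1) fun h => c4 h.2)
        (nonopp R h0 c3 h1.symm (fun h => c6 h.1) fun h => c6 h.1))

theorem comm (R : C3Rel Y) {k l : Λ} (h0 : k * l = 0) (hk : k * k = k) {a b p q : SI 3} (h1 : a ≠ b)
    (h2 : p ≠ q) : Commute (Y a b k) (Y p q l) := by
  by_cases h3 : p = b ∧ q = a
  · rw [h3.1, h3.2]; exact opp R h0 hk h1
  by_cases h4 : p = bar a ∧ q = bar b
  · rw [h4.1, h4.2, R.sym b a h1.symm]; exact opp R h0 hk h1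
  exact nonopp R h0 h1 h2 h3 h4

end VWr0

open VWr0

theorem exists_wd (s : Co G) {B : Subgroup G} (hB : s.Big s.V6 B) {Y : SI 3 → SI 3 → Lam 0 → G}
    (hd : Dbl s.toPre B Y) : Nonempty (Wd s) := by
  have R := hd.rel
  have tt := s.tt
  have ti : s.t⁻¹ = s.t := inv_eq_of_mul_eq_one_right tt
  have t2 : ∀ x : G, s.t * (s.t * x * s.t⁻¹) * s.t⁻¹ = x := fun x => by
    rw [ti]
    calc _ = s.t * s.t * x * (s.t * s.t) := by group
      _ = x := by rw [tt, one_mul, mul_one]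
  let L1 : Subgroup G := closure {g | ∃ a b, a ≠ b ∧ g = Y a b (om 0)}
  have m1 : ∀ a b, a ≠ b → Y a b (om 0) ∈ L1 := fun a b h => subset_closure ⟨a, b, h, rfl⟩
  have ta : ∀ a b, a ≠ b → s.t * Y a b (om 0) * s.t⁻¹ = Y a b (1 + om 0) := fun a b h => by
    rw [hd.tac a b h, star_om]
  have cm : ∀ x ∈ L1, ∀ y ∈ L1, Commute x (s.t * y * s.t⁻¹) := by
    intro x hx y hy
    refine (mem_centralizer_singleton_iff.1 ((closure_le (centralizer {s.t * y * s.t⁻¹})).2 ?_ hx) :)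
    rintro _ ⟨a, b, h, rfl⟩
    refine mem_centralizer_singleton_iff.2 (mem_centralizer_singleton_iff.1 (mem_comap.1
      ((closure_le ((centralizer {Y a b (om 0)}).comap (MulAut.conj s.t).toMonoidHom)).2 ?_ hy))).symm
    rintro _ ⟨p, q, h', rfl⟩
    refine mem_comap.2 (mem_centralizer_singleton_iff.2 ?_)
    show s.t * _ * s.t⁻¹ * _ = _ * (s.t * _ * s.t⁻¹)
    rw [ta p q h']
    exact (comm R (by decide) (by decide) h h').symm
  have hX : L1 ≤ s.X := (closure_le _).2 (by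
    rintro _ ⟨a, b, h, rfl⟩
    exact hd.mem_normal s.L_le h _)
  let π : L1 →* s.L :=
    { toFun := fun x => ⟨x * (s.t * x * s.t⁻¹), s.cent_X (mul_mem (hX x.2) (s.conj_X.2 (hX x.2))) (by
        symm
        rw [← mul_inv_eq_iff_eq_mul, ← conj_mul, t2]
        exact (cm x x.2 x x.2).symm)⟩
      map_one' := Subtype.ext (by simp)
      map_mul' := fun x y => Subtype.ext (by
        show (x : G) * y * (s.t * (x * y) * s.t⁻¹) = x * (s.t * x * s.t⁻¹) * (y * (s.t * y * s.t⁻¹))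
        rw [← conj_mul, mul_assoc, ← mul_assoc (y : G), (cm y y.2 x x.2).eq]
        simp only [mul_assoc]) }
  have hπ : ∀ x : L1, (π x : G) = x * (s.t * x * s.t⁻¹) := fun _ => rfl
  have y1 : ∀ a b, a ≠ b → Y a b 1 = Y a b (om 0) * Y a b (1 + om 0) := fun a b h => by
    rw [← R.add a b h, show om 0 + (1 + om 0) = 1 by decide]
  have surj : Function.Surjective π := fun l => by
    obtain ⟨_, ⟨x, rfl⟩, e⟩ := hd.gen (π.range.map s.L.subtype) (fun a b h =>
      ⟨π ⟨_, m1 a b h⟩, ⟨_, rfl⟩, by rw [y1 a b h, ← ta a b h]; rfl⟩) l.2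
    exact ⟨x, Subtype.ext e⟩
  have inj : Function.Injective π := by
    refine (injective_iff_map_eq_one π).2 fun x hx => Subtype.ext ?_
    have e : (x : G) * (s.t * x * s.t⁻¹) = 1 := congrArg Subtype.val hx
    have e2 : (x : G) = s.t * (x : G)⁻¹ * s.t⁻¹ := (eq_inv_of_mul_eq_one_left e).trans conj_inv
    have all : ∀ a b, a ≠ b → ∀ k, Y a b k ∈ centralizer {(x : G)} := fun a b h k => by
      have c1 : Y a b (om 0) ∈ centralizer {(x : G)} := mem_centralizer_singleton_iff.2 (by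
        rw [e2]; exact cm _ (m1 a b h) _ (inv_mem x.2))
      have c2 : Y a b (1 + om 0) ∈ centralizer {(x : G)} := mem_centralizer_singleton_iff.2 (by
        rw [← ta a b h]; exact (cm _ x.2 _ (m1 a b h)).symm)
      rcases Lam.cases k with rfl | rfl | rfl | rfl
      · rw [zero R h]; exact one_mem _
      · rw [y1 a b h]; exact mul_mem c1 c2
      exacts [c1, c2]
    have k1 := hd.genB _ fun i j k => all (i, true) (j, false) (by simp) k
    have k2 := hd.gen _ fun a b h => all a b h 1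
    have xB : (x : G) ∈ B := (s.centB hB).2 (mem_inf.2 ⟨hX x.2,
      mem_cent.2 fun b hb => mem_centralizer_singleton_iff.1 (k1 hb)⟩)
    rw [inv_eq_of_mul_eq_one_right (hB.sq _ xB), eq_mul_inv_iff_mul_eq] at e2
    have c : ∀ l ∈ s.L, (x : G) * l = l * x := fun l hl => (mem_centralizer_singleton_iff.1 (k2 hl)).symm
    have xV := s.cent_V6 (s.cent_X (hX x.2) e2) fun u hu => c u (s.V6_le hu)
    exact (s.hL.decide s.rep (by decide +kernel) : ∀ v ∈ s.V6, v * s.r = s.r * v → v * s.n = s.n * v →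
      v * s.d = s.d * v → v * s.m = s.m * v → v = 1) x xV (c _ (mem_clos (by simp))) (c _ (mem_clos (by simp)))
      (c _ (mem_clos (by simp))) (c _ (mem_clos (by simp)))
  let e := MulEquiv.ofBijective π ⟨inj, surj⟩
  exact ⟨⟨L1.subtype.comp e.symm.toMonoidHom,
    (MulAut.conj s.t).toMonoidHom.comp (L1.subtype.comp e.symm.toMonoidHom), fun _ => rfl,
    fun l => congrArg Subtype.val (e.apply_symm_apply l), fun l l' => cm _ (e.symm l).2 _ (e.symm l').2,
    fun l => hX (e.symm l).2⟩⟩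

end Cfsg.Agent.S33
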