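import Mathlib
import Cfsg.Agent.S33.VWr1
import Cfsg.Agent.S33.VCB
import Cfsg.Agent.NE.Tools

/-! The wreathed case: the normaliser of the Sylow subgroup of the base group. -/

set_option autoImplicit false
set_option linter.unusedSectionVars false
set_option maxRecDepth 100000
set_option synthInstance.maxSize 100000
set_option synthInstance.maxHeartbeats 1000000

namespace Cfsg.Agent.S33

open Cfsg Cfsg.Agent.Rec Cfsg.Agent.Spor Cfsg.Agent.Loc.Mss Cfsg.Agent.SF6 Cfsg.Agent.Ch Cfsg.Agent.Chev.CD Subgroup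
open scoped commutatorElement Matrix

variable {G : Type*} [Group G] [Finite G] {s : Co G} (w : Wd s)

namespace VWr2

theorem odd_mem {K : Subgroup G} {x : G} (ho : Odd (orderOf x)) (h : x * x ∈ K) : x ∈ K := by
  obtain ⟨m, hm⟩ := ho
  have := pow_orderOf_eq_one x
  rw [hm, pow_succ, pow_mul, pow_two, mul_eq_one_iff_inv_eq] at this
  exact this ▸ inv_mem (pow_mem h m)

/-- The elements of `N(N)` fixing the coset of `u`. -/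
def St (N : Subgroup G) (u : G) : Subgroup G where
  carrier := {g | g ∈ 𝐍[N] ∧ g * u * g⁻¹ * u⁻¹ ∈ N}
  one_mem' := ⟨one_mem _, by simp⟩
  mul_mem' := fun {a b} ha hb => ⟨mul_mem ha.1 hb.1, by
    convert mul_mem (conj_mem_of_norm ha.1 hb.2) ha.2 using 1; group⟩
  inv_mem' := fun {a} ha => ⟨inv_mem ha.1, by
    convert inv_mem (conj_mem_of_norm' ha.1 ha.2) using 1; group⟩

/-- The elements of `N(N)` whose coset is fixed by `ρ`. -/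
def Cm (N : Subgroup G) (ρ : G) : Subgroup G where
  carrier := {u | u ∈ 𝐍[N] ∧ ρ * u * ρ⁻¹ * u⁻¹ ∈ N}
  one_mem' := ⟨one_mem _, by simp⟩
  mul_mem' := fun {a b} ha hb => ⟨mul_mem ha.1 hb.1, by
    convert mul_mem ha.2 (conj_mem_of_norm ha.1 hb.2) using 1; group⟩
  inv_mem' := fun {a} ha => ⟨inv_mem ha.1, by
    convert inv_mem (conj_mem_of_norm' ha.1 ha.2) using 1; group⟩

theorem fix2 {N : Subgroup G} {ρ u v : G} (ho : Odd (orderOf ρ)) (hN : ρ ∈ 𝐍[N]) (P : G → Prop)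
    (hP : ∀ x, P x → P (ρ * x * ρ⁻¹)) (hu : P u) (h : ∀ x, P x → x * u⁻¹ ∈ N ∨ x * v⁻¹ ∈ N) :
    ρ * u * ρ⁻¹ * u⁻¹ ∈ N := by
  rcases h _ (hP _ hu) with h1 | h1
  · exact h1
  rcases h _ (hP _ (hP _ hu)) with h2 | h2
  · exact (odd_mem (K := St N u) ho ⟨mul_mem hN hN, by convert h2 using 1; group⟩).2
  · convert conj_mem_of_norm' hN (mul_mem h2 (inv_mem h1)) using 1; group

theorem fix2' {ρ u v : G} (ho : Odd (orderOf ρ)) (P : G → Prop)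
    (hP : ∀ x, P x → P (ρ * x * ρ⁻¹)) (hu : P u) (h : ∀ x, P x → x = u ∨ x = v) : ρ * u * ρ⁻¹ = u :=
  mul_inv_eq_one.1 (mem_bot.1 (fix2 (v := v) ho (norm_normal ⊤ ⊥ trivial) P hP hu fun x hx => by
    simpa only [mem_bot, mul_inv_eq_one] using h x hx))

/-- `z` is a commutator of `a` with an element of `V`. -/
def S (V : Subgroup G) (a z : G) : Prop := ∃ v ∈ V, z = v * a * v⁻¹ * a⁻¹

/-- `z` is the only non-trivial commutator of `a` with an element of `V` in `Z`. -/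
def F (V Z : Subgroup G) (a z : G) : Prop := z ≠ 1 ∧ ∀ u ∈ Z, (S V a u ↔ u = 1 ∨ u = z)

theorem S.one (V : Subgroup G) (a : G) : S V a 1 := ⟨1, one_mem _, by simp⟩

theorem S.conj {V : Subgroup G} {a z ρ : G} (hV : ρ ∈ 𝐍[V]) (h : S V a z) :
    S V (ρ * a * ρ⁻¹) (ρ * z * ρ⁻¹) := by
  obtain ⟨v, hv, rfl⟩ := h
  exact ⟨_, conj_mem_of_norm hV hv, by group⟩

theorem F.conj {V Z : Subgroup G} {a z ρ : G} (hV : ρ ∈ 𝐍[V]) (hZ : ρ ∈ 𝐍[Z]) (h : F V Z a z) :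
    F V Z (ρ * a * ρ⁻¹) (ρ * z * ρ⁻¹) := by
  refine ⟨fun e => h.1 (conj_eq_one_iff.1 e), fun u hu => ?_⟩
  obtain ⟨u', rfl⟩ : ∃ u', u = ρ * u' * ρ⁻¹ := ⟨ρ⁻¹ * u * ρ, by group⟩
  rw [conj_eq_one_iff, mul_left_inj, mul_right_inj, ← h.2 u' ((mem_normalizer_iff.1 hZ u').2 hu)]
  exact ⟨fun k => by simpa [mul_assoc] using k.conj (inv_mem hV), S.conj hV⟩

section Dec

variable (s : Pre G)

theorem d1 : ∀ a ∈ s.U, a ∈ s.V6 ∨ (S s.V6 a s.y ∧ S s.V6 a (s.x1 * s.y)) ∨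
    (S s.V6 a (s.x1 * s.y) ∧ (a * s.r⁻¹ ∈ s.V6 ∨ a * (s.r * s.c)⁻¹ ∈ s.V6)) ∨
    (S s.V6 a s.y ∧ (a * (s.r * s.d * (s.r * s.d))⁻¹ ∈ s.V6 ∨ a * s.d⁻¹ ∈ s.V6 ∨ a * (s.d * s.c)⁻¹ ∈ s.V6)) := by
  unfold S
  exact s.hL.decide s.rep (by decide +kernel)

theorem d2 : F s.V6 s.ZU s.r (s.x1 * s.y) ∧ F s.V6 s.ZU s.d s.y ∧ F s.V6 s.ZU (s.r * s.d * (s.r * s.d)) s.y ∧
    s.y ∈ s.ZU ∧ s.x1 * s.y ∈ s.ZU ∧ s.y ≠ s.x1 * s.y ∧ s.r ∈ s.U ∧ s.d ∈ s.U ∧ s.c ∈ s.U ∧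
    s.x3 ∈ s.V6 ∧ s.x2 ∈ s.V6 ∧ (∀ z ∈ s.ZU, z = 1 ∨ z = s.y ∨ z = s.x1 * s.y ∨ z = s.x1 * s.y * s.y) ∧
    ∀ v ∈ s.V6, s.r * v = v * s.r → s.d * v = v * s.d → v ∈ s.ZU := by
  unfold F S
  exact s.hL.decide s.rep (by decide +kernel)

theorem d3 : (∀ a ∈ s.U, a * a * s.r⁻¹ ∉ s.V6 ∧ a * a * (s.r * s.c)⁻¹ ∉ s.V6 ∧ s.d * (a * a)⁻¹ ∉ s.V6) ∧
    ∀ z ∈ s.ZU, z ∈ s.V6 ∧ ∀ u ∈ s.U, u * z = z * u := s.hL.decide s.rep (by decide +kernel)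

theorem S_V {a z : G} (ha : a ∈ s.V6) (h : S s.V6 a z) : z = 1 := by
  obtain ⟨v, hv, rfl⟩ := h
  rw [s.W_comm (s.les.2.2.2.2.2.1 hv) (s.les.2.2.2.2.2.1 ha)]; group

theorem of_triv {a : G} (ha : a ∈ s.U) (h : ∀ u ∈ s.ZU, S s.V6 a u → u = 1) : a ∈ s.V6 := by
  obtain ⟨k1, k2, -, k4, k5, -⟩ := d2 s
  rcases d1 s a ha with k | k | k | k
  · exact k
  · exact absurd (h _ k4 k.1) k2.1
  · exact absurd (h _ k5 k.1) k1.1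
  · exact absurd (h _ k4 k.1) k2.1

theorem of_F {a z : G} (ha : a ∈ s.U) (hz : z ∈ s.ZU) (h : F s.V6 s.ZU a z) :
    (z = s.x1 * s.y ∧ (a * s.r⁻¹ ∈ s.V6 ∨ a * (s.r * s.c)⁻¹ ∈ s.V6)) ∨ (z = s.y ∧
      (a * (s.r * s.d * (s.r * s.d))⁻¹ ∈ s.V6 ∨ a * s.d⁻¹ ∈ s.V6 ∨ a * (s.d * s.c)⁻¹ ∈ s.V6)) := by
  obtain ⟨k1, k2, -, k4, k5, k6, -⟩ := d2 s
  have e1 := fun k => (((h.2 _ k4).1 k).resolve_left k2.1).symm
  have e2 := fun k => (((h.2 _ k5).1 k).resolve_left k1.1).symm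
  rcases d1 s a ha with k | k | k | k
  · exact absurd (S_V s k ((h.2 _ hz).2 (.inr rfl))) h.1
  · exact absurd ((e1 k.1).symm.trans (e2 k.2)) k6
  · exact .inl ⟨e2 k.1, k.2⟩
  · exact .inr ⟨e1 k.1, k.2⟩

end Dec

/-- The embedding of `L × L`. -/
def θ : s.L × s.L →* G := MonoidHom.noncommCoprod w.p w.q w.cm

theorem θ_inj : Function.Injective (θ w) := fun _ _ e => Prod.ext (w.uniq e).1 (w.uniq e).2

theorem θ_p (a : s.L) : θ w (a, 1) = w.p a := by simp [θ]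

theorem mem {A : Subgroup G} {g : G} :
    g ∈ w.P A ⊔ w.Q A ↔ ∃ x : s.L × s.L, x.1.1 ∈ A ∧ x.2.1 ∈ A ∧ g = θ w x :=
  w.mem_sup.trans ⟨fun ⟨a, b, h⟩ => ⟨(a, b), h⟩, fun ⟨x, h⟩ => ⟨x.1, x.2, h⟩⟩

theorem mem' {A : Subgroup G} {x : s.L × s.L} : θ w x ∈ w.P A ⊔ w.Q A ↔ x.1.1 ∈ A ∧ x.2.1 ∈ A :=
  (mem w).trans ⟨fun ⟨_, h1, h2, e⟩ => θ_inj w e ▸ ⟨h1, h2⟩, fun h => ⟨x, h.1, h.2, rfl⟩⟩

theorem S_iff {g z : s.L × s.L} : S (w.P s.V6 ⊔ w.Q s.V6) (θ w g) (θ w z) ↔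
    S s.V6 g.1.1 z.1.1 ∧ S s.V6 g.2.1 z.2.1 := by
  constructor
  · rintro ⟨e, he, h⟩
    obtain ⟨x, h1, h2, rfl⟩ := (mem w).1 he
    rw [← map_inv, ← map_inv, ← map_mul, ← map_mul, ← map_mul] at h
    obtain rfl := θ_inj w h
    exact ⟨⟨_, h1, rfl⟩, ⟨_, h2, rfl⟩⟩
  · rintro ⟨⟨v, hv, h⟩, ⟨v', hv', h'⟩⟩
    refine ⟨θ w (⟨v, s.V6_le hv⟩, ⟨v', s.V6_le hv'⟩), (mem' w).2 ⟨hv, hv'⟩, ?_⟩
    rw [← map_inv, ← map_inv, ← map_mul, ← map_mul, ← map_mul]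
    exact congrArg _ (Prod.ext (Subtype.ext h) (Subtype.ext h'))

theorem Z_eq : (w.P s.V6 ⊔ w.Q s.V6) ⊓ 𝐂[w.P s.U ⊔ w.Q s.U] = w.P s.ZU ⊔ w.Q s.ZU := by
  obtain ⟨-, -, -, -, -, -, k1, k2, -, -, -, -, k3⟩ := d2 s.toPre
  refine le_antisymm (fun z hz => ?_) fun z hz => ?_
  · obtain ⟨x, h1, h2, rfl⟩ := (mem w).1 hz.1
    have k : ∀ u (hu : u ∈ s.U), u * x.1.1 = x.1.1 * u ∧ u * x.2.1 = x.2.1 * u := fun u hu => by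
      have := mem_cent.1 hz.2 _ ((mem' w (x := (⟨u, s.U_le hu⟩, ⟨u, s.U_le hu⟩))).2 ⟨hu, hu⟩)
      rw [← map_mul, ← map_mul] at this
      exact ⟨congrArg (fun y => y.1.1) (θ_inj w this), congrArg (fun y => y.2.1) (θ_inj w this)⟩
    exact (mem' w).2 ⟨k3 _ h1 (k _ k1).1 (k _ k2).1, k3 _ h2 (k _ k1).2 (k _ k2).2⟩
  · obtain ⟨x, h1, h2, rfl⟩ := (mem w).1 hz
    refine ⟨(mem' w).2 ⟨((d3 s.toPre).2 _ h1).1, ((d3 s.toPre).2 _ h2).1⟩, mem_cent.2 fun u hu => ?_⟩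
    obtain ⟨y, h3, h4, rfl⟩ := (mem w).1 hu
    rw [← map_mul, ← map_mul]
    exact congrArg _ (Prod.ext (Subtype.ext (((d3 s.toPre).2 _ h1).2 _ h3))
      (Subtype.ext (((d3 s.toPre).2 _ h2).2 _ h4)))

theorem F_p {a z : s.L} (h : F s.V6 s.ZU a.1 z.1) :
    F (w.P s.V6 ⊔ w.Q s.V6) (w.P s.ZU ⊔ w.Q s.ZU) (θ w (a, 1)) (θ w (z, 1)) := by
  refine ⟨fun e => h.1 (congrArg (fun y => y.1.1) ((map_eq_one_iff _ (θ_inj w)).1 e)), fun u hu => ?_⟩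
  obtain ⟨⟨u, u'⟩, h1, -, rfl⟩ := (mem w).1 hu
  rw [S_iff, h.2 _ h1, map_eq_one_iff _ (θ_inj w), (θ_inj w).eq_iff, Prod.mk_eq_one, Prod.mk.injEq]
  constructor
  · rintro ⟨k | k, k'⟩
    exacts [.inl ⟨Subtype.ext k, Subtype.ext (S_V _ (one_mem _) k')⟩,
      .inr ⟨Subtype.ext k, Subtype.ext (S_V _ (one_mem _) k')⟩]
  · rintro (⟨rfl, rfl⟩ | ⟨rfl, rfl⟩)
    exacts [⟨.inl rfl, S.one _ _⟩, ⟨.inr rfl, S.one _ _⟩]

theorem of_Fθ {g z : s.L × s.L} (g1 : g.1.1 ∈ s.U) (g2 : g.2.1 ∈ s.U) (z1 : z.1.1 ∈ s.ZU) (z2 : z.2.1 ∈ s.ZU)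
    (h : F (w.P s.V6 ⊔ w.Q s.V6) (w.P s.ZU ⊔ w.Q s.ZU) (θ w g) (θ w z)) :
    (F s.V6 s.ZU g.1.1 z.1.1 ∧ g.2.1 ∈ s.V6 ∧ z.2 = 1) ∨ (F s.V6 s.ZU g.2.1 z.2.1 ∧ g.1.1 ∈ s.V6 ∧ z.1 = 1) := by
  obtain ⟨z, z'⟩ := z
  have hL : ∀ u ∈ s.ZU, u ∈ s.L := fun u hu => s.V6_le ((d3 s.toPre).2 _ hu).1
  have k : ∀ u u' : s.L, u.1 ∈ s.ZU → u'.1 ∈ s.ZU →
      (S s.V6 g.1.1 u.1 ∧ S s.V6 g.2.1 u'.1 ↔ (u = 1 ∧ u' = 1) ∨ (u = z ∧ u' = z')) := fun u u' h1 h2 => by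
    rw [← S_iff w (z := (u, u')), h.2 _ ((mem' w).2 ⟨h1, h2⟩), map_eq_one_iff _ (θ_inj w), (θ_inj w).eq_iff,
      Prod.mk_eq_one, Prod.mk.injEq]
  have k0 : ¬ (z = 1 ∧ z' = 1) := fun e => h.1 (by rw [e.1, e.2]; exact map_one _)
  have k1 := (k z z' z1 z2).2 (.inr ⟨rfl, rfl⟩)
  rcases (k z 1 z1 (one_mem _)).1 ⟨k1.1, S.one _ _⟩ with e | e
  · refine .inr ⟨⟨fun e' => k0 ⟨e.1, Subtype.ext e'⟩, fun u hu => ⟨fun e' => ?_, ?_⟩⟩,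
      of_triv _ g1 fun u hu e' => ?_, e.1⟩
    · exact ((k 1 ⟨u, hL u hu⟩ (one_mem _) hu).1 ⟨S.one _ _, e'⟩).imp (fun k => congrArg Subtype.val k.2)
        fun k => congrArg Subtype.val k.2
    · rintro (rfl | rfl)
      exacts [S.one _ _, k1.2]
    · exact ((k ⟨u, hL u hu⟩ 1 hu (one_mem _)).1 ⟨e', S.one _ _⟩).elim (fun k => congrArg Subtype.val k.1)
        fun k => congrArg Subtype.val (k.1.trans e.1)
  · refine .inl ⟨⟨fun e' => k0 ⟨Subtype.ext e', e.2.symm⟩, fun u hu => ⟨fun e' => ?_, ?_⟩⟩,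
      of_triv _ g2 fun u hu e' => ?_, e.2.symm⟩
    · exact ((k ⟨u, hL u hu⟩ 1 hu (one_mem _)).1 ⟨e', S.one _ _⟩).imp (fun k => congrArg Subtype.val k.1)
        fun k => congrArg Subtype.val k.1
    · rintro (rfl | rfl)
      exacts [S.one _ _, k1.1]
    · exact ((k 1 ⟨u, hL u hu⟩ (one_mem _) hu).1 ⟨S.one _ _, e'⟩).elim (fun k => congrArg Subtype.val k.2)
        fun k => congrArg Subtype.val (k.2.trans e.2.symm)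

/-- The two factors interchanged. -/
def sw : Wd s where
  p := w.q
  q := w.p
  tp := w.tq
  pq l := (w.cm l l).eq.symm.trans (w.pq l)
  cm l l' := (w.cm l' l).symm
  memX l := w.tp l ▸ s.conj_X.2 (w.memX l)

variable {B : Subgroup G} {ρ : G}

theorem key (hB : s.Big s.V6 B) (hρ : ρ ∈ 𝐍[w.P s.U ⊔ w.Q s.U]) (ho : Odd (orderOf ρ)) :
    (∀ z : s.L, z.1 ∈ s.ZU → w.p z ∈ centralizer {ρ}) ∧ ∀ a : s.L, a.1 ∈ s.U → w.p a ∈ Cm B ρ := by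
  have hN := w.norm_B hB
  obtain rfl := w.B_eq hB
  have hV := hN hρ
  have hZ : ρ ∈ 𝐍[w.P s.ZU ⊔ w.Q s.ZU] := Z_eq w ▸ norm_inf hN (norm_cent le_rfl) hρ
  obtain ⟨k1, k2, k3, k4, k5, k6, k7, k8, k9, k10, k11, k12, -⟩ := d2 s.toPre
  have hL : ∀ u ∈ s.ZU, u ∈ s.L := fun u hu => s.V6_le ((d3 s.toPre).2 _ hu).1
  let y : s.L := ⟨s.y, hL _ k4⟩
  let z : s.L := ⟨s.x1 * s.y, hL _ k5⟩
  let r : s.L := ⟨s.r, s.U_le k7⟩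
  let d : s.L := ⟨s.d, s.U_le k8⟩
  let c : s.L := ⟨s.c, s.U_le k9⟩
  have mU : ∀ {a : s.L}, a.1 ∈ s.U → θ w (a, 1) ∈ w.P s.U ⊔ w.Q s.U := fun h => (mem' w).2 ⟨h, one_mem _⟩
  have e1 : ρ * θ w (y, 1) * ρ⁻¹ = θ w (y, 1) := by
    refine fix2' (v := θ w (1, y)) ho (fun x => x ∈ w.P s.ZU ⊔ w.Q s.ZU ∧ ∃ h ∈ w.P s.U ⊔ w.Q s.U,
      F (w.P s.V6 ⊔ w.Q s.V6) (w.P s.ZU ⊔ w.Q s.ZU) (h * h) x)
      (fun x ⟨h1, h, h2, h3⟩ => ⟨conj_mem_of_norm hZ h1, _, conj_mem_of_norm hρ h2, by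
        rw [conj_mul]; exact h3.conj hV hZ⟩)
      ⟨(mem' w).2 ⟨k4, one_mem _⟩, _, mU (a := r * d) (mul_mem k7 k8), by
        rw [← map_mul]; simpa using F_p w (a := r * d * (r * d)) (z := y) k3⟩ ?_
    rintro x ⟨h1, h, h2, h3⟩
    obtain ⟨⟨u, u'⟩, z1, z2, rfl⟩ := (mem w).1 h1
    obtain ⟨g, g1, g2, rfl⟩ := (mem w).1 h2
    rw [← map_mul] at h3
    rcases of_Fθ w (mul_mem g1 g1) (mul_mem g2 g2) z1 z2 h3 with ⟨h4, -, rfl⟩ | ⟨h4, -, rfl⟩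
    · rcases of_F _ (mul_mem g1 g1) z1 h4 with ⟨-, h5 | h5⟩ | ⟨h5, -⟩
      exacts [absurd h5 ((d3 _).1 _ g1).1, absurd h5 ((d3 _).1 _ g1).2.1,
        .inl (by rw [show u = y from Subtype.ext h5])]
    · rcases of_F _ (mul_mem g2 g2) z2 h4 with ⟨-, h5 | h5⟩ | ⟨h5, -⟩
      exacts [absurd h5 ((d3 _).1 _ g2).1, absurd h5 ((d3 _).1 _ g2).2.1,
        .inr (by rw [show u' = y from Subtype.ext h5])]
  have e2 : ρ * θ w (z, 1) * ρ⁻¹ = θ w (z, 1) := by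
    refine fix2' (v := θ w (1, z)) ho (fun x => x ∈ w.P s.ZU ⊔ w.Q s.ZU ∧ (∃ h ∈ w.P s.U ⊔ w.Q s.U,
      F (w.P s.V6 ⊔ w.Q s.V6) (w.P s.ZU ⊔ w.Q s.ZU) h x) ∧ ∀ h ∈ w.P s.U ⊔ w.Q s.U,
        ¬ F (w.P s.V6 ⊔ w.Q s.V6) (w.P s.ZU ⊔ w.Q s.ZU) (h * h) x)
      (fun x ⟨h1, ⟨h, h2, h3⟩, h4⟩ => ⟨conj_mem_of_norm hZ h1, ⟨_, conj_mem_of_norm hρ h2, h3.conj hV hZ⟩,
        fun h h5 h6 => h4 _ (conj_mem_of_norm (inv_mem hρ) h5) (by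
          simpa [mul_assoc] using h6.conj (inv_mem hV) (inv_mem hZ))⟩)
      ⟨(mem' w).2 ⟨k5, one_mem _⟩, ⟨_, mU (a := r) k7, F_p w (a := r) (z := z) k1⟩, fun h h2 h3 => ?_⟩ ?_
    · obtain ⟨g, g1, g2, rfl⟩ := (mem w).1 h2
      rw [← map_mul] at h3
      rcases of_Fθ w (mul_mem g1 g1) (mul_mem g2 g2) k5 (one_mem _) h3 with ⟨h4, -, -⟩ | ⟨h4, -, -⟩
      · rcases of_F _ (mul_mem g1 g1) k5 h4 with ⟨-, h5 | h5⟩ | ⟨h5, -⟩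
        exacts [((d3 _).1 _ g1).1 h5, ((d3 _).1 _ g1).2.1 h5, k6 h5.symm]
      · exact h4.1 rfl
    rintro x ⟨h1, ⟨h, h2, h3⟩, h6⟩
    obtain ⟨⟨u, u'⟩, z1, z2, rfl⟩ := (mem w).1 h1
    obtain ⟨g, g1, g2, rfl⟩ := (mem w).1 h2
    rcases of_Fθ w g1 g2 z1 z2 h3 with ⟨h4, -, rfl⟩ | ⟨h4, -, rfl⟩
    · rcases of_F _ g1 z1 h4 with ⟨h5, -⟩ | ⟨h5, -⟩
      · exact .inl (by rw [show u = z from Subtype.ext h5])
      · refine absurd ?_ (h6 _ (mU (a := r * d) (mul_mem k7 k8)))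
        rw [← map_mul, show u = y from Subtype.ext h5]
        simpa using F_p w (a := r * d * (r * d)) (z := y) k3
    · rcases of_F _ g2 z2 h4 with ⟨h5, -⟩ | ⟨h5, -⟩
      · exact .inr (by rw [show u' = z from Subtype.ext h5])
      · refine absurd ?_ (h6 (θ w (1, r * d)) ((mem' w).2 ⟨one_mem _, mul_mem k7 k8⟩))
        rw [← map_mul, show u' = y from Subtype.ext h5, sup_comm (w.P s.V6), sup_comm (w.P s.ZU)]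
        convert F_p (sw w) (a := r * d * (r * d)) (z := y) k3 using 1 <;>
          first | rfl | simp [θ, sw]
  have cs : ∀ {g : s.L × s.L} (a : s.L), g.1.1 * a.1⁻¹ ∈ s.V6 → g.2.1 ∈ s.V6 →
      θ w g * (θ w (a, 1))⁻¹ ∈ w.P s.V6 ⊔ w.Q s.V6 := fun a h1 h2 => by
    rw [← map_inv, ← map_mul]
    exact (mem' w).2 ⟨h1, by simpa using h2⟩
  have e3 := fix2 (v := θ w (r * c, 1)) ho hV (fun x => x ∈ w.P s.U ⊔ w.Q s.U ∧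
      F (w.P s.V6 ⊔ w.Q s.V6) (w.P s.ZU ⊔ w.Q s.ZU) x (θ w (z, 1)))
    (fun x h => ⟨conj_mem_of_norm hρ h.1, e2 ▸ h.2.conj hV hZ⟩) ⟨mU (a := r) k7, F_p w (a := r) (z := z) k1⟩
    fun x ⟨h2, h3⟩ => by
      obtain ⟨g, g1, g2, rfl⟩ := (mem w).1 h2
      rcases of_Fθ w g1 g2 k5 (one_mem _) h3 with ⟨h4, h6, -⟩ | ⟨h4, -, -⟩
      · rcases of_F _ g1 k5 h4 with ⟨-, h5⟩ | ⟨h5, -⟩
        exacts [h5.imp (cs r · h6) (cs (r * c) · h6), absurd h5.symm k6]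
      · exact absurd rfl h4.1
  have e4 := fix2 (v := θ w (d * c, 1)) ho hV (fun x => x ∈ w.P s.U ⊔ w.Q s.U ∧
      F (w.P s.V6 ⊔ w.Q s.V6) (w.P s.ZU ⊔ w.Q s.ZU) x (θ w (y, 1)) ∧
      ∀ h ∈ w.P s.U ⊔ w.Q s.U, x * (h * h)⁻¹ ∉ w.P s.V6 ⊔ w.Q s.V6)
    (fun x h => ⟨conj_mem_of_norm hρ h.1, e1 ▸ h.2.1.conj hV hZ, fun g h1 h2 =>
      h.2.2 _ (conj_mem_of_norm' hρ h1) (by convert conj_mem_of_norm' hV h2 using 1; group)⟩)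
    ⟨mU (a := d) k8, F_p w (a := d) (z := y) k2, fun h h2 h3 => by
      obtain ⟨g, g1, -, rfl⟩ := (mem w).1 h2
      rw [← map_mul, ← map_inv, ← map_mul] at h3
      exact ((d3 _).1 _ g1).2.2 ((mem' w).1 h3).1⟩
    fun x ⟨h2, h3, h7⟩ => by
      obtain ⟨g, g1, g2, rfl⟩ := (mem w).1 h2
      rcases of_Fθ w g1 g2 k4 (one_mem _) h3 with ⟨h4, h6, -⟩ | ⟨h4, -, -⟩
      · rcases of_F _ g1 k4 h4 with ⟨h5, -⟩ | ⟨-, h5 | h5⟩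
        · exact absurd h5 k6
        · refine absurd ?_ (h7 _ (mU (a := r * d) (mul_mem k7 k8)))
          rw [← map_mul]
          simpa using cs (r * d * (r * d)) h5 h6
        · exact h5.imp (cs d · h6) (cs (d * c) · h6)
      · exact absurd rfl h4.1
  have nU := fun {a : s.L} (h : a.1 ∈ s.U) => hN (le_normalizer (mU h))
  simp only [θ_p] at e1 e2 e3 e4 nU
  have cy : w.p y ∈ centralizer {ρ} := mem_centralizer_singleton_iff.2 (mul_inv_eq_iff_eq_mul.1 e1).symm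
  have cz : w.p z ∈ centralizer {ρ} := mem_centralizer_singleton_iff.2 (mul_inv_eq_iff_eq_mul.1 e2).symm
  refine ⟨fun u hu => ?_, fun a ha => ?_⟩
  · rcases k12 _ hu with e | e | e | e
    · rw [show u = 1 from Subtype.ext e, map_one]; exact one_mem _
    · rwa [show u = y from Subtype.ext e]
    · rwa [show u = z from Subtype.ext e]
    · rw [show u = z * y from Subtype.ext e, map_mul]; exact mul_mem cz cy
  · have hv : ∀ v (hv : v ∈ s.V6), v ∈ ((Cm (w.P s.V6 ⊔ w.Q s.V6) ρ).comap w.p).map s.L.subtype := fun v hv => by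
      have : w.p ⟨v, s.V6_le hv⟩ ∈ w.P s.V6 ⊔ w.Q s.V6 := θ_p w _ ▸ (mem' w).2 ⟨hv, one_mem _⟩
      exact ⟨⟨v, s.V6_le hv⟩, ⟨le_normalizer this, mul_mem (conj_mem_of_norm hV this) (inv_mem this)⟩, rfl⟩
    have : s.U ≤ ((Cm (w.P s.V6 ⊔ w.Q s.V6) ρ).comap w.p).map s.L.subtype := clos_le.2 (by
      simp only [List.forall_mem_cons, List.not_mem_nil, false_imp_iff, implies_true, and_true]
      exact ⟨hv _ k10, ⟨r, ⟨nU k7, e3⟩, rfl⟩, ⟨d, ⟨nU k8, e4⟩, rfl⟩, hv _ k11⟩)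
    obtain ⟨b, hb, e⟩ := this ha
    rwa [← show b = a from Subtype.ext e]

end VWr2

open VWr2 in
theorem Wd.odd_eq_one {B : Subgroup G} (hB : s.Big s.V6 B) {ρ : G} (hρ : ρ ∈ 𝐍[w.P s.U ⊔ w.Q s.U])
    (ho : Odd (orderOf ρ)) : ρ = 1 := by
  obtain ⟨k1, k2⟩ := key w hB hρ ho
  obtain ⟨k3, k4⟩ := key (sw w) hB (by rwa [sup_comm] at hρ) ho
  have hN := w.norm_B hB
  have hV := hN hρ
  have hU : w.P s.U ⊔ w.Q s.U ≤ Cm B ρ := fun g hg => by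
    obtain ⟨a, b, ha, hb, rfl⟩ := w.mem_sup.1 hg
    exact mul_mem (k2 a ha) (k4 b hb)
  have hZ : B ⊓ 𝐂[w.P s.U ⊔ w.Q s.U] ≤ centralizer {ρ} := fun g hg => by
    rw [w.B_eq hB, Z_eq] at hg
    obtain ⟨a, b, ha, hb, rfl⟩ := w.mem_sup.1 hg
    exact mul_mem (k1 a ha) (k3 b hb)
  have act : ∀ u ∈ w.P s.U ⊔ w.Q s.U, ∀ e ∈ B, ρ * (u * e * u⁻¹) * ρ⁻¹ = u * (ρ * e * ρ⁻¹) * u⁻¹ :=
    fun u hu e he => by
      have := s.big_comm hB (hU hu).2 (conj_mem_of_norm (hU hu).1 (conj_mem_of_norm hV he))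
      rw [← mul_inv_eq_iff_eq_mul] at this
      rw [← this]; group
  have hC : B ≤ B ⊓ centralizer {ρ} := by
    by_contra hc
    obtain ⟨x, hx, h1, -, h2⟩ := NE.exists_central_mod (N := B ⊓ centralizer {ρ}) (K := B)
      (w.syl.pg.to_le le_sup_left)
      (le_normalizer_iff.2 fun u hu e he => ⟨conj_mem_of_norm (hU hu).1 he.1,
        mem_centralizer_singleton_iff.2 (by
          rw [eq_comm, ← mul_inv_eq_iff_eq_mul, act u hu e he.1,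
            ← mem_centralizer_singleton_iff.1 he.2, mul_inv_cancel_right])⟩)
      (by rw [w.B_eq hB]; exact sup_le_sup (map_mono (comap_mono s.les.1)) (map_mono (comap_mono s.les.1)))
      (le_normalizer.trans hN) hc
    have hx' := conj_mem_of_norm hV hx
    have h3 := mem_centralizer_singleton_iff.1 (hZ (x := x⁻¹ * (ρ * x * ρ⁻¹)) ⟨B.mul_mem (inv_mem hx) hx',
      mem_cent.2 fun u hu => by
        have k := mem_centralizer_singleton_iff.1 (h2 u hu).2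
        rw [eq_comm, ← mul_inv_eq_iff_eq_mul, ← conj_mul, act u hu x hx] at k
        calc u * (x⁻¹ * (ρ * x * ρ⁻¹))
            = (u * x * u⁻¹)⁻¹ * (u * (ρ * x * ρ⁻¹) * u⁻¹ * (ρ * x⁻¹ * ρ⁻¹)) * (ρ * x * ρ⁻¹) * u := by group
          _ = _ := by rw [k]; group⟩)
    refine h1 ⟨hx, mem_centralizer_singleton_iff.2 (mem_centralizer_singleton_iff.1
      (odd_mem (K := centralizer {x}) ho (mem_centralizer_singleton_iff.2 ?_))).symm⟩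
    have h4 := hB.sq _ (mul_mem (inv_mem hx) hx')
    calc ρ * ρ * x = x * (x⁻¹ * (ρ * x * ρ⁻¹)) * (ρ * (x⁻¹ * (ρ * x * ρ⁻¹))) * ρ := by group
      _ = x * (x⁻¹ * (ρ * x * ρ⁻¹) * (x⁻¹ * (ρ * x * ρ⁻¹))) * (ρ * ρ) := by rw [← h3]; group
      _ = _ := by rw [h4, mul_one]
  have hρB := (s.centB hB).2 ⟨odd_mem ho (s.sq_X ρ), mem_cent.2 fun e he =>
    mem_centralizer_singleton_iff.1 (hC he).2⟩
  exact mem_bot.1 (odd_mem ho (mem_bot.2 (hB.sq _ hρB)))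

end Cfsg.Agent.S33
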