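import Mathlib
import Cfsg.Agent.SF6.Ar

/-! Generated by tools/rec: the complement S6 in C(x1) -/

set_option autoImplicit false
set_option maxRecDepth 100000
set_option linter.unusedVariables false
set_option exponentiation.threshold 100000

namespace Cfsg.Agent.S33

open Cfsg.Agent.Spor Cfsg.Agent.Rec Cfsg.Agent.SF6

universe u

noncomputable def xS6_t : ST :=
(.node (nat_lit 0x1044428802) (.node (nat_lit 0x86044ca02) (.node (nat_lit 0x22c44c102) (.node (nat_lit 0x14c461002) (.node (nat_lit 0x140464302) (.node (nat_lit 0x10c465302) (.node (nat_lit 0x108429302) (.node (nat_lit 0x108425002) (.node (nat_lit 0x108421202) (.leaf (nat_lit 0x108421002) (nat_lit 2306))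
 (.leaf (nat_lit 0x108421202) (nat_lit 2562))
) (.node (nat_lit 0x108425202) (.leaf (nat_lit 0x108425002) (nat_lit 2562))
 (.node (nat_lit 0x108429102) (.leaf (nat_lit 0x108425202) (nat_lit 2818))
 (.leaf (nat_lit 0x108429102) (nat_lit 2564))
))) (.node (nat_lit 0x10c461002) (.node (nat_lit 0x10842d102) (.leaf (nat_lit 0x108429302) (nat_lit 2308))
 (.node (nat_lit 0x10842d302) (.leaf (nat_lit 0x10842d102) (nat_lit 2308))
 (.leaf (nat_lit 0x10842d302) (nat_lit 2052))
)) (.node (nat_lit 0x10c461302) (.leaf (nat_lit 0x10c461002) (nat_lit 2562))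
 (.node (nat_lit 0x10c465002) (.leaf (nat_lit 0x10c461302) (nat_lit 2818))
 (.leaf (nat_lit 0x10c465002) (nat_lit 2306))
)))) (.node (nat_lit 0x140420202) (.node (nat_lit 0x10c469202) (.node (nat_lit 0x10c469102) (.leaf (nat_lit 0x10c465302) (nat_lit 2562))
 (.leaf (nat_lit 0x10c469102) (nat_lit 2564))
) (.node (nat_lit 0x10c46d102) (.leaf (nat_lit 0x10c469202) (nat_lit 2308))
 (.node (nat_lit 0x10c46d202) (.leaf (nat_lit 0x10c46d102) (nat_lit 2308))
 (.leaf (nat_lit 0x10c46d202) (nat_lit 2052))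
))) (.node (nat_lit 0x140425202) (.node (nat_lit 0x140421202) (.leaf (nat_lit 0x140420202) (nat_lit 3075))
 (.node (nat_lit 0x140424202) (.leaf (nat_lit 0x140421202) (nat_lit 2819))
 (.leaf (nat_lit 0x140424202) (nat_lit 3331))
)) (.node (nat_lit 0x140460302) (.leaf (nat_lit 0x140425202) (nat_lit 3075))
 (.node (nat_lit 0x140461302) (.leaf (nat_lit 0x140460302) (nat_lit 2819))
 (.leaf (nat_lit 0x140461302) (nat_lit 3075))
))))) (.node (nat_lit 0x148421002) (.node (nat_lit 0x14442d302) (.node (nat_lit 0x144428202) (.node (nat_lit 0x140465302) (.leaf (nat_lit 0x140464302) (nat_lit 2563))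
 (.leaf (nat_lit 0x140465302) (nat_lit 2819))
) (.node (nat_lit 0x144429302) (.leaf (nat_lit 0x144428202) (nat_lit 1796))
 (.node (nat_lit 0x14442c202) (.leaf (nat_lit 0x144429302) (nat_lit 2052))
 (.leaf (nat_lit 0x14442c202) (nat_lit 1540))
))) (.node (nat_lit 0x14446c302) (.node (nat_lit 0x144468302) (.leaf (nat_lit 0x14442d302) (nat_lit 1796))
 (.node (nat_lit 0x144469202) (.leaf (nat_lit 0x144468302) (nat_lit 2308))
 (.leaf (nat_lit 0x144469202) (nat_lit 2052))
)) (.node (nat_lit 0x14446d202) (.leaf (nat_lit 0x14446c302) (nat_lit 2052))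
 (.node (nat_lit 0x148420202) (.leaf (nat_lit 0x14446d202) (nat_lit 1796))
 (.leaf (nat_lit 0x148420202) (nat_lit 2818))
)))) (.node (nat_lit 0x14846d102) (.node (nat_lit 0x148468302) (.node (nat_lit 0x148424202) (.leaf (nat_lit 0x148421002) (nat_lit 2562))
 (.node (nat_lit 0x148425002) (.leaf (nat_lit 0x148424202) (nat_lit 3074))
 (.leaf (nat_lit 0x148425002) (nat_lit 2818))
)) (.node (nat_lit 0x148469102) (.leaf (nat_lit 0x148468302) (nat_lit 2564))
 (.node (nat_lit 0x14846c302) (.leaf (nat_lit 0x148469102) (nat_lit 2820))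
 (.leaf (nat_lit 0x14846c302) (nat_lit 2308))
))) (.node (nat_lit 0x14c42c202) (.node (nat_lit 0x14c428202) (.leaf (nat_lit 0x14846d102) (nat_lit 2564))
 (.node (nat_lit 0x14c429102) (.leaf (nat_lit 0x14c428202) (nat_lit 2052))
 (.leaf (nat_lit 0x14c429102) (nat_lit 2308))
)) (.node (nat_lit 0x14c42d102) (.leaf (nat_lit 0x14c42c202) (nat_lit 1796))
 (.node (nat_lit 0x14c460302) (.leaf (nat_lit 0x14c42d102) (nat_lit 2052))
 (.leaf (nat_lit 0x14c460302) (nat_lit 2562))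
)))))) (.node (nat_lit 0x220448902) (.node (nat_lit 0x20c460802) (.node (nat_lit 0x204444a02) (.node (nat_lit 0x14c465002) (.node (nat_lit 0x14c464302) (.leaf (nat_lit 0x14c461002) (nat_lit 2306))
 (.leaf (nat_lit 0x14c464302) (nat_lit 2306))
) (.node (nat_lit 0x204440802) (.leaf (nat_lit 0x14c465002) (nat_lit 2050))
 (.node (nat_lit 0x204440902) (.leaf (nat_lit 0x204440802) (nat_lit 1537))
 (.leaf (nat_lit 0x204440902) (nat_lit 1281))
))) (.node (nat_lit 0x204448902) (.node (nat_lit 0x204444b02) (.leaf (nat_lit 0x204444a02) (nat_lit 1282))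
 (.node (nat_lit 0x204448802) (.leaf (nat_lit 0x204444b02) (nat_lit 1538))
 (.leaf (nat_lit 0x204448802) (nat_lit 1284))
)) (.node (nat_lit 0x20444ca02) (.leaf (nat_lit 0x204448902) (nat_lit 1028))
 (.node (nat_lit 0x20444cb02) (.leaf (nat_lit 0x20444ca02) (nat_lit 1538))
 (.leaf (nat_lit 0x20444cb02) (nat_lit 1794))
)))) (.node (nat_lit 0x20c468b02) (.node (nat_lit 0x20c464902) (.node (nat_lit 0x20c460b02) (.leaf (nat_lit 0x20c460802) (nat_lit 1280))
 (.leaf (nat_lit 0x20c460b02) (nat_lit 1027))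
) (.node (nat_lit 0x20c464a02) (.leaf (nat_lit 0x20c464902) (nat_lit 1536))
 (.node (nat_lit 0x20c468802) (.leaf (nat_lit 0x20c464a02) (nat_lit 1283))
 (.leaf (nat_lit 0x20c468802) (nat_lit 1536))
))) (.node (nat_lit 0x220440102) (.node (nat_lit 0x20c46c902) (.leaf (nat_lit 0x20c468b02) (nat_lit 1283))
 (.node (nat_lit 0x20c46ca02) (.leaf (nat_lit 0x20c46c902) (nat_lit 1792))
 (.leaf (nat_lit 0x20c46ca02) (nat_lit 1539))
)) (.node (nat_lit 0x220440902) (.leaf (nat_lit 0x220440102) (nat_lit 769))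
 (.node (nat_lit 0x220448102) (.leaf (nat_lit 0x220440902) (nat_lit 1025))
 (.leaf (nat_lit 0x220448102) (nat_lit 516))
))))) (.node (nat_lit 0x22446c302) (.node (nat_lit 0x224440102) (.node (nat_lit 0x220460b02) (.node (nat_lit 0x220460302) (.leaf (nat_lit 0x220448902) (nat_lit 772))
 (.leaf (nat_lit 0x220460302) (nat_lit 1026))
) (.node (nat_lit 0x220468302) (.leaf (nat_lit 0x220460b02) (nat_lit 770))
 (.node (nat_lit 0x220468b02) (.leaf (nat_lit 0x220468302) (nat_lit 1282))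
 (.leaf (nat_lit 0x220468b02) (nat_lit 1026))
))) (.node (nat_lit 0x224448802) (.node (nat_lit 0x224440802) (.leaf (nat_lit 0x224440102) (nat_lit 1025))
 (.node (nat_lit 0x224448102) (.leaf (nat_lit 0x224440802) (nat_lit 1281))
 (.leaf (nat_lit 0x224448102) (nat_lit 772))
)) (.node (nat_lit 0x224464302) (.leaf (nat_lit 0x224448802) (nat_lit 1028))
 (.node (nat_lit 0x224464a02) (.leaf (nat_lit 0x224464302) (nat_lit 1282))
 (.leaf (nat_lit 0x224464a02) (nat_lit 1026))
)))) (.node (nat_lit 0x228464302) (.node (nat_lit 0x228444b02) (.node (nat_lit 0x22446ca02) (.leaf (nat_lit 0x22446c302) (nat_lit 1538))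
 (.node (nat_lit 0x228444102) (.leaf (nat_lit 0x22446ca02) (nat_lit 1282))
 (.leaf (nat_lit 0x228444102) (nat_lit 2048))
)) (.node (nat_lit 0x22844c102) (.leaf (nat_lit 0x228444b02) (nat_lit 1795))
 (.node (nat_lit 0x22844cb02) (.leaf (nat_lit 0x22844c102) (nat_lit 2304))
 (.leaf (nat_lit 0x22844cb02) (nat_lit 2051))
))) (.node (nat_lit 0x22846c902) (.node (nat_lit 0x228464902) (.leaf (nat_lit 0x228464302) (nat_lit 1539))
 (.node (nat_lit 0x22846c302) (.leaf (nat_lit 0x228464902) (nat_lit 1792))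
 (.leaf (nat_lit 0x22846c302) (nat_lit 1795))
)) (.node (nat_lit 0x22c444102) (.leaf (nat_lit 0x22846c902) (nat_lit 2048))
 (.node (nat_lit 0x22c444a02) (.leaf (nat_lit 0x22c444102) (nat_lit 1792))
 (.leaf (nat_lit 0x22c444a02) (nat_lit 1539))
))))))) (.node (nat_lit 0x368449b02) (.node (nat_lit 0x360420202) (.node (nat_lit 0x304449b02) (.node (nat_lit 0x22c468802) (.node (nat_lit 0x22c460302) (.node (nat_lit 0x22c44ca02) (.leaf (nat_lit 0x22c44c102) (nat_lit 2048))
 (.leaf (nat_lit 0x22c44ca02) (nat_lit 1795))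
) (.node (nat_lit 0x22c460802) (.leaf (nat_lit 0x22c460302) (nat_lit 1283))
 (.node (nat_lit 0x22c468302) (.leaf (nat_lit 0x22c460802) (nat_lit 1536))
 (.leaf (nat_lit 0x22c468302) (nat_lit 1539))
))) (.node (nat_lit 0x304445a02) (.node (nat_lit 0x304441802) (.leaf (nat_lit 0x22c468802) (nat_lit 1792))
 (.node (nat_lit 0x304441902) (.leaf (nat_lit 0x304441802) (nat_lit 1281))
 (.leaf (nat_lit 0x304441902) (nat_lit 1537))
)) (.node (nat_lit 0x304445b02) (.leaf (nat_lit 0x304445a02) (nat_lit 1282))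
 (.node (nat_lit 0x304449a02) (.leaf (nat_lit 0x304445b02) (nat_lit 1538))
 (.leaf (nat_lit 0x304449a02) (nat_lit 1538))
)))) (.node (nat_lit 0x308425902) (.node (nat_lit 0x30444d902) (.node (nat_lit 0x30444d802) (.leaf (nat_lit 0x304449b02) (nat_lit 1794))
 (.leaf (nat_lit 0x30444d802) (nat_lit 1028))
) (.node (nat_lit 0x308421802) (.leaf (nat_lit 0x30444d902) (nat_lit 1284))
 (.node (nat_lit 0x308421a02) (.leaf (nat_lit 0x308421802) (nat_lit 2560))
 (.leaf (nat_lit 0x308421a02) (nat_lit 2307))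
))) (.node (nat_lit 0x308429b02) (.node (nat_lit 0x308425b02) (.leaf (nat_lit 0x308425902) (nat_lit 2304))
 (.node (nat_lit 0x308429902) (.leaf (nat_lit 0x308425b02) (nat_lit 2051))
 (.leaf (nat_lit 0x308429902) (nat_lit 2560))
)) (.node (nat_lit 0x30842d802) (.leaf (nat_lit 0x308429b02) (nat_lit 2307))
 (.node (nat_lit 0x30842da02) (.leaf (nat_lit 0x30842d802) (nat_lit 2816))
 (.leaf (nat_lit 0x30842da02) (nat_lit 2563))
))))) (.node (nat_lit 0x364429b02) (.node (nat_lit 0x360441902) (.node (nat_lit 0x36042c202) (.node (nat_lit 0x360421a02) (.leaf (nat_lit 0x360420202) (nat_lit 1794))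
 (.leaf (nat_lit 0x360421a02) (nat_lit 2050))
) (.node (nat_lit 0x36042da02) (.leaf (nat_lit 0x36042c202) (nat_lit 2050))
 (.node (nat_lit 0x360440102) (.leaf (nat_lit 0x36042da02) (nat_lit 2306))
 (.leaf (nat_lit 0x360440102) (nat_lit 2049))
))) (.node (nat_lit 0x364424202) (.node (nat_lit 0x36044c102) (.leaf (nat_lit 0x360441902) (nat_lit 1793))
 (.node (nat_lit 0x36044d902) (.leaf (nat_lit 0x36044c102) (nat_lit 1796))
 (.leaf (nat_lit 0x36044d902) (nat_lit 1540))
)) (.node (nat_lit 0x364425b02) (.leaf (nat_lit 0x364424202) (nat_lit 1538))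
 (.node (nat_lit 0x364428202) (.leaf (nat_lit 0x364425b02) (nat_lit 1794))
 (.leaf (nat_lit 0x364428202) (nat_lit 1794))
)))) (.node (nat_lit 0x368421802) (.node (nat_lit 0x36444c102) (.node (nat_lit 0x364440102) (.leaf (nat_lit 0x364429b02) (nat_lit 2050))
 (.node (nat_lit 0x364441802) (.leaf (nat_lit 0x364440102) (nat_lit 1793))
 (.leaf (nat_lit 0x364441802) (nat_lit 1537))
)) (.node (nat_lit 0x36444d802) (.leaf (nat_lit 0x36444c102) (nat_lit 1540))
 (.node (nat_lit 0x368420202) (.leaf (nat_lit 0x36444d802) (nat_lit 1284))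
 (.leaf (nat_lit 0x368420202) (nat_lit 2051))
))) (.node (nat_lit 0x368444102) (.node (nat_lit 0x36842c202) (.leaf (nat_lit 0x368421802) (nat_lit 2304))
 (.node (nat_lit 0x36842d802) (.leaf (nat_lit 0x36842c202) (nat_lit 2307))
 (.leaf (nat_lit 0x36842d802) (nat_lit 2560))
)) (.node (nat_lit 0x368445b02) (.leaf (nat_lit 0x368444102) (nat_lit 2048))
 (.node (nat_lit 0x368448102) (.leaf (nat_lit 0x368445b02) (nat_lit 1795))
 (.leaf (nat_lit 0x368448102) (nat_lit 2304))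
)))))) (.node (nat_lit 0x828465a02) (.node (nat_lit 0x80840d802) (.node (nat_lit 0x36c444102) (.node (nat_lit 0x36c425902) (.node (nat_lit 0x36c424202) (.leaf (nat_lit 0x368449b02) (nat_lit 2051))
 (.leaf (nat_lit 0x36c424202) (nat_lit 1795))
) (.node (nat_lit 0x36c428202) (.leaf (nat_lit 0x36c425902) (nat_lit 2048))
 (.node (nat_lit 0x36c429902) (.leaf (nat_lit 0x36c428202) (nat_lit 2051))
 (.leaf (nat_lit 0x36c429902) (nat_lit 2304))
))) (.node (nat_lit 0x36c449a02) (.node (nat_lit 0x36c445a02) (.leaf (nat_lit 0x36c444102) (nat_lit 1792))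
 (.node (nat_lit 0x36c448102) (.leaf (nat_lit 0x36c445a02) (nat_lit 1539))
 (.leaf (nat_lit 0x36c448102) (nat_lit 2048))
)) (.node (nat_lit 0x808405002) (.leaf (nat_lit 0x36c449a02) (nat_lit 1795))
 (.node (nat_lit 0x808405202) (.leaf (nat_lit 0x808405002) (nat_lit 3074))
 (.leaf (nat_lit 0x808405202) (nat_lit 3330))
)))) (.node (nat_lit 0x80842da02) (.node (nat_lit 0x808425002) (.node (nat_lit 0x80840da02) (.leaf (nat_lit 0x80840d802) (nat_lit 2820))
 (.leaf (nat_lit 0x80840da02) (nat_lit 2564))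
) (.node (nat_lit 0x808425202) (.leaf (nat_lit 0x808425002) (nat_lit 2818))
 (.node (nat_lit 0x80842d802) (.leaf (nat_lit 0x808425202) (nat_lit 3074))
 (.leaf (nat_lit 0x80842d802) (nat_lit 3076))
))) (.node (nat_lit 0x82844d202) (.node (nat_lit 0x828445002) (.leaf (nat_lit 0x80842da02) (nat_lit 2820))
 (.node (nat_lit 0x828445a02) (.leaf (nat_lit 0x828445002) (nat_lit 2818))
 (.leaf (nat_lit 0x828445a02) (nat_lit 3074))
)) (.node (nat_lit 0x82844d802) (.leaf (nat_lit 0x82844d202) (nat_lit 2564))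
 (.node (nat_lit 0x828465002) (.leaf (nat_lit 0x82844d802) (nat_lit 2820))
 (.leaf (nat_lit 0x828465002) (nat_lit 3074))
))))) (.node (nat_lit 0x848404202) (.node (nat_lit 0x840424202) (.node (nat_lit 0x82846d802) (.node (nat_lit 0x82846d202) (.leaf (nat_lit 0x828465a02) (nat_lit 3330))
 (.leaf (nat_lit 0x82846d202) (nat_lit 2820))
) (.node (nat_lit 0x840404202) (.leaf (nat_lit 0x82846d802) (nat_lit 3076))
 (.node (nat_lit 0x840405202) (.leaf (nat_lit 0x840404202) (nat_lit 3843))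
 (.leaf (nat_lit 0x840405202) (nat_lit 3587))
))) (.node (nat_lit 0x840445a02) (.node (nat_lit 0x840425202) (.leaf (nat_lit 0x840424202) (nat_lit 3587))
 (.node (nat_lit 0x840444a02) (.leaf (nat_lit 0x840425202) (nat_lit 3331))
 (.leaf (nat_lit 0x840444a02) (nat_lit 3075))
)) (.node (nat_lit 0x840464a02) (.leaf (nat_lit 0x840445a02) (nat_lit 3331))
 (.node (nat_lit 0x840465a02) (.leaf (nat_lit 0x840464a02) (nat_lit 3331))
 (.leaf (nat_lit 0x840465a02) (nat_lit 3587))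
)))) (.node (nat_lit 0x84846ca02) (.node (nat_lit 0x848425002) (.node (nat_lit 0x848405002) (.leaf (nat_lit 0x848404202) (nat_lit 3586))
 (.node (nat_lit 0x848424202) (.leaf (nat_lit 0x848405002) (nat_lit 3330))
 (.leaf (nat_lit 0x848424202) (nat_lit 3330))
)) (.node (nat_lit 0x84844ca02) (.leaf (nat_lit 0x848425002) (nat_lit 3074))
 (.node (nat_lit 0x84844d802) (.leaf (nat_lit 0x84844ca02) (nat_lit 2820))
 (.leaf (nat_lit 0x84844d802) (nat_lit 3076))
))) (.node (nat_lit 0x86040da02) (.node (nat_lit 0x84846d802) (.leaf (nat_lit 0x84846ca02) (nat_lit 3076))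
 (.node (nat_lit 0x86040c202) (.leaf (nat_lit 0x84846d802) (nat_lit 3332))
 (.leaf (nat_lit 0x86040c202) (nat_lit 2052))
)) (.node (nat_lit 0x86042c202) (.leaf (nat_lit 0x86040da02) (nat_lit 2308))
 (.node (nat_lit 0x86042da02) (.leaf (nat_lit 0x86042c202) (nat_lit 2308))
 (.leaf (nat_lit 0x86042da02) (nat_lit 2564))
)))))))) (.node (nat_lit 0xa4c460802) (.node (nat_lit 0x96440db02) (.node (nat_lit 0x92c44d202) (.node (nat_lit 0x868465002) (.node (nat_lit 0x86840d802) (.node (nat_lit 0x86046ca02) (.node (nat_lit 0x86044d202) (.leaf (nat_lit 0x86044ca02) (nat_lit 2564))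
 (.leaf (nat_lit 0x86044d202) (nat_lit 2308))
) (.node (nat_lit 0x86046d202) (.leaf (nat_lit 0x86046ca02) (nat_lit 2820))
 (.node (nat_lit 0x86840c202) (.leaf (nat_lit 0x86046d202) (nat_lit 2564))
 (.leaf (nat_lit 0x86840c202) (nat_lit 2308))
))) (.node (nat_lit 0x868444a02) (.node (nat_lit 0x86842c202) (.leaf (nat_lit 0x86840d802) (nat_lit 2564))
 (.node (nat_lit 0x86842d802) (.leaf (nat_lit 0x86842c202) (nat_lit 2564))
 (.leaf (nat_lit 0x86842d802) (nat_lit 2820))
)) (.node (nat_lit 0x868445002) (.leaf (nat_lit 0x868444a02) (nat_lit 2818))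
 (.node (nat_lit 0x868464a02) (.leaf (nat_lit 0x868445002) (nat_lit 2562))
 (.leaf (nat_lit 0x868464a02) (nat_lit 3074))
)))) (.node (nat_lit 0x908421002) (.node (nat_lit 0x908405202) (.node (nat_lit 0x908405002) (.leaf (nat_lit 0x868465002) (nat_lit 2818))
 (.leaf (nat_lit 0x908405002) (nat_lit 2818))
) (.node (nat_lit 0x90840d902) (.leaf (nat_lit 0x908405202) (nat_lit 3074))
 (.node (nat_lit 0x90840db02) (.leaf (nat_lit 0x90840d902) (nat_lit 2564))
 (.leaf (nat_lit 0x90840db02) (nat_lit 2308))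
))) (.node (nat_lit 0x908429b02) (.node (nat_lit 0x908421202) (.leaf (nat_lit 0x908421002) (nat_lit 2562))
 (.node (nat_lit 0x908429902) (.leaf (nat_lit 0x908421202) (nat_lit 2818))
 (.leaf (nat_lit 0x908429902) (nat_lit 2820))
)) (.node (nat_lit 0x92c445002) (.leaf (nat_lit 0x908429b02) (nat_lit 2564))
 (.node (nat_lit 0x92c445b02) (.leaf (nat_lit 0x92c445002) (nat_lit 2562))
 (.leaf (nat_lit 0x92c445b02) (nat_lit 2818))
))))) (.node (nat_lit 0x940445b02) (.node (nat_lit 0x92c469902) (.node (nat_lit 0x92c461002) (.node (nat_lit 0x92c44d902) (.leaf (nat_lit 0x92c44d202) (nat_lit 2308))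
 (.leaf (nat_lit 0x92c44d902) (nat_lit 2564))
) (.node (nat_lit 0x92c461b02) (.leaf (nat_lit 0x92c461002) (nat_lit 2818))
 (.node (nat_lit 0x92c469202) (.leaf (nat_lit 0x92c461b02) (nat_lit 3074))
 (.leaf (nat_lit 0x92c469202) (nat_lit 2564))
))) (.node (nat_lit 0x940420202) (.node (nat_lit 0x940404202) (.leaf (nat_lit 0x92c469902) (nat_lit 2820))
 (.node (nat_lit 0x940405202) (.leaf (nat_lit 0x940404202) (nat_lit 3587))
 (.leaf (nat_lit 0x940405202) (nat_lit 3331))
)) (.node (nat_lit 0x940421202) (.leaf (nat_lit 0x940420202) (nat_lit 3331))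
 (.node (nat_lit 0x940444b02) (.leaf (nat_lit 0x940421202) (nat_lit 3075))
 (.leaf (nat_lit 0x940444b02) (nat_lit 2819))
)))) (.node (nat_lit 0x948421002) (.node (nat_lit 0x948404202) (.node (nat_lit 0x940460b02) (.leaf (nat_lit 0x940445b02) (nat_lit 3075))
 (.node (nat_lit 0x940461b02) (.leaf (nat_lit 0x940460b02) (nat_lit 3075))
 (.leaf (nat_lit 0x940461b02) (nat_lit 3331))
)) (.node (nat_lit 0x948405002) (.leaf (nat_lit 0x948404202) (nat_lit 3330))
 (.node (nat_lit 0x948420202) (.leaf (nat_lit 0x948405002) (nat_lit 3074))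
 (.leaf (nat_lit 0x948420202) (nat_lit 3074))
))) (.node (nat_lit 0x948468b02) (.node (nat_lit 0x94844cb02) (.leaf (nat_lit 0x948421002) (nat_lit 2818))
 (.node (nat_lit 0x94844d902) (.leaf (nat_lit 0x94844cb02) (nat_lit 2564))
 (.leaf (nat_lit 0x94844d902) (nat_lit 2820))
)) (.node (nat_lit 0x948469902) (.leaf (nat_lit 0x948468b02) (nat_lit 2820))
 (.node (nat_lit 0x96440c202) (.leaf (nat_lit 0x948469902) (nat_lit 3076))
 (.leaf (nat_lit 0x96440c202) (nat_lit 1796))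
)))))) (.node (nat_lit 0xa0842d302) (.node (nat_lit 0x96c444b02) (.node (nat_lit 0x964468b02) (.node (nat_lit 0x964429b02) (.node (nat_lit 0x964428202) (.leaf (nat_lit 0x96440db02) (nat_lit 2052))
 (.leaf (nat_lit 0x964428202) (nat_lit 2052))
) (.node (nat_lit 0x96444cb02) (.leaf (nat_lit 0x964429b02) (nat_lit 2308))
 (.node (nat_lit 0x96444d202) (.leaf (nat_lit 0x96444cb02) (nat_lit 2308))
 (.leaf (nat_lit 0x96444d202) (nat_lit 2052))
))) (.node (nat_lit 0x96c40d902) (.node (nat_lit 0x964469202) (.leaf (nat_lit 0x964468b02) (nat_lit 2564))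
 (.node (nat_lit 0x96c40c202) (.leaf (nat_lit 0x964469202) (nat_lit 2308))
 (.leaf (nat_lit 0x96c40c202) (nat_lit 2052))
)) (.node (nat_lit 0x96c428202) (.leaf (nat_lit 0x96c40d902) (nat_lit 2308))
 (.node (nat_lit 0x96c429902) (.leaf (nat_lit 0x96c428202) (nat_lit 2308))
 (.leaf (nat_lit 0x96c429902) (nat_lit 2564))
)))) (.node (nat_lit 0xa08405302) (.node (nat_lit 0x96c460b02) (.node (nat_lit 0x96c445002) (.leaf (nat_lit 0x96c444b02) (nat_lit 2562))
 (.leaf (nat_lit 0x96c445002) (nat_lit 2306))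
) (.node (nat_lit 0x96c461002) (.leaf (nat_lit 0x96c460b02) (nat_lit 2818))
 (.node (nat_lit 0xa08405102) (.leaf (nat_lit 0x96c461002) (nat_lit 2562))
 (.leaf (nat_lit 0xa08405102) (nat_lit 1792))
))) (.node (nat_lit 0xa08425902) (.node (nat_lit 0xa0840d902) (.leaf (nat_lit 0xa08405302) (nat_lit 1539))
 (.node (nat_lit 0xa0840db02) (.leaf (nat_lit 0xa0840d902) (nat_lit 2304))
 (.leaf (nat_lit 0xa0840db02) (nat_lit 2051))
)) (.node (nat_lit 0xa08425b02) (.leaf (nat_lit 0xa08425902) (nat_lit 2048))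
 (.node (nat_lit 0xa0842d102) (.leaf (nat_lit 0xa08425b02) (nat_lit 1795))
 (.leaf (nat_lit 0xa0842d102) (nat_lit 2048))
))))) (.node (nat_lit 0xa4442c202) (.node (nat_lit 0xa20461302) (.node (nat_lit 0xa20441902) (.node (nat_lit 0xa20441102) (.leaf (nat_lit 0xa0842d302) (nat_lit 1795))
 (.leaf (nat_lit 0xa20441102) (nat_lit 1025))
) (.node (nat_lit 0xa20449302) (.leaf (nat_lit 0xa20441902) (nat_lit 769))
 (.node (nat_lit 0xa20449b02) (.leaf (nat_lit 0xa20449302) (nat_lit 1282))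
 (.leaf (nat_lit 0xa20449b02) (nat_lit 1026))
))) (.node (nat_lit 0xa20469902) (.node (nat_lit 0xa20461b02) (.leaf (nat_lit 0xa20461302) (nat_lit 1026))
 (.node (nat_lit 0xa20469102) (.leaf (nat_lit 0xa20461b02) (nat_lit 770))
 (.leaf (nat_lit 0xa20469102) (nat_lit 772))
)) (.node (nat_lit 0xa44404202) (.leaf (nat_lit 0xa20469902) (nat_lit 516))
 (.node (nat_lit 0xa44405302) (.leaf (nat_lit 0xa44404202) (nat_lit 1026))
 (.leaf (nat_lit 0xa44405302) (nat_lit 1282))
)))) (.node (nat_lit 0xa4c404202) (.node (nat_lit 0xa44441902) (.node (nat_lit 0xa4442d302) (.leaf (nat_lit 0xa4442c202) (nat_lit 1282))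
 (.node (nat_lit 0xa44440802) (.leaf (nat_lit 0xa4442d302) (nat_lit 1538))
 (.leaf (nat_lit 0xa44440802) (nat_lit 1281))
)) (.node (nat_lit 0xa44468802) (.leaf (nat_lit 0xa44441902) (nat_lit 1025))
 (.node (nat_lit 0xa44469902) (.leaf (nat_lit 0xa44468802) (nat_lit 1028))
 (.leaf (nat_lit 0xa44469902) (nat_lit 772))
))) (.node (nat_lit 0xa4c42d102) (.node (nat_lit 0xa4c405102) (.leaf (nat_lit 0xa4c404202) (nat_lit 1283))
 (.node (nat_lit 0xa4c42c202) (.leaf (nat_lit 0xa4c405102) (nat_lit 1536))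
 (.leaf (nat_lit 0xa4c42c202) (nat_lit 1539))
)) (.node (nat_lit 0xa4c448802) (.leaf (nat_lit 0xa4c42d102) (nat_lit 1792))
 (.node (nat_lit 0xa4c449b02) (.leaf (nat_lit 0xa4c448802) (nat_lit 1536))
 (.leaf (nat_lit 0xa4c449b02) (nat_lit 1283))
))))))) (.node (nat_lit 0xb4c429102) (.node (nat_lit 0xb08421802) (.node (nat_lit 0xa6c40d902) (.node (nat_lit 0xa64425b02) (.node (nat_lit 0xa6440c202) (.node (nat_lit 0xa4c461b02) (.leaf (nat_lit 0xa4c460802) (nat_lit 1280))
 (.leaf (nat_lit 0xa4c461b02) (nat_lit 1027))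
) (.node (nat_lit 0xa6440db02) (.leaf (nat_lit 0xa6440c202) (nat_lit 1538))
 (.node (nat_lit 0xa64424202) (.leaf (nat_lit 0xa6440db02) (nat_lit 1794))
 (.leaf (nat_lit 0xa64424202) (nat_lit 1282))
))) (.node (nat_lit 0xa64468802) (.node (nat_lit 0xa64440802) (.leaf (nat_lit 0xa64425b02) (nat_lit 1538))
 (.node (nat_lit 0xa64441102) (.leaf (nat_lit 0xa64440802) (nat_lit 1537))
 (.leaf (nat_lit 0xa64441102) (nat_lit 1281))
)) (.node (nat_lit 0xa64469102) (.leaf (nat_lit 0xa64468802) (nat_lit 1284))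
 (.node (nat_lit 0xa6c40c202) (.leaf (nat_lit 0xa64469102) (nat_lit 1028))
 (.leaf (nat_lit 0xa6c40c202) (nat_lit 1795))
)))) (.node (nat_lit 0xa6c460802) (.node (nat_lit 0xa6c425902) (.node (nat_lit 0xa6c424202) (.leaf (nat_lit 0xa6c40d902) (nat_lit 2048))
 (.leaf (nat_lit 0xa6c424202) (nat_lit 1539))
) (.node (nat_lit 0xa6c448802) (.leaf (nat_lit 0xa6c425902) (nat_lit 1792))
 (.node (nat_lit 0xa6c449302) (.leaf (nat_lit 0xa6c448802) (nat_lit 1792))
 (.leaf (nat_lit 0xa6c449302) (nat_lit 1539))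
))) (.node (nat_lit 0xb08405302) (.node (nat_lit 0xa6c461302) (.leaf (nat_lit 0xa6c460802) (nat_lit 1536))
 (.node (nat_lit 0xb08405102) (.leaf (nat_lit 0xa6c461302) (nat_lit 1283))
 (.leaf (nat_lit 0xb08405102) (nat_lit 2048))
)) (.node (nat_lit 0xb0840d802) (.leaf (nat_lit 0xb08405302) (nat_lit 1795))
 (.node (nat_lit 0xb0840da02) (.leaf (nat_lit 0xb0840d802) (nat_lit 2560))
 (.leaf (nat_lit 0xb0840da02) (nat_lit 2307))
))))) (.node (nat_lit 0xb2446d802) (.node (nat_lit 0xb24441802) (.node (nat_lit 0xb08429102) (.node (nat_lit 0xb08421a02) (.leaf (nat_lit 0xb08421802) (nat_lit 2304))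
 (.leaf (nat_lit 0xb08421a02) (nat_lit 2051))
) (.node (nat_lit 0xb08429302) (.leaf (nat_lit 0xb08429102) (nat_lit 2304))
 (.node (nat_lit 0xb24441102) (.leaf (nat_lit 0xb08429302) (nat_lit 2051))
 (.leaf (nat_lit 0xb24441102) (nat_lit 1281))
))) (.node (nat_lit 0xb24465302) (.node (nat_lit 0xb24449302) (.leaf (nat_lit 0xb24441802) (nat_lit 1025))
 (.node (nat_lit 0xb24449a02) (.leaf (nat_lit 0xb24449302) (nat_lit 1538))
 (.leaf (nat_lit 0xb24449a02) (nat_lit 1282))
)) (.node (nat_lit 0xb24465a02) (.leaf (nat_lit 0xb24465302) (nat_lit 1282))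
 (.node (nat_lit 0xb2446d102) (.leaf (nat_lit 0xb24465a02) (nat_lit 1026))
 (.leaf (nat_lit 0xb2446d102) (nat_lit 1028))
)))) (.node (nat_lit 0xb44441802) (.node (nat_lit 0xb44428202) (.node (nat_lit 0xb44404202) (.leaf (nat_lit 0xb2446d802) (nat_lit 772))
 (.node (nat_lit 0xb44405302) (.leaf (nat_lit 0xb44404202) (nat_lit 1282))
 (.leaf (nat_lit 0xb44405302) (nat_lit 1538))
)) (.node (nat_lit 0xb44429302) (.leaf (nat_lit 0xb44428202) (nat_lit 1538))
 (.node (nat_lit 0xb44440902) (.leaf (nat_lit 0xb44429302) (nat_lit 1794))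
 (.leaf (nat_lit 0xb44440902) (nat_lit 1537))
))) (.node (nat_lit 0xb4c404202) (.node (nat_lit 0xb4446c902) (.leaf (nat_lit 0xb44441802) (nat_lit 1281))
 (.node (nat_lit 0xb4446d802) (.leaf (nat_lit 0xb4446c902) (nat_lit 1284))
 (.leaf (nat_lit 0xb4446d802) (nat_lit 1028))
)) (.node (nat_lit 0xb4c405102) (.leaf (nat_lit 0xb4c404202) (nat_lit 1539))
 (.node (nat_lit 0xb4c428202) (.leaf (nat_lit 0xb4c405102) (nat_lit 1792))
 (.leaf (nat_lit 0xb4c428202) (nat_lit 1795))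
)))))) (.node (nat_lit 0x1004408902) (.node (nat_lit 0xb6046c902) (.node (nat_lit 0xb6040c202) (.node (nat_lit 0xb4c449a02) (.node (nat_lit 0xb4c448902) (.leaf (nat_lit 0xb4c429102) (nat_lit 2048))
 (.leaf (nat_lit 0xb4c448902) (nat_lit 1792))
) (.node (nat_lit 0xb4c464902) (.leaf (nat_lit 0xb4c449a02) (nat_lit 1539))
 (.node (nat_lit 0xb4c465a02) (.leaf (nat_lit 0xb4c464902) (nat_lit 1536))
 (.leaf (nat_lit 0xb4c465a02) (nat_lit 1283))
))) (.node (nat_lit 0xb60421a02) (.node (nat_lit 0xb6040da02) (.leaf (nat_lit 0xb6040c202) (nat_lit 1794))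
 (.node (nat_lit 0xb60420202) (.leaf (nat_lit 0xb6040da02) (nat_lit 2050))
 (.leaf (nat_lit 0xb60420202) (nat_lit 1538))
)) (.node (nat_lit 0xb60440902) (.leaf (nat_lit 0xb60421a02) (nat_lit 1794))
 (.node (nat_lit 0xb60441102) (.leaf (nat_lit 0xb60440902) (nat_lit 1793))
 (.leaf (nat_lit 0xb60441102) (nat_lit 1537))
)))) (.node (nat_lit 0xb68421802) (.node (nat_lit 0xb6840c202) (.node (nat_lit 0xb6046d102) (.leaf (nat_lit 0xb6046c902) (nat_lit 1540))
 (.leaf (nat_lit 0xb6046d102) (nat_lit 1284))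
) (.node (nat_lit 0xb6840d802) (.leaf (nat_lit 0xb6840c202) (nat_lit 2051))
 (.node (nat_lit 0xb68420202) (.leaf (nat_lit 0xb6840d802) (nat_lit 2304))
 (.leaf (nat_lit 0xb68420202) (nat_lit 1795))
))) (.node (nat_lit 0xb68464902) (.node (nat_lit 0xb68448902) (.leaf (nat_lit 0xb68421802) (nat_lit 2048))
 (.node (nat_lit 0xb68449302) (.leaf (nat_lit 0xb68448902) (nat_lit 2048))
 (.leaf (nat_lit 0xb68449302) (nat_lit 1795))
)) (.node (nat_lit 0xb68465302) (.leaf (nat_lit 0xb68464902) (nat_lit 1792))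
 (.node (nat_lit 0x1004408802) (.leaf (nat_lit 0xb68465302) (nat_lit 1539))
 (.leaf (nat_lit 0x1004408802) (nat_lit 768))
))))) (.node (nat_lit 0x1020448102) (.node (nat_lit 0x100444d802) (.node (nat_lit 0x100440d902) (.node (nat_lit 0x100440d802) (.leaf (nat_lit 0x1004408902) (nat_lit 515))
 (.leaf (nat_lit 0x100440d802) (nat_lit 1026))
) (.node (nat_lit 0x1004448802) (.leaf (nat_lit 0x100440d902) (nat_lit 1282))
 (.node (nat_lit 0x1004448902) (.leaf (nat_lit 0x1004448802) (nat_lit 1024))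
 (.leaf (nat_lit 0x1004448902) (nat_lit 771))
))) (.node (nat_lit 0x1020408902) (.node (nat_lit 0x100444d902) (.leaf (nat_lit 0x100444d802) (nat_lit 770))
 (.node (nat_lit 0x1020408102) (.leaf (nat_lit 0x100444d902) (nat_lit 1026))
 (.leaf (nat_lit 0x1020408102) (nat_lit 0))
)) (.node (nat_lit 0x1020429102) (.leaf (nat_lit 0x1020408902) (nat_lit 256))
 (.node (nat_lit 0x1020429902) (.leaf (nat_lit 0x1020429102) (nat_lit 770))
 (.leaf (nat_lit 0x1020429902) (nat_lit 514))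
)))) (.node (nat_lit 0x102442d102) (.node (nat_lit 0x1020469902) (.node (nat_lit 0x1020448902) (.leaf (nat_lit 0x1020448102) (nat_lit 257))
 (.node (nat_lit 0x1020469102) (.leaf (nat_lit 0x1020448902) (nat_lit 513))
 (.leaf (nat_lit 0x1020469102) (nat_lit 514))
)) (.node (nat_lit 0x1024408102) (.leaf (nat_lit 0x1020469902) (nat_lit 258))
 (.node (nat_lit 0x1024408802) (.leaf (nat_lit 0x1024408102) (nat_lit 259))
 (.leaf (nat_lit 0x1024408802) (nat_lit 512))
))) (.node (nat_lit 0x1024448802) (.node (nat_lit 0x102442d802) (.leaf (nat_lit 0x102442d102) (nat_lit 1026))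
 (.node (nat_lit 0x1024448102) (.leaf (nat_lit 0x102442d802) (nat_lit 770))
 (.leaf (nat_lit 0x1024448102) (nat_lit 515))
)) (.node (nat_lit 0x102446d102) (.leaf (nat_lit 0x1024448802) (nat_lit 768))
 (.node (nat_lit 0x102446d802) (.leaf (nat_lit 0x102446d102) (nat_lit 770))
 (.leaf (nat_lit 0x102446d802) (nat_lit 514))
))))))))) (.node (nat_lit 0x1820449302) (.node (nat_lit 0x122442d302) (.node (nat_lit 0x112c44ca02) (.node (nat_lit 0x1064468802) (.node (nat_lit 0x106042d102) (.node (nat_lit 0x1044469902) (.node (nat_lit 0x104442c902) (.node (nat_lit 0x1044429902) (.leaf (nat_lit 0x1044428802) (nat_lit 1024))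
 (.leaf (nat_lit 0x1044429902) (nat_lit 771))
) (.node (nat_lit 0x104442d802) (.leaf (nat_lit 0x104442c902) (nat_lit 1282))
 (.node (nat_lit 0x1044468802) (.leaf (nat_lit 0x104442d802) (nat_lit 1026))
 (.leaf (nat_lit 0x1044468802) (nat_lit 768))
))) (.node (nat_lit 0x106040c102) (.node (nat_lit 0x104446c902) (.leaf (nat_lit 0x1044469902) (nat_lit 515))
 (.node (nat_lit 0x104446d802) (.leaf (nat_lit 0x104446c902) (nat_lit 1026))
 (.leaf (nat_lit 0x104446d802) (nat_lit 770))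
)) (.node (nat_lit 0x106040d902) (.leaf (nat_lit 0x106040c102) (nat_lit 1795))
 (.node (nat_lit 0x106042c902) (.leaf (nat_lit 0x106040d902) (nat_lit 1539))
 (.leaf (nat_lit 0x106042c902) (nat_lit 1539))
)))) (.node (nat_lit 0x106440c102) (.node (nat_lit 0x106044d902) (.node (nat_lit 0x106044c102) (.leaf (nat_lit 0x106042d102) (nat_lit 1283))
 (.leaf (nat_lit 0x106044c102) (nat_lit 1539))
) (.node (nat_lit 0x106046c902) (.leaf (nat_lit 0x106044d902) (nat_lit 1283))
 (.node (nat_lit 0x106046d102) (.leaf (nat_lit 0x106046c902) (nat_lit 1283))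
 (.leaf (nat_lit 0x106046d102) (nat_lit 1027))
))) (.node (nat_lit 0x1064429102) (.node (nat_lit 0x106440d802) (.leaf (nat_lit 0x106440c102) (nat_lit 1538))
 (.node (nat_lit 0x1064428802) (.leaf (nat_lit 0x106440d802) (nat_lit 1282))
 (.leaf (nat_lit 0x1064428802) (nat_lit 1280))
)) (.node (nat_lit 0x106444c102) (.leaf (nat_lit 0x1064429102) (nat_lit 1027))
 (.node (nat_lit 0x106444d802) (.leaf (nat_lit 0x106444c102) (nat_lit 1282))
 (.leaf (nat_lit 0x106444d802) (nat_lit 1026))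
))))) (.node (nat_lit 0x1128408b02) (.node (nat_lit 0x110440db02) (.node (nat_lit 0x1104408a02) (.node (nat_lit 0x1064469102) (.leaf (nat_lit 0x1064468802) (nat_lit 1024))
 (.leaf (nat_lit 0x1064469102) (nat_lit 771))
) (.node (nat_lit 0x1104408b02) (.leaf (nat_lit 0x1104408a02) (nat_lit 2052))
 (.node (nat_lit 0x110440da02) (.leaf (nat_lit 0x1104408b02) (nat_lit 2308))
 (.leaf (nat_lit 0x110440da02) (nat_lit 1540))
))) (.node (nat_lit 0x110444ca02) (.node (nat_lit 0x1104449a02) (.leaf (nat_lit 0x110440db02) (nat_lit 1796))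
 (.node (nat_lit 0x1104449b02) (.leaf (nat_lit 0x1104449a02) (nat_lit 1796))
 (.leaf (nat_lit 0x1104449b02) (nat_lit 2052))
)) (.node (nat_lit 0x110444cb02) (.leaf (nat_lit 0x110444ca02) (nat_lit 1796))
 (.node (nat_lit 0x1128408102) (.leaf (nat_lit 0x110444cb02) (nat_lit 2052))
 (.leaf (nat_lit 0x1128408102) (nat_lit 2820))
)))) (.node (nat_lit 0x1128465a02) (.node (nat_lit 0x112844c102) (.node (nat_lit 0x1128421002) (.leaf (nat_lit 0x1128408b02) (nat_lit 2564))
 (.node (nat_lit 0x1128421a02) (.leaf (nat_lit 0x1128421002) (nat_lit 2562))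
 (.leaf (nat_lit 0x1128421a02) (nat_lit 2818))
)) (.node (nat_lit 0x112844cb02) (.leaf (nat_lit 0x112844c102) (nat_lit 2564))
 (.node (nat_lit 0x1128465002) (.leaf (nat_lit 0x112844cb02) (nat_lit 2308))
 (.leaf (nat_lit 0x1128465002) (nat_lit 2818))
))) (.node (nat_lit 0x112c425002) (.node (nat_lit 0x112c408102) (.leaf (nat_lit 0x1128465a02) (nat_lit 3074))
 (.node (nat_lit 0x112c408a02) (.leaf (nat_lit 0x112c408102) (nat_lit 2564))
 (.leaf (nat_lit 0x112c408a02) (nat_lit 2308))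
)) (.node (nat_lit 0x112c425b02) (.leaf (nat_lit 0x112c425002) (nat_lit 2306))
 (.node (nat_lit 0x112c44c102) (.leaf (nat_lit 0x112c425b02) (nat_lit 2562))
 (.leaf (nat_lit 0x112c44c102) (nat_lit 2308))
)))))) (.node (nat_lit 0x116c425002) (.node (nat_lit 0x116840c102) (.node (nat_lit 0x1140424b02) (.node (nat_lit 0x112c461b02) (.node (nat_lit 0x112c461002) (.leaf (nat_lit 0x112c44ca02) (nat_lit 2052))
 (.leaf (nat_lit 0x112c461002) (nat_lit 2562))
) (.node (nat_lit 0x1140420a02) (.leaf (nat_lit 0x112c461b02) (nat_lit 2818))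
 (.node (nat_lit 0x1140421a02) (.leaf (nat_lit 0x1140420a02) (nat_lit 2819))
 (.leaf (nat_lit 0x1140421a02) (nat_lit 3075))
))) (.node (nat_lit 0x1140461b02) (.node (nat_lit 0x1140425b02) (.leaf (nat_lit 0x1140424b02) (nat_lit 2563))
 (.node (nat_lit 0x1140460b02) (.leaf (nat_lit 0x1140425b02) (nat_lit 2819))
 (.leaf (nat_lit 0x1140460b02) (nat_lit 2819))
)) (.node (nat_lit 0x1140464a02) (.leaf (nat_lit 0x1140461b02) (nat_lit 3075))
 (.node (nat_lit 0x1140465a02) (.leaf (nat_lit 0x1140464a02) (nat_lit 3075))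
 (.leaf (nat_lit 0x1140465a02) (nat_lit 3331))
)))) (.node (nat_lit 0x1168449b02) (.node (nat_lit 0x1168420a02) (.node (nat_lit 0x116840db02) (.leaf (nat_lit 0x116840c102) (nat_lit 2308))
 (.leaf (nat_lit 0x116840db02) (nat_lit 2052))
) (.node (nat_lit 0x1168421002) (.leaf (nat_lit 0x1168420a02) (nat_lit 2562))
 (.node (nat_lit 0x1168448102) (.leaf (nat_lit 0x1168421002) (nat_lit 2306))
 (.leaf (nat_lit 0x1168448102) (nat_lit 2564))
))) (.node (nat_lit 0x116c40c102) (.node (nat_lit 0x1168464a02) (.leaf (nat_lit 0x1168449b02) (nat_lit 2308))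
 (.node (nat_lit 0x1168465002) (.leaf (nat_lit 0x1168464a02) (nat_lit 2818))
 (.leaf (nat_lit 0x1168465002) (nat_lit 2562))
)) (.node (nat_lit 0x116c40da02) (.leaf (nat_lit 0x116c40c102) (nat_lit 2052))
 (.node (nat_lit 0x116c424b02) (.leaf (nat_lit 0x116c40da02) (nat_lit 1796))
 (.leaf (nat_lit 0x116c424b02) (nat_lit 2306))
))))) (.node (nat_lit 0x1204445a02) (.node (nat_lit 0x1204408802) (.node (nat_lit 0x116c449a02) (.node (nat_lit 0x116c448102) (.leaf (nat_lit 0x116c425002) (nat_lit 2050))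
 (.leaf (nat_lit 0x116c448102) (nat_lit 2308))
) (.node (nat_lit 0x116c460b02) (.leaf (nat_lit 0x116c449a02) (nat_lit 2052))
 (.node (nat_lit 0x116c461002) (.leaf (nat_lit 0x116c460b02) (nat_lit 2562))
 (.leaf (nat_lit 0x116c461002) (nat_lit 2306))
))) (.node (nat_lit 0x120440db02) (.node (nat_lit 0x1204408902) (.leaf (nat_lit 0x1204408802) (nat_lit 1028))
 (.node (nat_lit 0x120440da02) (.leaf (nat_lit 0x1204408902) (nat_lit 772))
 (.leaf (nat_lit 0x120440da02) (nat_lit 1282))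
)) (.node (nat_lit 0x1204440802) (.leaf (nat_lit 0x120440db02) (nat_lit 1538))
 (.node (nat_lit 0x1204440902) (.leaf (nat_lit 0x1204440802) (nat_lit 1281))
 (.leaf (nat_lit 0x1204440902) (nat_lit 1025))
)))) (.node (nat_lit 0x1220440102) (.node (nat_lit 0x1220408902) (.node (nat_lit 0x1204445b02) (.leaf (nat_lit 0x1204445a02) (nat_lit 1026))
 (.node (nat_lit 0x1220408102) (.leaf (nat_lit 0x1204445b02) (nat_lit 1282))
 (.leaf (nat_lit 0x1220408102) (nat_lit 260))
)) (.node (nat_lit 0x1220429302) (.leaf (nat_lit 0x1220408902) (nat_lit 516))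
 (.node (nat_lit 0x1220429b02) (.leaf (nat_lit 0x1220429302) (nat_lit 1026))
 (.leaf (nat_lit 0x1220429b02) (nat_lit 770))
))) (.node (nat_lit 0x1220461b02) (.node (nat_lit 0x1220440902) (.leaf (nat_lit 0x1220440102) (nat_lit 513))
 (.node (nat_lit 0x1220461302) (.leaf (nat_lit 0x1220440902) (nat_lit 769))
 (.leaf (nat_lit 0x1220461302) (nat_lit 770))
)) (.node (nat_lit 0x1224408102) (.leaf (nat_lit 0x1220461b02) (nat_lit 514))
 (.node (nat_lit 0x1224408802) (.leaf (nat_lit 0x1224408102) (nat_lit 516))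
 (.leaf (nat_lit 0x1224408802) (nat_lit 772))
))))))) (.node (nat_lit 0x132846d802) (.node (nat_lit 0x126c40c102) (.node (nat_lit 0x124c461b02) (.node (nat_lit 0x1224465a02) (.node (nat_lit 0x1224440102) (.node (nat_lit 0x122442da02) (.leaf (nat_lit 0x122442d302) (nat_lit 1282))
 (.leaf (nat_lit 0x122442da02) (nat_lit 1026))
) (.node (nat_lit 0x1224440802) (.leaf (nat_lit 0x1224440102) (nat_lit 769))
 (.node (nat_lit 0x1224465302) (.leaf (nat_lit 0x1224440802) (nat_lit 1025))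
 (.leaf (nat_lit 0x1224465302) (nat_lit 1026))
))) (.node (nat_lit 0x124c42c902) (.node (nat_lit 0x124c428802) (.leaf (nat_lit 0x1224465a02) (nat_lit 770))
 (.node (nat_lit 0x124c429b02) (.leaf (nat_lit 0x124c428802) (nat_lit 1280))
 (.leaf (nat_lit 0x124c429b02) (nat_lit 1027))
)) (.node (nat_lit 0x124c42da02) (.leaf (nat_lit 0x124c42c902) (nat_lit 1536))
 (.node (nat_lit 0x124c460802) (.leaf (nat_lit 0x124c42da02) (nat_lit 1283))
 (.leaf (nat_lit 0x124c460802) (nat_lit 1024))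
)))) (.node (nat_lit 0x126842c902) (.node (nat_lit 0x124c465a02) (.node (nat_lit 0x124c464902) (.leaf (nat_lit 0x124c461b02) (nat_lit 771))
 (.leaf (nat_lit 0x124c464902) (nat_lit 1280))
) (.node (nat_lit 0x126840c102) (.leaf (nat_lit 0x124c465a02) (nat_lit 1027))
 (.node (nat_lit 0x126840db02) (.leaf (nat_lit 0x126840c102) (nat_lit 2048))
 (.leaf (nat_lit 0x126840db02) (nat_lit 1795))
))) (.node (nat_lit 0x1268445b02) (.node (nat_lit 0x126842d302) (.leaf (nat_lit 0x126842c902) (nat_lit 1792))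
 (.node (nat_lit 0x1268444102) (.leaf (nat_lit 0x126842d302) (nat_lit 1539))
 (.leaf (nat_lit 0x1268444102) (nat_lit 1792))
)) (.node (nat_lit 0x1268464902) (.leaf (nat_lit 0x1268445b02) (nat_lit 1539))
 (.node (nat_lit 0x1268465302) (.leaf (nat_lit 0x1268464902) (nat_lit 1536))
 (.leaf (nat_lit 0x1268465302) (nat_lit 1283))
))))) (.node (nat_lit 0x130440d902) (.node (nat_lit 0x126c445a02) (.node (nat_lit 0x126c428802) (.node (nat_lit 0x126c40da02) (.leaf (nat_lit 0x126c40c102) (nat_lit 1792))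
 (.leaf (nat_lit 0x126c40da02) (nat_lit 1539))
) (.node (nat_lit 0x126c429302) (.leaf (nat_lit 0x126c428802) (nat_lit 1536))
 (.node (nat_lit 0x126c444102) (.leaf (nat_lit 0x126c429302) (nat_lit 1283))
 (.leaf (nat_lit 0x126c444102) (nat_lit 1536))
))) (.node (nat_lit 0x1304408a02) (.node (nat_lit 0x126c460802) (.leaf (nat_lit 0x126c445a02) (nat_lit 1283))
 (.node (nat_lit 0x126c461302) (.leaf (nat_lit 0x126c460802) (nat_lit 1280))
 (.leaf (nat_lit 0x126c461302) (nat_lit 1027))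
)) (.node (nat_lit 0x1304408b02) (.leaf (nat_lit 0x1304408a02) (nat_lit 1794))
 (.node (nat_lit 0x130440d802) (.leaf (nat_lit 0x1304408b02) (nat_lit 2050))
 (.leaf (nat_lit 0x130440d802) (nat_lit 1284))
)))) (.node (nat_lit 0x1328408b02) (.node (nat_lit 0x1304444a02) (.node (nat_lit 0x1304441802) (.leaf (nat_lit 0x130440d902) (nat_lit 1540))
 (.node (nat_lit 0x1304441902) (.leaf (nat_lit 0x1304441802) (nat_lit 1537))
 (.leaf (nat_lit 0x1304441902) (nat_lit 1793))
)) (.node (nat_lit 0x1304444b02) (.leaf (nat_lit 0x1304444a02) (nat_lit 1538))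
 (.node (nat_lit 0x1328408102) (.leaf (nat_lit 0x1304444b02) (nat_lit 1794))
 (.leaf (nat_lit 0x1328408102) (nat_lit 2560))
))) (.node (nat_lit 0x1328444102) (.node (nat_lit 0x1328421202) (.leaf (nat_lit 0x1328408b02) (nat_lit 2307))
 (.node (nat_lit 0x1328421802) (.leaf (nat_lit 0x1328421202) (nat_lit 2307))
 (.leaf (nat_lit 0x1328421802) (nat_lit 2560))
)) (.node (nat_lit 0x1328444b02) (.leaf (nat_lit 0x1328444102) (nat_lit 2304))
 (.node (nat_lit 0x132846d202) (.leaf (nat_lit 0x1328444b02) (nat_lit 2051))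
 (.leaf (nat_lit 0x132846d202) (nat_lit 2563))
)))))) (.node (nat_lit 0x1360441902) (.node (nat_lit 0x1348424b02) (.node (nat_lit 0x132c444102) (.node (nat_lit 0x132c408a02) (.node (nat_lit 0x132c408102) (.leaf (nat_lit 0x132846d802) (nat_lit 2816))
 (.leaf (nat_lit 0x132c408102) (nat_lit 2304))
) (.node (nat_lit 0x132c425202) (.leaf (nat_lit 0x132c408a02) (nat_lit 2051))
 (.node (nat_lit 0x132c425902) (.leaf (nat_lit 0x132c425202) (nat_lit 2051))
 (.leaf (nat_lit 0x132c425902) (nat_lit 2304))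
))) (.node (nat_lit 0x132c469902) (.node (nat_lit 0x132c444a02) (.leaf (nat_lit 0x132c444102) (nat_lit 2048))
 (.node (nat_lit 0x132c469202) (.leaf (nat_lit 0x132c444a02) (nat_lit 1795))
 (.leaf (nat_lit 0x132c469202) (nat_lit 2307))
)) (.node (nat_lit 0x1348420a02) (.leaf (nat_lit 0x132c469902) (nat_lit 2560))
 (.node (nat_lit 0x1348421802) (.leaf (nat_lit 0x1348420a02) (nat_lit 2563))
 (.leaf (nat_lit 0x1348421802) (nat_lit 2816))
)))) (.node (nat_lit 0x134846d802) (.node (nat_lit 0x1348468b02) (.node (nat_lit 0x1348425902) (.leaf (nat_lit 0x1348424b02) (nat_lit 2307))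
 (.leaf (nat_lit 0x1348425902) (nat_lit 2560))
) (.node (nat_lit 0x1348469902) (.leaf (nat_lit 0x1348468b02) (nat_lit 2563))
 (.node (nat_lit 0x134846ca02) (.leaf (nat_lit 0x1348469902) (nat_lit 2816))
 (.leaf (nat_lit 0x134846ca02) (nat_lit 2819))
))) (.node (nat_lit 0x1360420a02) (.node (nat_lit 0x136040c102) (.leaf (nat_lit 0x134846d802) (nat_lit 3072))
 (.node (nat_lit 0x136040d902) (.leaf (nat_lit 0x136040c102) (nat_lit 2052))
 (.leaf (nat_lit 0x136040d902) (nat_lit 1796))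
)) (.node (nat_lit 0x1360421202) (.leaf (nat_lit 0x1360420a02) (nat_lit 2306))
 (.node (nat_lit 0x1360440102) (.leaf (nat_lit 0x1360421202) (nat_lit 2050))
 (.leaf (nat_lit 0x1360440102) (nat_lit 2305))
))))) (.node (nat_lit 0x180c405002) (.node (nat_lit 0x1364424b02) (.node (nat_lit 0x136046d202) (.node (nat_lit 0x136046ca02) (.leaf (nat_lit 0x1360441902) (nat_lit 2049))
 (.leaf (nat_lit 0x136046ca02) (nat_lit 2562))
) (.node (nat_lit 0x136440c102) (.leaf (nat_lit 0x136046d202) (nat_lit 2306))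
 (.node (nat_lit 0x136440d802) (.leaf (nat_lit 0x136440c102) (nat_lit 1796))
 (.leaf (nat_lit 0x136440d802) (nat_lit 1540))
))) (.node (nat_lit 0x1364441802) (.node (nat_lit 0x1364425202) (.leaf (nat_lit 0x1364424b02) (nat_lit 2050))
 (.node (nat_lit 0x1364440102) (.leaf (nat_lit 0x1364425202) (nat_lit 1794))
 (.leaf (nat_lit 0x1364440102) (nat_lit 2049))
)) (.node (nat_lit 0x1364468b02) (.leaf (nat_lit 0x1364441802) (nat_lit 1793))
 (.node (nat_lit 0x1364469202) (.leaf (nat_lit 0x1364468b02) (nat_lit 2306))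
 (.leaf (nat_lit 0x1364469202) (nat_lit 2050))
)))) (.node (nat_lit 0x180c468802) (.node (nat_lit 0x180c408b02) (.node (nat_lit 0x180c405302) (.leaf (nat_lit 0x180c405002) (nat_lit 1794))
 (.node (nat_lit 0x180c408802) (.leaf (nat_lit 0x180c405302) (nat_lit 2050))
 (.leaf (nat_lit 0x180c408802) (nat_lit 2052))
)) (.node (nat_lit 0x180c465002) (.leaf (nat_lit 0x180c408b02) (nat_lit 1796))
 (.node (nat_lit 0x180c465302) (.leaf (nat_lit 0x180c465002) (nat_lit 2050))
 (.leaf (nat_lit 0x180c465302) (nat_lit 2306))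
))) (.node (nat_lit 0x1820408b02) (.node (nat_lit 0x180c468b02) (.leaf (nat_lit 0x180c468802) (nat_lit 1796))
 (.node (nat_lit 0x1820408302) (.leaf (nat_lit 0x180c468b02) (nat_lit 1540))
 (.leaf (nat_lit 0x1820408302) (nat_lit 1796))
)) (.node (nat_lit 0x1820429302) (.leaf (nat_lit 0x1820408b02) (nat_lit 1540))
 (.node (nat_lit 0x1820429b02) (.leaf (nat_lit 0x1820429302) (nat_lit 1284))
 (.leaf (nat_lit 0x1820429b02) (nat_lit 1028))
)))))))) (.node (nat_lit 0x1a0c46d102) (.node (nat_lit 0x1924408a02) (.node (nat_lit 0x184c428802) (.node (nat_lit 0x182c468802) (.node (nat_lit 0x182c408802) (.node (nat_lit 0x1820468302) (.node (nat_lit 0x1820449b02) (.leaf (nat_lit 0x1820449302) (nat_lit 1540))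
 (.leaf (nat_lit 0x1820449b02) (nat_lit 1284))
) (.node (nat_lit 0x1820468b02) (.leaf (nat_lit 0x1820468302) (nat_lit 1540))
 (.node (nat_lit 0x182c408302) (.leaf (nat_lit 0x1820468b02) (nat_lit 1284))
 (.leaf (nat_lit 0x182c408302) (nat_lit 2052))
))) (.node (nat_lit 0x182c445002) (.node (nat_lit 0x182c425002) (.leaf (nat_lit 0x182c408802) (nat_lit 2308))
 (.node (nat_lit 0x182c425b02) (.leaf (nat_lit 0x182c425002) (nat_lit 2050))
 (.leaf (nat_lit 0x182c425b02) (nat_lit 2306))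
)) (.node (nat_lit 0x182c445b02) (.leaf (nat_lit 0x182c445002) (nat_lit 2306))
 (.node (nat_lit 0x182c468302) (.leaf (nat_lit 0x182c445b02) (nat_lit 2562))
 (.leaf (nat_lit 0x182c468302) (nat_lit 1796))
)))) (.node (nat_lit 0x1840444b02) (.node (nat_lit 0x1840405302) (.node (nat_lit 0x1840404302) (.leaf (nat_lit 0x182c468802) (nat_lit 2052))
 (.leaf (nat_lit 0x1840404302) (nat_lit 2051))
) (.node (nat_lit 0x1840424b02) (.leaf (nat_lit 0x1840405302) (nat_lit 2307))
 (.node (nat_lit 0x1840425b02) (.leaf (nat_lit 0x1840424b02) (nat_lit 2307))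
 (.leaf (nat_lit 0x1840425b02) (nat_lit 2563))
))) (.node (nat_lit 0x1840465302) (.node (nat_lit 0x1840445b02) (.leaf (nat_lit 0x1840444b02) (nat_lit 2563))
 (.node (nat_lit 0x1840464302) (.leaf (nat_lit 0x1840445b02) (nat_lit 2819))
 (.leaf (nat_lit 0x1840464302) (nat_lit 2307))
)) (.node (nat_lit 0x184c404302) (.leaf (nat_lit 0x1840465302) (nat_lit 2563))
 (.node (nat_lit 0x184c405002) (.leaf (nat_lit 0x184c404302) (nat_lit 1794))
 (.leaf (nat_lit 0x184c405002) (nat_lit 1538))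
))))) (.node (nat_lit 0x186c445002) (.node (nat_lit 0x184c465002) (.node (nat_lit 0x184c448802) (.node (nat_lit 0x184c429b02) (.leaf (nat_lit 0x184c428802) (nat_lit 1540))
 (.leaf (nat_lit 0x184c429b02) (nat_lit 1284))
) (.node (nat_lit 0x184c449b02) (.leaf (nat_lit 0x184c448802) (nat_lit 1796))
 (.node (nat_lit 0x184c464302) (.leaf (nat_lit 0x184c449b02) (nat_lit 1540))
 (.leaf (nat_lit 0x184c464302) (nat_lit 2050))
))) (.node (nat_lit 0x186c428802) (.node (nat_lit 0x186c424b02) (.leaf (nat_lit 0x184c465002) (nat_lit 1794))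
 (.node (nat_lit 0x186c425002) (.leaf (nat_lit 0x186c424b02) (nat_lit 2050))
 (.leaf (nat_lit 0x186c425002) (nat_lit 1794))
)) (.node (nat_lit 0x186c429302) (.leaf (nat_lit 0x186c428802) (nat_lit 1796))
 (.node (nat_lit 0x186c444b02) (.leaf (nat_lit 0x186c429302) (nat_lit 1540))
 (.leaf (nat_lit 0x186c444b02) (nat_lit 2306))
)))) (.node (nat_lit 0x190c408a02) (.node (nat_lit 0x190c405002) (.node (nat_lit 0x186c448802) (.leaf (nat_lit 0x186c445002) (nat_lit 2050))
 (.node (nat_lit 0x186c449302) (.leaf (nat_lit 0x186c448802) (nat_lit 2052))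
 (.leaf (nat_lit 0x186c449302) (nat_lit 1796))
)) (.node (nat_lit 0x190c405302) (.leaf (nat_lit 0x190c405002) (nat_lit 2050))
 (.node (nat_lit 0x190c408902) (.leaf (nat_lit 0x190c405302) (nat_lit 2306))
 (.leaf (nat_lit 0x190c408902) (nat_lit 2308))
))) (.node (nat_lit 0x190c46c902) (.node (nat_lit 0x190c461002) (.leaf (nat_lit 0x190c408a02) (nat_lit 2052))
 (.node (nat_lit 0x190c461302) (.leaf (nat_lit 0x190c461002) (nat_lit 2306))
 (.leaf (nat_lit 0x190c461302) (nat_lit 2562))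
)) (.node (nat_lit 0x190c46ca02) (.leaf (nat_lit 0x190c46c902) (nat_lit 2052))
 (.node (nat_lit 0x1924408302) (.leaf (nat_lit 0x190c46ca02) (nat_lit 1796))
 (.leaf (nat_lit 0x1924408302) (nat_lit 2052))
)))))) (.node (nat_lit 0x1940461302) (.node (nat_lit 0x1928445002) (.node (nat_lit 0x192446c302) (.node (nat_lit 0x192442da02) (.node (nat_lit 0x192442d302) (.leaf (nat_lit 0x1924408a02) (nat_lit 1796))
 (.leaf (nat_lit 0x192442d302) (nat_lit 1540))
) (.node (nat_lit 0x1924449302) (.leaf (nat_lit 0x192442da02) (nat_lit 1284))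
 (.node (nat_lit 0x1924449a02) (.leaf (nat_lit 0x1924449302) (nat_lit 1796))
 (.leaf (nat_lit 0x1924449a02) (nat_lit 1540))
))) (.node (nat_lit 0x1928408902) (.node (nat_lit 0x192446ca02) (.leaf (nat_lit 0x192446c302) (nat_lit 1796))
 (.node (nat_lit 0x1928408302) (.leaf (nat_lit 0x192446ca02) (nat_lit 1540))
 (.leaf (nat_lit 0x1928408302) (nat_lit 2308))
)) (.node (nat_lit 0x1928421002) (.leaf (nat_lit 0x1928408902) (nat_lit 2564))
 (.node (nat_lit 0x1928421a02) (.leaf (nat_lit 0x1928421002) (nat_lit 2306))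
 (.leaf (nat_lit 0x1928421a02) (nat_lit 2562))
)))) (.node (nat_lit 0x1940405302) (.node (nat_lit 0x192846c302) (.node (nat_lit 0x1928445a02) (.leaf (nat_lit 0x1928445002) (nat_lit 2562))
 (.leaf (nat_lit 0x1928445a02) (nat_lit 2818))
) (.node (nat_lit 0x192846c902) (.leaf (nat_lit 0x192846c302) (nat_lit 2052))
 (.node (nat_lit 0x1940404302) (.leaf (nat_lit 0x192846c902) (nat_lit 2308))
 (.leaf (nat_lit 0x1940404302) (nat_lit 2307))
))) (.node (nat_lit 0x1940444a02) (.node (nat_lit 0x1940420a02) (.leaf (nat_lit 0x1940405302) (nat_lit 2563))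
 (.node (nat_lit 0x1940421a02) (.leaf (nat_lit 0x1940420a02) (nat_lit 2563))
 (.leaf (nat_lit 0x1940421a02) (nat_lit 2819))
)) (.node (nat_lit 0x1940445a02) (.leaf (nat_lit 0x1940444a02) (nat_lit 2819))
 (.node (nat_lit 0x1940460302) (.leaf (nat_lit 0x1940445a02) (nat_lit 3075))
 (.leaf (nat_lit 0x1940460302) (nat_lit 2563))
))))) (.node (nat_lit 0x196842c902) (.node (nat_lit 0x194c448902) (.node (nat_lit 0x194c405002) (.node (nat_lit 0x194c404302) (.leaf (nat_lit 0x1940461302) (nat_lit 2819))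
 (.leaf (nat_lit 0x194c404302) (nat_lit 2050))
) (.node (nat_lit 0x194c42c902) (.leaf (nat_lit 0x194c405002) (nat_lit 1794))
 (.node (nat_lit 0x194c42da02) (.leaf (nat_lit 0x194c42c902) (nat_lit 1796))
 (.leaf (nat_lit 0x194c42da02) (nat_lit 1540))
))) (.node (nat_lit 0x194c461002) (.node (nat_lit 0x194c449a02) (.leaf (nat_lit 0x194c448902) (nat_lit 2052))
 (.node (nat_lit 0x194c460302) (.leaf (nat_lit 0x194c449a02) (nat_lit 1796))
 (.leaf (nat_lit 0x194c460302) (nat_lit 2306))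
)) (.node (nat_lit 0x1968420a02) (.leaf (nat_lit 0x194c461002) (nat_lit 2050))
 (.node (nat_lit 0x1968421002) (.leaf (nat_lit 0x1968420a02) (nat_lit 2306))
 (.leaf (nat_lit 0x1968421002) (nat_lit 2050))
)))) (.node (nat_lit 0x1a0c405102) (.node (nat_lit 0x1968445002) (.node (nat_lit 0x196842d302) (.leaf (nat_lit 0x196842c902) (nat_lit 2052))
 (.node (nat_lit 0x1968444a02) (.leaf (nat_lit 0x196842d302) (nat_lit 1796))
 (.leaf (nat_lit 0x1968444a02) (nat_lit 2562))
)) (.node (nat_lit 0x1968448902) (.leaf (nat_lit 0x1968445002) (nat_lit 2306))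
 (.node (nat_lit 0x1968449302) (.leaf (nat_lit 0x1968448902) (nat_lit 2308))
 (.leaf (nat_lit 0x1968449302) (nat_lit 2052))
))) (.node (nat_lit 0x1a0c408b02) (.node (nat_lit 0x1a0c405202) (.leaf (nat_lit 0x1a0c405102) (nat_lit 1792))
 (.node (nat_lit 0x1a0c408802) (.leaf (nat_lit 0x1a0c405202) (nat_lit 1539))
 (.leaf (nat_lit 0x1a0c408802) (nat_lit 1792))
)) (.node (nat_lit 0x1a0c460802) (.leaf (nat_lit 0x1a0c408b02) (nat_lit 1539))
 (.node (nat_lit 0x1a0c460b02) (.leaf (nat_lit 0x1a0c460802) (nat_lit 1536))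
 (.leaf (nat_lit 0x1a0c460b02) (nat_lit 1283))
))))))) (.node (nat_lit 0x1b0c408a02) (.node (nat_lit 0x1a44440802) (.node (nat_lit 0x1a2c408802) (.node (nat_lit 0x1a20429902) (.node (nat_lit 0x1a20408302) (.node (nat_lit 0x1a0c46d202) (.leaf (nat_lit 0x1a0c46d102) (nat_lit 2048))
 (.leaf (nat_lit 0x1a0c46d202) (nat_lit 1795))
) (.node (nat_lit 0x1a20408b02) (.leaf (nat_lit 0x1a20408302) (nat_lit 1538))
 (.node (nat_lit 0x1a20429102) (.leaf (nat_lit 0x1a20408b02) (nat_lit 1282))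
 (.leaf (nat_lit 0x1a20429102) (nat_lit 1028))
))) (.node (nat_lit 0x1a20460302) (.node (nat_lit 0x1a20441102) (.leaf (nat_lit 0x1a20429902) (nat_lit 772))
 (.node (nat_lit 0x1a20441902) (.leaf (nat_lit 0x1a20441102) (nat_lit 1281))
 (.leaf (nat_lit 0x1a20441902) (nat_lit 1025))
)) (.node (nat_lit 0x1a20460b02) (.leaf (nat_lit 0x1a20460302) (nat_lit 1282))
 (.node (nat_lit 0x1a2c408302) (.leaf (nat_lit 0x1a20460b02) (nat_lit 1026))
 (.leaf (nat_lit 0x1a2c408302) (nat_lit 1795))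
)))) (.node (nat_lit 0x1a2c460302) (.node (nat_lit 0x1a2c425902) (.node (nat_lit 0x1a2c425202) (.leaf (nat_lit 0x1a2c408802) (nat_lit 2048))
 (.leaf (nat_lit 0x1a2c425202) (nat_lit 1795))
) (.node (nat_lit 0x1a2c44d202) (.leaf (nat_lit 0x1a2c425902) (nat_lit 2048))
 (.node (nat_lit 0x1a2c44d902) (.leaf (nat_lit 0x1a2c44d202) (nat_lit 2051))
 (.leaf (nat_lit 0x1a2c44d902) (nat_lit 2304))
))) (.node (nat_lit 0x1a44405202) (.node (nat_lit 0x1a2c460802) (.leaf (nat_lit 0x1a2c460302) (nat_lit 1539))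
 (.node (nat_lit 0x1a44404302) (.leaf (nat_lit 0x1a2c460802) (nat_lit 1792))
 (.leaf (nat_lit 0x1a44404302) (nat_lit 1538))
)) (.node (nat_lit 0x1a44428802) (.leaf (nat_lit 0x1a44405202) (nat_lit 1282))
 (.node (nat_lit 0x1a44429902) (.leaf (nat_lit 0x1a44428802) (nat_lit 1284))
 (.leaf (nat_lit 0x1a44429902) (nat_lit 1028))
))))) (.node (nat_lit 0x1a4846d102) (.node (nat_lit 0x1a48405102) (.node (nat_lit 0x1a4446c302) (.node (nat_lit 0x1a44441902) (.leaf (nat_lit 0x1a44440802) (nat_lit 1537))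
 (.leaf (nat_lit 0x1a44441902) (nat_lit 1281))
) (.node (nat_lit 0x1a4446d202) (.leaf (nat_lit 0x1a4446c302) (nat_lit 1794))
 (.node (nat_lit 0x1a48404302) (.leaf (nat_lit 0x1a4446d202) (nat_lit 1538))
 (.leaf (nat_lit 0x1a48404302) (nat_lit 1795))
))) (.node (nat_lit 0x1a4844cb02) (.node (nat_lit 0x1a48424b02) (.leaf (nat_lit 0x1a48405102) (nat_lit 2048))
 (.node (nat_lit 0x1a48425902) (.leaf (nat_lit 0x1a48424b02) (nat_lit 2051))
 (.leaf (nat_lit 0x1a48425902) (nat_lit 2304))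
)) (.node (nat_lit 0x1a4844d902) (.leaf (nat_lit 0x1a4844cb02) (nat_lit 2307))
 (.node (nat_lit 0x1a4846c302) (.leaf (nat_lit 0x1a4844d902) (nat_lit 2560))
 (.leaf (nat_lit 0x1a4846c302) (nat_lit 2051))
)))) (.node (nat_lit 0x1a64441102) (.node (nat_lit 0x1a64428802) (.node (nat_lit 0x1a64424b02) (.leaf (nat_lit 0x1a4846d102) (nat_lit 2304))
 (.node (nat_lit 0x1a64425202) (.leaf (nat_lit 0x1a64424b02) (nat_lit 1794))
 (.leaf (nat_lit 0x1a64425202) (nat_lit 1538))
)) (.node (nat_lit 0x1a64429102) (.leaf (nat_lit 0x1a64428802) (nat_lit 1540))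
 (.node (nat_lit 0x1a64440802) (.leaf (nat_lit 0x1a64429102) (nat_lit 1284))
 (.leaf (nat_lit 0x1a64440802) (nat_lit 1793))
))) (.node (nat_lit 0x1b0c405102) (.node (nat_lit 0x1a6444cb02) (.leaf (nat_lit 0x1a64441102) (nat_lit 1537))
 (.node (nat_lit 0x1a6444d202) (.leaf (nat_lit 0x1a6444cb02) (nat_lit 2050))
 (.leaf (nat_lit 0x1a6444d202) (nat_lit 1794))
)) (.node (nat_lit 0x1b0c405202) (.leaf (nat_lit 0x1b0c405102) (nat_lit 2048))
 (.node (nat_lit 0x1b0c408902) (.leaf (nat_lit 0x1b0c405202) (nat_lit 1795))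
 (.leaf (nat_lit 0x1b0c408902) (nat_lit 2048))
)))))) (.node (nat_lit 0x1b44405202) (.node (nat_lit 0x1b24464302) (.node (nat_lit 0x1b24408302) (.node (nat_lit 0x1b0c464a02) (.node (nat_lit 0x1b0c464902) (.leaf (nat_lit 0x1b0c408a02) (nat_lit 1795))
 (.leaf (nat_lit 0x1b0c464902) (nat_lit 1792))
) (.node (nat_lit 0x1b0c469102) (.leaf (nat_lit 0x1b0c464a02) (nat_lit 1539))
 (.node (nat_lit 0x1b0c469202) (.leaf (nat_lit 0x1b0c469102) (nat_lit 2304))
 (.leaf (nat_lit 0x1b0c469202) (nat_lit 2051))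
))) (.node (nat_lit 0x1b2442d802) (.node (nat_lit 0x1b24408a02) (.leaf (nat_lit 0x1b24408302) (nat_lit 1794))
 (.node (nat_lit 0x1b2442d102) (.leaf (nat_lit 0x1b24408a02) (nat_lit 1538))
 (.leaf (nat_lit 0x1b2442d102) (nat_lit 1284))
)) (.node (nat_lit 0x1b24441102) (.leaf (nat_lit 0x1b2442d802) (nat_lit 1028))
 (.node (nat_lit 0x1b24441802) (.leaf (nat_lit 0x1b24441102) (nat_lit 1537))
 (.leaf (nat_lit 0x1b24441802) (nat_lit 1281))
)))) (.node (nat_lit 0x1b28421802) (.node (nat_lit 0x1b28408302) (.node (nat_lit 0x1b24464a02) (.leaf (nat_lit 0x1b24464302) (nat_lit 1538))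
 (.leaf (nat_lit 0x1b24464a02) (nat_lit 1282))
) (.node (nat_lit 0x1b28408902) (.leaf (nat_lit 0x1b28408302) (nat_lit 2051))
 (.node (nat_lit 0x1b28421202) (.leaf (nat_lit 0x1b28408902) (nat_lit 2304))
 (.leaf (nat_lit 0x1b28421202) (nat_lit 2051))
))) (.node (nat_lit 0x1b28464302) (.node (nat_lit 0x1b2844d202) (.leaf (nat_lit 0x1b28421802) (nat_lit 2304))
 (.node (nat_lit 0x1b2844d802) (.leaf (nat_lit 0x1b2844d202) (nat_lit 2307))
 (.leaf (nat_lit 0x1b2844d802) (nat_lit 2560))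
)) (.node (nat_lit 0x1b28464902) (.leaf (nat_lit 0x1b28464302) (nat_lit 1795))
 (.node (nat_lit 0x1b44404302) (.leaf (nat_lit 0x1b28464902) (nat_lit 2048))
 (.leaf (nat_lit 0x1b44404302) (nat_lit 1794))
))))) (.node (nat_lit 0x1b4844ca02) (.node (nat_lit 0x1b44468302) (.node (nat_lit 0x1b4442d802) (.node (nat_lit 0x1b4442c902) (.leaf (nat_lit 0x1b44405202) (nat_lit 1538))
 (.leaf (nat_lit 0x1b4442c902) (nat_lit 1540))
) (.node (nat_lit 0x1b44440902) (.leaf (nat_lit 0x1b4442d802) (nat_lit 1284))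
 (.node (nat_lit 0x1b44441802) (.leaf (nat_lit 0x1b44440902) (nat_lit 1793))
 (.leaf (nat_lit 0x1b44441802) (nat_lit 1537))
))) (.node (nat_lit 0x1b48405102) (.node (nat_lit 0x1b44469202) (.leaf (nat_lit 0x1b44468302) (nat_lit 2050))
 (.node (nat_lit 0x1b48404302) (.leaf (nat_lit 0x1b44469202) (nat_lit 1794))
 (.leaf (nat_lit 0x1b48404302) (nat_lit 2051))
)) (.node (nat_lit 0x1b48420a02) (.leaf (nat_lit 0x1b48405102) (nat_lit 2304))
 (.node (nat_lit 0x1b48421802) (.leaf (nat_lit 0x1b48420a02) (nat_lit 2307))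
 (.leaf (nat_lit 0x1b48421802) (nat_lit 2560))
)))) (.node (nat_lit 0x1b6042c902) (.node (nat_lit 0x1b48469102) (.node (nat_lit 0x1b4844d802) (.leaf (nat_lit 0x1b4844ca02) (nat_lit 2563))
 (.node (nat_lit 0x1b48468302) (.leaf (nat_lit 0x1b4844d802) (nat_lit 2816))
 (.leaf (nat_lit 0x1b48468302) (nat_lit 2307))
)) (.node (nat_lit 0x1b60420a02) (.leaf (nat_lit 0x1b48469102) (nat_lit 2560))
 (.node (nat_lit 0x1b60421202) (.leaf (nat_lit 0x1b60420a02) (nat_lit 2050))
 (.leaf (nat_lit 0x1b60421202) (nat_lit 1794))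
))) (.node (nat_lit 0x1b60441102) (.node (nat_lit 0x1b6042d102) (.leaf (nat_lit 0x1b6042c902) (nat_lit 1796))
 (.node (nat_lit 0x1b60440902) (.leaf (nat_lit 0x1b6042d102) (nat_lit 1540))
 (.leaf (nat_lit 0x1b60440902) (nat_lit 2049))
)) (.node (nat_lit 0x1b6044ca02) (.leaf (nat_lit 0x1b60441102) (nat_lit 1793))
 (.node (nat_lit 0x1b6044d202) (.leaf (nat_lit 0x1b6044ca02) (nat_lit 2306))
 (.leaf (nat_lit 0x1b6044d202) (nat_lit 2050))
))))))))))

theorem xS6_ok : genOK A2 [(nat_lit 0x1020408902), (nat_lit 0x1020448102), (nat_lit 0x1020469902), (nat_lit 0x1024408102), (nat_lit 0x1220408102)] xS6_t (nat_lit 720) = true := by decide +kernel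

end Cfsg.Agent.S33
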